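import Mathlib.AlgebraicGeometry.IdealSheaf.Subscheme
import Mathlib.AlgebraicGeometry.Morphisms.UnderlyingMap
import Mathlib.AlgebraicGeometry.FunctionField

/-!
# Scheme-theoretic images of integral schemes
-/

universe u

open CategoryTheory AlgebraicGeometry CategoryTheory.Limits

namespace Groth.Agent.CycB.ImageInt

variable {Y P : Scheme.{u}}

theorem isReduced_image (f : Y ⟶ P) [QuasiCompact f] [IsReduced Y] : IsReduced f.image := by
  have h : ∀ U : f.ker.subschemeCover.openCover.I₀,
      IsReduced (f.ker.subschemeCover.openCover.X U) := by
    intro U
    have h1 : _root_.IsReduced (Γ(P, U.1) ⧸ f.ker.ideal U) := by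
      have h2 : f.ker.ideal U = RingHom.ker (f.app U.1).hom := f.ker_apply U
      rw [h2]
      exact isReduced_of_injective _ (RingHom.kerLift_injective (f.app U.1).hom)
    exact (affine_isReduced_iff (CommRingCat.of (Γ(P, U.1) ⧸ f.ker.ideal U))).mpr h1
  exact IsReduced.of_openCover _ f.ker.subschemeCover.openCover

/-- The scheme-theoretic image of an integral scheme is integral. -/
theorem isIntegral_image (f : Y ⟶ P) [QuasiCompact f] [IsIntegral Y] : IsIntegral f.image := by
  have hred : IsReduced f.image := isReduced_image f
  have hd : closure (Set.range f.toImage) = Set.univ :=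
    (Scheme.Hom.denseRange f.toImage).closure_range
  have hi : IsIrreducible (Set.univ : Set f.image) := by
    rw [← hd, ← Set.image_univ]
    exact ((IrreducibleSpace.isIrreducible_univ Y).image f.toImage
      f.toImage.continuous.continuousOn).closure
  have hirr : IrreducibleSpace f.image := (irreducibleSpace_def _).mpr hi
  exact isIntegral_of_irreducibleSpace_of_isReduced _

theorem toImage_genericPoint (f : Y ⟶ P) [QuasiCompact f] [IsIntegral Y] [IsIntegral f.image] :
    f.toImage (genericPoint Y) = genericPoint f.image := by
  have hd : closure (Set.range f.toImage) = Set.univ :=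
    (Scheme.Hom.denseRange f.toImage).closure_range
  apply ((genericPoint_spec f.image).eq _).symm
  have := (genericPoint_spec Y).image f.toImage.continuous
  rw [Set.image_univ, hd] at this
  exact this

end Groth.Agent.CycB.ImageInt
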