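import Groth.Agent.CycB.LFCoprod

/-!
# Lengths of stalks of coproducts of `O_X`-modules
-/

set_option autoImplicit false
universe w u

open CategoryTheory CategoryTheory.Limits AlgebraicGeometry

namespace Groth.Agent.CycB.LFCoprod2

open Groth.Agent.CycB.StalkExact Groth.Agent.CycB.LFCoprod

variable {X : Scheme.{u}} {J : Type w} [HasCoproductsOfShape J X.Modules]

theorem stalkLin_add {M N : X.Modules} (f g : M ⟶ N) (x : X) :
    stalkLin (f + g) x = stalkLin f x + stalkLin g x := by
  ext m
  change ((stalkFun x).map (f + g)).hom m = _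
  rw [(stalkFun x).map_add]
  rfl

theorem stalkLin_zero {M N : X.Modules} (x : X) : stalkLin (0 : M ⟶ N) x = 0 := by
  ext m
  change ((stalkFun x).map (0 : M ⟶ N)).hom m = _
  rw [(stalkFun x).map_zero]
  rfl

theorem stalkLin_sum {M N : X.Modules} {ι : Type*} (s : Finset ι) (f : ι → (M ⟶ N)) (x : X) :
    stalkLin (∑ i ∈ s, f i) x = ∑ i ∈ s, stalkLin (f i) x := by
  classical
  induction s using Finset.induction_on with
  | empty => simp [stalkLin_zero]
  | insert a s ha ih => rw [Finset.sum_insert ha, Finset.sum_insert ha, stalkLin_add, ih]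

variable [∀ x : X, PreservesColimitsOfShape (Discrete J) (stalkFun x)]

/-- Two morphisms out of a coproduct agree on the stalk at `x` if they do on all components. -/
theorem stalkLin_sigma_ext (M : J → X.Modules) {N : X.Modules} (f g : ∐ M ⟶ N) (x : X)
    (h : ∀ j, stalkLin (Limits.Sigma.ι M j ≫ f) x = stalkLin (Limits.Sigma.ι M j ≫ g) x) :
    stalkLin f x = stalkLin g x := by
  have key : (stalkFun x).map f = (stalkFun x).map g := by
    refine (isColimitOfPreserves (stalkFun x) (colimit.isColimit (Discrete.functor M))).hom_ext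
      fun j => ?_
    change (stalkFun x).map (Limits.Sigma.ι M j.as) ≫ (stalkFun x).map f =
      (stalkFun x).map (Limits.Sigma.ι M j.as) ≫ (stalkFun x).map g
    rw [← Functor.map_comp, ← Functor.map_comp]
    ext m
    exact LinearMap.congr_fun (h j.as) m
  ext m
  change ((stalkFun x).map f).hom m = ((stalkFun x).map g).hom m
  rw [key]

/-- The stalk of a coproduct at a point where only the modules `M j`, `j ∈ S`, are nonzero is the
product of the stalks of these. -/
noncomputable def stalkSigmaEquiv [DecidableEq J] (M : J → X.Modules) (x : X) (S : Finset J)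
    (hS : ∀ j, j ∉ S → Subsingleton ((M j).presheaf.stalk x)) :
    (∐ M).presheaf.stalk x ≃ₗ[X.presheaf.stalk x] ((j : S) → (M j.1).presheaf.stalk x) :=
  LinearEquiv.ofLinearMap
    (LinearMap.pi fun j : S => stalkLin (Limits.Sigma.π M j.1) x)
    (∑ j : S, (stalkLin (Limits.Sigma.ι M j.1) x).comp (LinearMap.proj j))
    (by
      refine LinearMap.ext fun v => funext fun j => ?_
      simp only [LinearMap.comp_apply, LinearMap.pi_apply, LinearMap.sum_apply,
        LinearMap.proj_apply, map_sum, LinearMap.id_apply]
      rw [Finset.sum_eq_single j]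
      · rw [← LinearMap.comp_apply, ← stalkLin_comp, Sigma.ι_π_eq_id, stalkLin_id]
        rfl
      · intro k _ hk
        rw [← LinearMap.comp_apply, ← stalkLin_comp,
          Sigma.ι_π_of_ne _ (fun h => hk (Subtype.ext h)), stalkLin_zero]
        rfl
      · intro h; exact absurd (Finset.mem_univ j) h)
    (by
      have h1 : (∑ j : S, (stalkLin (Limits.Sigma.ι M j.1) x).comp (LinearMap.proj j)).comp
          (LinearMap.pi fun j : S => stalkLin (Limits.Sigma.π M j.1) x) =
          stalkLin (∑ j ∈ S, Limits.Sigma.π M j ≫ Limits.Sigma.ι M j) x := by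
        rw [stalkLin_sum, ← Finset.sum_coe_sort S]
        refine LinearMap.ext fun m => ?_
        simp only [LinearMap.comp_apply, LinearMap.sum_apply, stalkLin_comp]
        rfl
      rw [h1, ← stalkLin_id]
      refine stalkLin_sigma_ext M _ _ x fun j => ?_
      by_cases hj : j ∈ S
      · rw [Preadditive.comp_sum, Finset.sum_eq_single j]
        · rw [← Category.assoc, Sigma.ι_π_eq_id, Category.id_comp, Category.comp_id]
        · intro k _ hk
          rw [← Category.assoc, Sigma.ι_π_of_ne _ (Ne.symm hk), zero_comp]
        · exact fun h => absurd hj h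
      · have := hS j hj
        exact LinearMap.ext fun m => by rw [Subsingleton.elim m 0, map_zero, map_zero])

/-- Length of the stalk of a coproduct. -/
theorem length_stalk_sigma (M : J → X.Modules) (y : X) (S : Finset J)
    (h : ∀ j, j ∉ S → Subsingleton ((M j).presheaf.stalk y)) :
    Module.length (X.presheaf.stalk y) ((∐ M).presheaf.stalk y) =
      ∑ j ∈ S, Module.length (X.presheaf.stalk y) ((M j).presheaf.stalk y) := by
  classical
  rw [(stalkSigmaEquiv M y S h).length_eq, Module.length_pi_of_fintype]
  exact Finset.sum_coe_sort S fun j =>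
    Module.length (X.presheaf.stalk y) ((M j).presheaf.stalk y)

end Groth.Agent.CycB.LFCoprod2
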