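import Groth.Agent.CycB.DivNat

/-!
# Restriction and pushforward of rational equivalence along immersions
-/

set_option autoImplicit false
universe u v
open CategoryTheory AlgebraicGeometry Topology

namespace Groth.Agent.CycB.RatTransport

open Groth.Agent.CycB.DivNat

/-- The pullback of a cycle along an injective continuous map (e.g. an immersion). -/
noncomputable def comapCycle {Z X : Scheme.{u}} (j : Z ⟶ X) (hj : Function.Injective ⇑j)
    (c : AlgebraicCycle X ℤ) : AlgebraicCycle Z ℤ where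
  toFun z := c (j z)
  supportWithinDomain' := by simp
  supportLocallyFiniteWithinDomain' z _ := by
    obtain ⟨t, ht, hfin⟩ := c.supportLocallyFiniteWithinDomain' (j z) (by trivial)
    refine ⟨⇑j ⁻¹' t, j.continuous.continuousAt.preimage_mem_nhds ht, ?_⟩
    exact (hfin.preimage hj.injOn).subset fun y hy => hy

@[simp]
theorem comapCycle_apply {Z X : Scheme.{u}} (j : Z ⟶ X) (hj : Function.Injective ⇑j)
    (c : AlgebraicCycle X ℤ) (z : Z) : comapCycle j hj c z = c (j z) := rfl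

theorem comapCycle_mem_Zk {Z X : Scheme.{u}} (j : Z ⟶ X) (hj : Function.Injective ⇑j)
    (δ : X → ℤ) (k : ℤ) (c : AlgebraicCycle X ℤ) (hc : c ∈ Cyc.Zk X δ k) :
    comapCycle j hj c ∈ Cyc.Zk Z (fun z => δ (j z)) k := fun z hz => hc (j z) hz

/-- Sum over a subtype outside of which the function vanishes. -/
theorem finsum_subtype_eq {ι : Type*} (p : ι → Prop) (F : ι → ℤ) (h : ∀ i, ¬ p i → F i = 0) :
    ∑ᶠ j : {i // p i}, F j = ∑ᶠ i, F i := by
  rw [finsum_subtype_eq_finsum_cond]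
  refine finsum_congr fun i => ?_
  by_cases hi : p i
  · simp [hi]
  · simp [hi, h i hi]

/-- A rational function on the closure of a point of the image of an immersion comes from the
source, with the same orders. -/
theorem exists_lift {Z X : Scheme.{u}} (i : Z ⟶ X) [IsPreimmersion i] (δ : X → ℤ) (ξ : X)
    (hξ : ξ ∈ Set.range ⇑i) (f : X.residueField ξ) (hf : f ≠ 0) :
    ∃ (ζ : Z) (g : Z.residueField ζ), i ζ = ξ ∧ g ≠ 0 ∧
      ∀ z, Cyc.divFun (fun z => δ (i z)) ζ g z = Cyc.divFun δ ξ f (i z) := by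
  obtain ⟨ζ, rfl⟩ := hξ
  exact ⟨ζ, (i.residueFieldMap ζ).hom f, rfl,
    (map_ne_zero_iff _ (i.residueFieldMap ζ).hom.injective).2 hf,
    fun z => divFun_residueFieldMap i δ ζ z f⟩

/-- A rational function on the source gives one on the target, with the same orders. -/
theorem exists_extend {Z X : Scheme.{u}} (i : Z ⟶ X) [IsPreimmersion i] (δ : X → ℤ) (ζ : Z)
    (g : Z.residueField ζ) (hg : g ≠ 0) :
    ∃ (f : X.residueField (i ζ)), f ≠ 0 ∧
      ∀ z, Cyc.divFun δ (i ζ) f (i z) = Cyc.divFun (fun z => δ (i z)) ζ g z := by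
  refine ⟨(resEquiv i ζ).symm g, by simpa using hg, fun z => ?_⟩
  rw [divFun_eq_divFun_resEquiv_symm]

/-- The local finiteness condition used in `Cyc.RatEquivZero`. -/
abbrev LocFin {X : Scheme.{u}} {ι : Type v} (ξ : ι → X) : Prop :=
  ∀ x : X, ∃ U : Set X, IsOpen U ∧ x ∈ U ∧ {i | (closure {ξ i} ∩ U).Nonempty}.Finite

theorem LocFin.comp {X : Scheme.{u}} {ι κ : Type*} {ξ : ι → X} (h : LocFin ξ) (e : κ → ι)
    (he : Function.Injective e) : LocFin (fun j => ξ (e j)) := by
  intro x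
  obtain ⟨U, hU, hx, hfin⟩ := h x
  exact ⟨U, hU, hx, (hfin.preimage he.injOn).subset fun j hj => hj⟩

/-- A family of points of the image of an embedding, locally finite on the target, is locally
finite on the source. -/
theorem LocFin.lift {Z X : Scheme.{u}} (i : Z ⟶ X) {ι : Type*} {ξ : ι → X} {ζ : ι → Z}
    (h : LocFin ξ) (hζ : ∀ j, i (ζ j) = ξ j) : LocFin ζ := by
  intro z
  obtain ⟨U, hU, hx, hfin⟩ := h (i z)
  refine ⟨⇑i ⁻¹' U, hU.preimage i.continuous, hx, hfin.subset ?_⟩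
  rintro j ⟨y, hy, hyU⟩
  refine ⟨i y, ?_, hyU⟩
  rw [← hζ j]
  have := image_closure_subset_closure_image i.continuous (Set.mem_image_of_mem ⇑i hy)
  simpa using this

/-- Pushing forward a locally finite family along a closed embedding. -/
theorem LocFin.push {Z X : Scheme.{u}} (i : Z ⟶ X) [IsClosedImmersion i] {ι : Type*} {ζ : ι → Z}
    (h : LocFin ζ) : LocFin (fun j => i (ζ j)) := by
  intro x
  have hce : IsClosedEmbedding ⇑i := i.isClosedEmbedding
  have hcl : ∀ j, closure {i (ζ j)} = ⇑i '' closure {ζ j} := fun j => by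
    rw [← hce.closure_image_eq, Set.image_singleton]
  by_cases hx : x ∈ Set.range ⇑i
  · obtain ⟨z, rfl⟩ := hx
    obtain ⟨U, hU, hz, hfin⟩ := h z
    obtain ⟨V, hV, rfl⟩ := hce.isInducing.isOpen_iff.1 hU
    refine ⟨V, hV, hz, hfin.subset ?_⟩
    rintro j ⟨y, hy, hyV⟩
    rw [hcl j] at hy
    obtain ⟨w, hw, rfl⟩ := hy
    exact ⟨w, hw, hyV⟩
  · refine ⟨(Set.range ⇑i)ᶜ, hce.isClosed_range.isOpen_compl, hx, ?_⟩
    convert Set.finite_empty
    ext j
    simp only [Set.mem_ofPred_eq, Set.mem_empty_iff_false, iff_false]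
    rintro ⟨y, hy, hyV⟩
    rw [hcl j] at hy
    obtain ⟨w, -, rfl⟩ := hy
    exact hyV ⟨w, rfl⟩

/-- Extending a locally finite family from an open subscheme of a locally Noetherian scheme. -/
theorem LocFin.extend {Z X : Scheme.{u}} (i : Z ⟶ X) [IsOpenImmersion i] [IsLocallyNoetherian X]
    {ι : Type*} {ζ : ι → Z} (h : LocFin ζ) : LocFin (fun j => i (ζ j)) := by
  intro x
  have hoe : IsOpenEmbedding ⇑i := i.isOpenEmbedding
  obtain ⟨V, hV, hxV, -⟩ := exists_isAffineOpen_mem_and_subset (x := x) (U := ⊤) trivial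
  refine ⟨V, V.isOpen, hxV, ?_⟩
  have hK : IsCompact (⇑i ⁻¹' (V : Set X)) := QuasiCompact.isCompact_preimage (f := i) V V.isOpen hV.isCompact
  have hlf : LocallyFinite fun j => closure {ζ j} := by
    intro z
    obtain ⟨U, hU, hz, hfin⟩ := h z
    exact ⟨U, hU.mem_nhds hz, hfin⟩
  have hfin := hlf.finite_nonempty_inter_compact hK
  refine hfin.subset ?_
  rintro j ⟨y, hy, hyV⟩
  have hm : i (ζ j) ∈ V := by
    have := mem_closure_iff.1 hy V V.isOpen hyV
    obtain ⟨w, hw, hw'⟩ := this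
    rw [Set.mem_singleton_iff] at hw'
    have h2 : w = i (ζ j) := hw'
    exact h2 ▸ hw
  exact ⟨ζ j, subset_closure rfl, hm⟩

/-- Rational equivalence to zero restricts to open subschemes. -/
theorem ratEquivZero_restrict {Z X : Scheme.{u}} (i : Z ⟶ X) [IsOpenImmersion i] (δ : X → ℤ)
    (k : ℤ) (α : AlgebraicCycle X ℤ) (h : Cyc.RatEquivZero δ k α) (β : AlgebraicCycle Z ℤ)
    (hβ : ∀ z, β z = α (i z)) : Cyc.RatEquivZero (fun z => δ (i z)) k β := by
  obtain ⟨ι, ξ, f, hξ, hf, hlf, hα⟩ := h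
  choose ζ g hζ hg hd using fun j : {j : ι // ξ j ∈ Set.range ⇑i} =>
    exists_lift i δ (ξ j.1) j.2 (f j.1) (hf j.1)
  refine ⟨{j : ι // ξ j ∈ Set.range ⇑i}, ζ, g, fun j => by simp only [hζ j, hξ], hg,
    LocFin.lift i (LocFin.comp hlf (Subtype.val) Subtype.val_injective) hζ, fun z => ?_⟩
  rw [hβ, hα, ← finsum_subtype_eq (fun j => ξ j ∈ Set.range ⇑i)]
  · exact finsum_congr fun j => (hd j z).symm
  · intro j hj
    unfold Cyc.divFun
    rw [dif_neg]
    rintro ⟨h, -⟩
    exact hj (h.mem_open i.isOpenEmbedding.isOpen_range ⟨z, rfl⟩)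

/-- Rational equivalence to zero is preserved by pushforward along closed immersions. -/
theorem ratEquivZero_push {Z X : Scheme.{u}} (i : Z ⟶ X) [IsClosedImmersion i] (δ : X → ℤ)
    (k : ℤ) (α : AlgebraicCycle Z ℤ) (h : Cyc.RatEquivZero (fun z => δ (i z)) k α) :
    Cyc.RatEquivZero δ k (AlgebraicCycle.map i (fun z => δ (i z)) δ α) := by
  obtain ⟨ι, ζ, g, hζ, hg, hlf, hα⟩ := h
  choose f hf hd using fun j : ι => exists_extend i δ (ζ j) (g j) (hg j)
  refine ⟨ι, fun j => i (ζ j), f, hζ, hf, LocFin.push i hlf, fun x => ?_⟩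
  by_cases hx : x ∈ Set.range ⇑i
  · obtain ⟨z, rfl⟩ := hx
    rw [map_apply_of_isPreimmersion i _ _ _ _ rfl, hα]
    exact finsum_congr fun j => (hd j z).symm
  · rw [map_apply_notMem_range i _ _ _ _ hx]
    symm
    exact finsum_eq_zero_of_forall_eq_zero fun j =>
      divFun_eq_zero_of_notMem_range i δ (ζ j) (f j) x hx

theorem divFun_eq_zero_of_ne {X : Scheme.{u}} (δ : X → ℤ) (k : ℤ) (ξ : X) (f : X.residueField ξ)
    (hξ : δ ξ = k + 1) (x : X) (hx : δ x ≠ k) : Cyc.divFun δ ξ f x = 0 := by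
  unfold Cyc.divFun
  rw [dif_neg]
  rintro ⟨-, h⟩
  exact hx (by omega)

end Groth.Agent.CycB.RatTransport
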