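import Groth.Agent.CycB.C1Basic
import Groth.Agent.CycB.DivFun
import Groth.Agent.CycB.RatTransport

/-!
# Capping with the first Chern class: finiteness of the sums, change of rational sections
-/

set_option autoImplicit false

universe u v

open CategoryTheory CategoryTheory.Limits AlgebraicGeometry TopologicalSpace Opposite
open Groth.Agent.CycB.ModStalk Cyc

namespace Groth.Agent.CycB.C1Cap

open C1Basic DivFun

variable {X : Scheme.{u}} {δ : X → ℤ} {L : X.Modules}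

theorem secDivFun_apply (δ : X → ℤ) (L : X.Modules) {ξ x : X} (h : ξ ⤳ x) (hd : δ x + 1 = δ ξ)
    (s : secFibre L ξ) : secDivFun δ L ξ s x = secOrdAt L ξ x h s := by
  unfold secDivFun
  rw [dif_pos ⟨h, hd⟩]

theorem secDivFun_eq_zero (δ : X → ℤ) (L : X.Modules) {ξ x : X} (h : ¬ (ξ ⤳ x ∧ δ x + 1 = δ ξ))
    (s : secFibre L ξ) : secDivFun δ L ξ s x = 0 := by
  unfold secDivFun
  rw [dif_neg h]

theorem secDivFun_ne_zero {ξ x : X} {s : secFibre L ξ} (h : secDivFun δ L ξ s x ≠ 0) :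
    ξ ⤳ x ∧ δ x + 1 = δ ξ := by
  by_contra h'
  exact h (secDivFun_eq_zero δ L h' s)

/-- The points of the support of a cycle specializing to a given point form a finite set. -/
theorem finite_support_specializes (α : AlgebraicCycle X ℤ) (x : X) :
    {ξ : X | α ξ ≠ 0 ∧ ξ ⤳ x}.Finite := by
  have h := (locFin_support α).finite_specializes x
  refine (h.image Subtype.val).subset ?_
  rintro ξ ⟨h1, h2⟩
  exact ⟨⟨ξ, h1⟩, h2, rfl⟩

theorem finite_support_mul (α : AlgebraicCycle X ℤ) (x : X) (F : X → ℤ)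
    (hF : ∀ ξ, F ξ ≠ 0 → ξ ⤳ x) : (Function.support fun ξ => α ξ * F ξ).Finite := by
  refine (finite_support_specializes α x).subset ?_
  intro ξ hξ
  exact ⟨left_ne_zero_of_mul hξ, hF ξ (right_ne_zero_of_mul hξ)⟩

theorem finite_support_c1 (α : AlgebraicCycle X ℤ) (x : X) (s : (ξ : X) → secFibre L ξ) :
    (Function.support fun ξ => α ξ * secDivFun δ L ξ (s ξ) x).Finite :=
  finite_support_mul α x _ fun _ h => (secDivFun_ne_zero h).1

theorem c1CapFun_apply (α : X → ℤ) (s : (ξ : X) → secFibre L ξ) (x : X) :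
    c1CapFun δ L α s x = ∑ᶠ ξ : X, α ξ * secDivFun δ L ξ (s ξ) x := rfl

theorem c1CapFun_add (α β : AlgebraicCycle X ℤ) (s : (ξ : X) → secFibre L ξ) :
    c1CapFun δ L (⇑α + ⇑β) s = c1CapFun δ L α s + c1CapFun δ L β s := by
  funext x
  rw [Pi.add_apply, c1CapFun_apply, c1CapFun_apply, c1CapFun_apply,
    ← finsum_add_distrib (finite_support_c1 α x s) (finite_support_c1 β x s)]
  refine finsum_congr fun ξ => ?_
  rw [Pi.add_apply, add_mul]

theorem c1CapFun_neg (α : X → ℤ) (s : (ξ : X) → secFibre L ξ) :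
    c1CapFun δ L (-α) s = - c1CapFun δ L α s := by
  funext x
  rw [Pi.neg_apply, c1CapFun_apply, c1CapFun_apply, ← finsum_neg_distrib]
  refine finsum_congr fun ξ => ?_
  rw [Pi.neg_apply, neg_mul]

theorem c1CapFun_sub (α β : AlgebraicCycle X ℤ) (s : (ξ : X) → secFibre L ξ) :
    c1CapFun δ L (⇑α - ⇑β) s = c1CapFun δ L α s - c1CapFun δ L β s := by
  have := c1CapFun_add (δ := δ) (L := L) α (-β) s
  rw [Function.locallyFinsuppWithin.coe_neg, ← sub_eq_add_neg, c1CapFun_neg, ← sub_eq_add_neg] at this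
  exact this

/-- **Change of rational sections**: the class of `c₁(L) ∩ β` does not depend on the nonzero
rational sections used. -/
theorem ratEquiv_of_c1CapFun (hL : PicF.IsInvertible L) (k : ℤ) (β : AlgebraicCycle X ℤ)
    (hβ : β ∈ Zk X δ (k + 1)) (s s' : (ξ : X) → secFibre L ξ) (hs : ∀ ξ, β ξ ≠ 0 → s ξ ≠ 0)
    (hs' : ∀ ξ, β ξ ≠ 0 → s' ξ ≠ 0)
    (γ γ' : AlgebraicCycle X ℤ) (hγ : ⇑γ = c1CapFun δ L ⇑β s) (hγ' : ⇑γ' = c1CapFun δ L ⇑β s') :
    RatEquiv δ k γ γ' := by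
  have key : ∀ ξ : {ξ : X // β ξ ≠ 0}, ∃ g : X.residueField ξ.1, g ≠ 0 ∧
      secDivFun δ L ξ.1 (s ξ.1) = divFun δ ξ.1 g + secDivFun δ L ξ.1 (s' ξ.1) := fun ξ =>
    exists_secDivFun_eq_add hL δ (hs' ξ.1 ξ.2) (hs ξ.1 ξ.2)
  choose g hg hgs using key
  refine ratEquivZero_of (ι := {ξ : X // β ξ ≠ 0}) (fun ξ => ξ.1) (fun ξ => g ξ ^ β ξ.1)
    (fun ξ => ?_) (fun ξ => zpow_ne_zero _ (hg ξ)) (locFin_support β) _ fun x => ?_
  · by_contra h
    exact ξ.2 (hβ ξ.1 h)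
  · rw [Function.locallyFinsuppWithin.coe_sub, Pi.sub_apply, hγ, hγ', c1CapFun_apply,
      c1CapFun_apply, ← finsum_sub_distrib (finite_support_c1 β x s) (finite_support_c1 β x s')]
    have h1 : ∀ ξ : {ξ : X // β ξ ≠ 0}, divFun δ ξ.1 (g ξ ^ β ξ.1) x =
        β ξ.1 * secDivFun δ L ξ.1 (s ξ.1) x - β ξ.1 * secDivFun δ L ξ.1 (s' ξ.1) x := by
      intro ξ
      rw [OrdFrac.divFun_zpow, hgs ξ, Pi.smul_apply, Pi.add_apply, smul_eq_mul]
      ring
    rw [finsum_congr h1]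
    refine (RatTransport.finsum_subtype_eq (fun ξ : X => β ξ ≠ 0)
      (fun ξ : X => β ξ * secDivFun δ L ξ (s ξ) x - β ξ * secDivFun δ L ξ (s' ξ) x) ?_).symm
    intro ξ hξ
    rw [not_not] at hξ
    rw [hξ]; ring

end Groth.Agent.CycB.C1Cap
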