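import Groth.Agent.CycB.C1Pull
import Groth.Agent.CycB.C1Cap
import Groth.Agent.CycB.DivFun
import Groth.Agent.CycB.DivNat

set_option autoImplicit false
universe u

open CategoryTheory CategoryTheory.Limits AlgebraicGeometry TopologicalSpace Opposite
open Groth.Agent.CycB.ModStalk Groth.Agent.CycB.C1Basic Groth.Agent.CycB.C1Pull
open Groth.Agent.CycB.DivFun Groth.Agent.CycB.C1Cap Cyc

namespace Groth.Agent.CycB.C1Fin

variable {X : Scheme.{u}} {δ : X → ℤ} {L : X.Modules} {k : ℤ}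

/-- Divisors of rational sections of invertible modules are locally finite. -/
theorem locallyFinite_secDivFun [IsLocallyNoetherian X] (hδ : Cyc.IsDimFun X δ)
    (hL : PicF.IsInvertible L) (ξ : X) {s : secFibre L ξ} (hs : s ≠ 0) (x : X) :
    ∃ U : Set X, IsOpen U ∧ x ∈ U ∧ (U ∩ Function.support (secDivFun δ L ξ s)).Finite := by
  obtain ⟨U, hU, t, ht⟩ := exists_isGenOn hL x
  by_cases hξ : ξ ∈ U
  · obtain ⟨g, -, hg⟩ := exists_secDivFun_eq_divFun_on hL δ ht hξ hs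
    obtain ⟨V, hV, hxV, hfin⟩ := locallyFinite_divFun hδ ξ g x
    refine ⟨U ∩ V, U.isOpen.inter hV, ⟨hU, hxV⟩, hfin.subset ?_⟩
    rintro y ⟨⟨hyU, hyV⟩, hy⟩
    refine ⟨hyV, ?_⟩
    rw [Function.mem_support, ← hg y hyU]
    exact hy
  · refine ⟨U, U.isOpen, hU, ?_⟩
    convert Set.finite_empty
    rw [Set.eq_empty_iff_forall_notMem]
    rintro z ⟨hz, hz'⟩
    exact hξ ((secDivFun_ne_zero hz').1.mem_open U.isOpen hz)

theorem c1CapFun_eq_finsum_subtype (α : X → ℤ) (s : (ξ : X) → secFibre L ξ) (x : X) :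
    c1CapFun δ L α s x = ∑ᶠ ξ : {ξ // α ξ ≠ 0}, α ξ.1 * secDivFun δ L ξ.1 (s ξ.1) x :=
  (RatTransport.finsum_subtype_eq (fun ξ : X => α ξ ≠ 0)
    (fun ξ : X => α ξ * secDivFun δ L ξ (s ξ) x) (fun ξ hξ => by
      rw [not_not] at hξ
      rw [hξ, zero_mul])).symm

/-- `c_1(L) ∩ α` is a cycle. -/
theorem exists_cycle_c1Cap [IsLocallyNoetherian X] (hδ : Cyc.IsDimFun X δ)
    (hL : PicF.IsInvertible L) (α : AlgebraicCycle X ℤ) (s : (ξ : X) → secFibre L ξ)
    (hs : ∀ ξ, α ξ ≠ 0 → s ξ ≠ 0) :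
    ∃ γ : AlgebraicCycle X ℤ, ⇑γ = c1CapFun δ L ⇑α s := by
  refine exists_locallyFinsupp _ ?_
  have h1 := locallyFinite_finsum (locFin_support α)
    (fun (ξ : {ξ // α ξ ≠ 0}) x => α ξ.1 * secDivFun δ L ξ.1 (s ξ.1) x)
    (fun ξ x h => (secDivFun_ne_zero (right_ne_zero_of_mul h)).1)
    (fun ξ x => by
      obtain ⟨U, hU, hxU, hfin⟩ := locallyFinite_secDivFun hδ hL ξ.1 (hs _ ξ.2) x
      refine ⟨U, hU, hxU, hfin.subset ?_⟩
      rintro y ⟨hyU, hy⟩
      exact ⟨hyU, right_ne_zero_of_mul hy⟩)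
  have h2 : c1CapFun δ L ⇑α s = fun x => ∑ᶠ ξ : {ξ // α ξ ≠ 0}, α ξ.1 *
      secDivFun δ L ξ.1 (s ξ.1) x := funext fun x => c1CapFun_eq_finsum_subtype _ s x
  rw [h2]
  exact h1

theorem c1Cap_eq_zero_of_ne {α : X → ℤ} (hα : ∀ x, δ x ≠ k + 1 → α x = 0)
    (s : (ξ : X) → secFibre L ξ) (x : X) (hx : δ x ≠ k) : c1CapFun δ L α s x = 0 := by
  unfold c1CapFun
  refine finsum_eq_zero_of_forall_eq_zero fun ξ => ?_
  by_contra hcon
  have h1 := (secDivFun_ne_zero (right_ne_zero_of_mul hcon)).2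
  have h2 : δ ξ = k + 1 := by
    by_contra h
    exact left_ne_zero_of_mul hcon (hα ξ h)
  omega

/-- A locally Noetherian scheme has locally finitely many points without proper generization. -/
theorem locallyFinite_minimal [IsLocallyNoetherian X] (x : X) :
    ∃ U : Set X, IsOpen U ∧ x ∈ U ∧ (U ∩ {ξ : X | ∀ z : X, z ⤳ ξ → z = ξ}).Finite := by
  obtain ⟨U, hU, hxU, -⟩ := exists_isAffineOpen_mem_and_subset (X := X) (x := x) (U := ⊤) trivial
  have hA : IsNoetherianRing Γ(X, U) := IsLocallyNoetherian.component_noetherian ⟨U, hU⟩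
  refine ⟨U, U.isOpen, hxU, ?_⟩
  have hmin : (minimalPrimes Γ(X, U)).Finite := minimalPrimes.finite_of_isNoetherianRing _
  let g : Ideal Γ(X, U) → X := by
    classical exact fun P => if h : P.IsPrime then hU.fromSpec ⟨P, h⟩ else x
  refine (hmin.image g).subset ?_
  rintro ξ ⟨hξU, hξ⟩
  refine ⟨(hU.primeIdealOf ⟨ξ, hξU⟩).asIdeal, ⟨⟨(hU.primeIdealOf ⟨ξ, hξU⟩).2, bot_le⟩, ?_⟩, ?_⟩
  · intro Q hQ hle
    obtain ⟨hw, hw'⟩ := primeIdealOf_fromSpec hU ⟨Q, hQ.1⟩
    have h1 : hU.fromSpec (⟨Q, hQ.1⟩ : PrimeSpectrum _) ⤳ ξ := by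
      rw [← primeIdealOf_le_iff hU ⟨_, hw⟩ ⟨ξ, hξU⟩, hw']
      exact hle
    have h2 := hξ _ h1
    have h3 : hU.primeIdealOf ⟨ξ, hξU⟩ = ⟨Q, hQ.1⟩ := by
      rw [← hw']
      congr 1
      exact Subtype.ext h2.symm
    rw [h3]
  · simp only [g]
    rw [dif_pos (hU.primeIdealOf ⟨ξ, hξU⟩).2]
    exact hU.fromSpec_primeIdealOf ⟨ξ, hξU⟩

open Classical in
theorem subschemeFun_id (δ : X → ℤ) (k : ℤ) (ξ : X) :
    subschemeFun δ k (𝟙 X) ξ = if δ ξ = k then
      ((Module.length (X.presheaf.stalk ξ) (X.presheaf.stalk ξ)).toNat : ℤ) else 0 := by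
  simp only [subschemeFun]
  split_ifs with h
  · rw [← finsum_mem_singleton (a := ξ) (f := fun z : X =>
      ((Module.length (X.presheaf.stalk z) (X.presheaf.stalk z)).toNat : ℤ))]
    refine finsum_mem_congr ?_ (fun _ _ => rfl)
    ext z
    simp
  · rfl

theorem subschemeFun_apply_of_injective {Z : Scheme.{u}} (i : Z ⟶ X)
    (hi : Function.Injective ⇑i) (δ : X → ℤ) (k : ℤ) (ξ : Z) :
    subschemeFun δ k i (i ξ) = subschemeFun (fun z => δ (i z)) k (𝟙 Z) ξ := by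
  classical
  rw [subschemeFun_id]
  simp only [subschemeFun]
  split_ifs with h
  · rw [← finsum_mem_singleton (a := ξ) (f := fun z : Z =>
      ((Module.length (Z.presheaf.stalk z) (Z.presheaf.stalk z)).toNat : ℤ))]
    refine finsum_mem_congr ?_ (fun _ _ => rfl)
    ext z
    simp [hi.eq_iff]
  · rfl

theorem subschemeFun_apply_notMem {Z : Scheme.{u}} (i : Z ⟶ X) (δ : X → ℤ) (k : ℤ) (x : X)
    (hx : x ∉ Set.range ⇑i) : subschemeFun δ k i x = 0 := by
  simp only [subschemeFun]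
  split_ifs with h
  · apply finsum_mem_eq_zero_of_forall_eq_zero
    intro z hz
    exact absurd ⟨z, hz⟩ hx
  · rfl

/-- The fundamental cycle of a scheme all of whose points have dimension at most `k`. -/
theorem exists_cycle_subschemeFun_id [IsLocallyNoetherian X] (hδ : Cyc.IsDimFun X δ)
    (hdim : ∀ x, δ x ≤ k) : ∃ α : AlgebraicCycle X ℤ, ⇑α = subschemeFun δ k (𝟙 X) := by
  classical
  refine exists_locallyFinsupp _ fun x => ?_
  obtain ⟨U, hU, hxU, hfin⟩ := locallyFinite_minimal x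
  refine ⟨U, hU, hxU, hfin.subset ?_⟩
  rintro ξ ⟨hξU, hξ⟩
  refine ⟨hξU, fun z hz => ?_⟩
  rw [Function.mem_support, subschemeFun_id] at hξ
  have h1 : δ ξ = k := by
    by_contra h
    exact hξ (if_neg h)
  by_contra hne
  have h2 := LocQuot.lt_of_specializes hδ hz hne
  have h3 := hdim z
  omega

/-! ### closed immersions -/

theorem isUniversallyCatenary_of_surjective {A B : Type u} [CommRing A] [CommRing B] (f : A →+* B)
    (hf : Function.Surjective f) (hA : CAlg.IsUniversallyCatenary A) :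
    CAlg.IsUniversallyCatenary B := by
  have := hA.1
  refine ⟨isNoetherianRing_of_surjective A B f hf, ?_⟩
  intro S _ _ hS
  let _ : Algebra A B := f.toAlgebra
  let _ : Algebra A S := ((algebraMap B S).comp f).toAlgebra
  have : IsScalarTower A B S := IsScalarTower.of_algebraMap_eq' rfl
  have h1 : Algebra.FiniteType A B := Algebra.FiniteType.of_surjective (Algebra.ofId A B) hf
  exact hA.2 S (Algebra.FiniteType.trans h1 hS)

theorem isSetup_of_isClosedImmersion {Z : Scheme.{u}} (i : Z ⟶ X) [IsClosedImmersion i]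
    (hX : IsSetup X δ) : IsSetup Z (fun z => δ (i z)) := by
  have := hX.1
  refine ⟨LocallyOfFiniteType.isLocallyNoetherian i, fun z =>
    isUniversallyCatenary_of_surjective (i.stalkMap z).hom (i.stalkMap_surjective z) (hX.2.1 (i z)),
    ?_⟩
  intro x y hxy hne
  have hinj : Function.Injective ⇑i := i.isClosedEmbedding.injective
  have h1 := hX.2.2 (i x) (i y) (hxy.map i.continuous) (fun h => hne (hinj h))
  refine ⟨h1.1, fun him => h1.2 fun z hz hz' => ?_⟩
  obtain ⟨w, rfl⟩ : z ∈ Set.range ⇑i :=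
    hz.mem_closed i.isClosedEmbedding.isClosed_range ⟨x, rfl⟩
  rw [DivNat.specializes_iff] at hz hz'
  rcases him w hz hz' with h | h
  · exact Or.inl (congrArg _ h)
  · exact Or.inr (congrArg _ h)

/-- Divisors of rational sections and closed immersions. -/
theorem secDivFun_closedImmersion {Z : Scheme.{u}} (i : Z ⟶ X) [IsPreimmersion i]
    (hL : PicF.IsInvertible L) (δ : X → ℤ) (ξ z : Z) {s : secFibre L (i ξ)} (hs : s ≠ 0) :
    secDivFun δ L (i ξ) s (i z) =
      secDivFun (fun z => δ (i z)) ((Scheme.Modules.pullback i).obj L) ξ (fib i L ξ s) z := by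
  by_cases h : ξ ⤳ z ∧ δ (i z) + 1 = δ (i ξ)
  · have h' : i ξ ⤳ i z := h.1.map i.continuous
    rw [secDivFun_apply δ L h' h.2, secDivFun_apply (fun z => δ (i z)) _ h.1 h.2]
    obtain ⟨g, hg, e1, e2⟩ := exists_secOrdAt_fibMap i hL h' hs
    rw [e1]
    have e3 := e2 ξ z rfl rfl h.1
    rw [fibMap_rfl, rfMap_rfl] at e3
    rw [e3, DivNat.ordAt_residueFieldMap]
  · rw [secDivFun_eq_zero δ L (fun h' => h ⟨(DivNat.specializes_iff i z ξ).1 h'.1, h'.2⟩),
      secDivFun_eq_zero _ _ h]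

theorem c1CapFun_closedImmersion {Z : Scheme.{u}} (i : Z ⟶ X) [IsClosedImmersion i]
    (hL : PicF.IsInvertible L) (δ : X → ℤ) (α : X → ℤ) (hα : ∀ x, x ∉ Set.range ⇑i → α x = 0)
    (s : (ξ : X) → secFibre L ξ) (hs : ∀ ξ, α ξ ≠ 0 → s ξ ≠ 0) (z : Z) :
    c1CapFun δ L α s (i z) = c1CapFun (fun z => δ (i z)) ((Scheme.Modules.pullback i).obj L)
      (fun z => α (i z)) (fun ξ => fib i L ξ (s (i ξ))) z := by
  have hinj : Function.Injective ⇑i := i.isClosedEmbedding.injective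
  rw [c1CapFun_apply, c1CapFun_apply]
  have h1 : ∀ ξ : Z, α (i ξ) * secDivFun (fun z => δ (i z)) ((Scheme.Modules.pullback i).obj L) ξ
      (fib i L ξ (s (i ξ))) z = α (i ξ) * secDivFun δ L (i ξ) (s (i ξ)) (i z) := by
    intro ξ
    by_cases h : α (i ξ) = 0
    · rw [h, zero_mul, zero_mul]
    · rw [secDivFun_closedImmersion i hL δ ξ z (hs _ h)]
  rw [finsum_congr h1, ← finsum_mem_range (f := fun ξ => α ξ * secDivFun δ L ξ (s ξ) (i z)) hinj,
    ← finsum_mem_univ]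
  refine finsum_mem_inter_support_eq' _ _ _ fun ξ hξ => ⟨fun _ => ?_, fun _ => trivial⟩
  by_contra h
  exact left_ne_zero_of_mul hξ (hα ξ h)

theorem c1CapFun_eq_zero_of_notMem {Z : Scheme.{u}} (i : Z ⟶ X) [IsClosedImmersion i]
    (δ : X → ℤ) (α : X → ℤ) (hα : ∀ x, x ∉ Set.range ⇑i → α x = 0)
    (s : (ξ : X) → secFibre L ξ) (x : X) (hx : x ∉ Set.range ⇑i) :
    c1CapFun δ L α s x = 0 := by
  rw [c1CapFun_apply]
  refine finsum_eq_zero_of_forall_eq_zero fun ξ => ?_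
  by_contra hcon
  have h1 : ξ ∈ Set.range ⇑i := by
    by_contra h
    exact left_ne_zero_of_mul hcon (hα ξ h)
  exact hx ((secDivFun_ne_zero (right_ne_zero_of_mul hcon)).1.mem_closed
    i.isClosedEmbedding.isClosed_range h1)

end Groth.Agent.CycB.C1Fin
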