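import Groth.Agent.CycB.C1Pull
import Groth.Agent.CycB.DivNat
import Groth.Agent.CycB.DivFun
import Groth.Agent.Divis.CartierStalk

/-!
# Rational sections, zero schemes and closed immersions

Comparison of `secOrdAt`/`secDivFun` on a closed subscheme with those on the ambient scheme, and
the orders of the value of a global section in terms of its zero scheme.
-/

set_option autoImplicit false
universe u

open CategoryTheory CategoryTheory.Limits AlgebraicGeometry TopologicalSpace Opposite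
open Groth.Agent.CycB.ModStalk Groth.Agent.CycB.C1Basic Groth.Agent.CycB.C1Pull Cyc

namespace Groth.Agent.CycB.GysinCl

variable {D X : Scheme.{u}}

section Closed

variable (i : D ⟶ X) {L : X.Modules}

theorem secOrdAt_fib [SurjectiveOnStalks i] (hL : PicF.IsInvertible L) {ξ d : D} (h : ξ ⤳ d)
    {s : secFibre L (i ξ)} (hs : s ≠ 0) :
    secOrdAt ((Scheme.Modules.pullback i).obj L) ξ d h (fib i L ξ s) =
      secOrdAt L (i ξ) (i d) (h.map i.continuous) s := by
  obtain ⟨g, hg, e1, e2⟩ := exists_secOrdAt_fibMap i hL (h.map i.continuous) hs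
  have e3 := e2 ξ d rfl rfl h
  rw [fibMap_rfl, rfMap_rfl] at e3
  rw [e1, e3]
  exact DivNat.ordAt_residueFieldMap i d ξ h g

theorem secDivFun_fib [IsPreimmersion i] (hL : PicF.IsInvertible L) (δ : X → ℤ) (ξ d : D)
    {s : secFibre L (i ξ)} (hs : s ≠ 0) :
    secDivFun (fun d => δ (i d)) ((Scheme.Modules.pullback i).obj L) ξ (fib i L ξ s) d =
      secDivFun δ L (i ξ) s (i d) := by
  unfold secDivFun
  by_cases h : ξ ⤳ d ∧ δ (i d) + 1 = δ (i ξ)
  · rw [dif_pos h, dif_pos ⟨(DivNat.specializes_iff i d ξ).2 h.1, h.2⟩]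
    exact secOrdAt_fib i hL h.1 hs
  · rw [dif_neg h, dif_neg fun h' => h ⟨(DivNat.specializes_iff i d ξ).1 h'.1, h'.2⟩]

end Closed

section Val

variable {L : X.Modules}

/-- the value of a global section in the fibre -/
noncomputable abbrev val (L : X.Modules) (s : L.presheaf.obj (op ⊤)) (ξ : X) : secFibre L ξ :=
  Submodule.Quotient.mk ((L.presheaf.germ ⊤ ξ trivial) s)

theorem val_eq (s : L.presheaf.obj (op ⊤)) (ξ : X) :
    val L s ξ = cl L ξ ((L.presheaf.germ ⊤ ξ trivial) s) := rfl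

theorem germ_spec (s : L.presheaf.obj (op ⊤)) {ξ x : X} (h : ξ ⤳ x) :
    L.presheaf.stalkSpecializes h ((L.presheaf.germ ⊤ x trivial) s) =
      (L.presheaf.germ ⊤ ξ trivial) s :=
  TopCat.Presheaf.germ_stalkSpecializes_apply L.presheaf (U := ⊤) trivial h s

theorem val_eq_smul (s : L.presheaf.obj (op ⊤)) {ξ x : X} (h : ξ ⤳ x)
    {t : L.presheaf.stalk x} {f : X.presheaf.stalk x}
    (hs : (L.presheaf.germ ⊤ x trivial) s = f • t) :
    val L s ξ = X.presheaf.stalkSpecializes h f • cl L ξ (L.presheaf.stalkSpecializes h t) := by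
  rw [val_eq, ← germ_spec s h, hs, stalkSpecializes_smul, map_smul]

theorem residue_stalkSpecializes {ξ x : X} (h : ξ ⤳ x) (f : X.presheaf.stalk x) :
    X.residue ξ (X.presheaf.stalkSpecializes h f) = specMap x ξ h f := rfl

theorem val_ne_zero_iff_specMap (hL : PicF.IsInvertible L) (s : L.presheaf.obj (op ⊤)) {ξ x : X}
    (h : ξ ⤳ x) {t : L.presheaf.stalk x} (ht : IsGen L x t) {f : X.presheaf.stalk x}
    (hs : (L.presheaf.germ ⊤ x trivial) s = f • t) :
    val L s ξ ≠ 0 ↔ specMap x ξ h f ≠ 0 := by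
  rw [val_eq_smul s h hs, ne_eq, smul_cl_eq_zero_iff (ht.stalkSpecializes hL h),
    residue_stalkSpecializes]

/-- the order of the value of a global section -/
theorem secOrdAt_val (hL : PicF.IsInvertible L) (s : L.presheaf.obj (op ⊤)) {ξ x : X}
    (h : ξ ⤳ x) {t : L.presheaf.stalk x} (ht : IsGen L x t) {f : X.presheaf.stalk x}
    (hs : (L.presheaf.germ ⊤ x trivial) s = f • t) (h0 : val L s ξ ≠ 0) :
    secOrdAt L ξ x h (val L s ξ) = ordAt x ξ h (specMap x ξ h f) := by
  have h1 := (val_ne_zero_iff_specMap hL s h ht hs).1 h0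
  rw [val_eq_smul s h hs, secOrdAt_smul hL h ht _ (by rwa [residue_stalkSpecializes]),
    residue_stalkSpecializes]

theorem isGen_of_val_ne_zero (hL : PicF.IsInvertible L) (s : L.presheaf.obj (op ⊤)) {x : X}
    (h0 : val L s x ≠ 0) : IsGen L x ((L.presheaf.germ ⊤ x trivial) s) := by
  obtain ⟨t, ht⟩ := exists_isGen hL x
  obtain ⟨f, hf⟩ := ht.2 ((L.presheaf.germ ⊤ x trivial) s)
  dsimp only at hf
  rw [val_eq, ← hf, map_smul, ne_eq, smul_cl_eq_zero_iff ht] at h0
  rw [← hf]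
  exact ht.unit_smul ((IsLocalRing.residue_ne_zero_iff_isUnit f).1 h0)

theorem val_ne_zero_of_specializes (hL : PicF.IsInvertible L) (s : L.presheaf.obj (op ⊤))
    {ξ x : X} (h : ξ ⤳ x) (h0 : val L s x ≠ 0) : val L s ξ ≠ 0 := by
  have h1 := (isGen_of_val_ne_zero hL s h0).stalkSpecializes hL h
  rw [germ_spec s h] at h1
  exact cl_ne_zero h1

theorem secOrdAt_val_eq_zero (hL : PicF.IsInvertible L) (s : L.presheaf.obj (op ⊤)) {ξ x : X}
    (h : ξ ⤳ x) (h0 : val L s x ≠ 0) : secOrdAt L ξ x h (val L s ξ) = 0 := by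
  rw [secOrdAt_val hL s h (isGen_of_val_ne_zero hL s h0) (f := 1) (one_smul _ _).symm
    (val_ne_zero_of_specializes hL s h h0)]
  exact ordAt_specMap_of_isUnit h isUnit_one

theorem secDivFun_val_eq_zero (hL : PicF.IsInvertible L) (δ : X → ℤ) (s : L.presheaf.obj (op ⊤))
    {ξ x : X} (h0 : val L s x ≠ 0) : secDivFun δ L ξ (val L s ξ) x = 0 := by
  unfold secDivFun
  split_ifs with h
  · exact secOrdAt_val_eq_zero hL s h.1 h0
  · rfl

/-- Orders only depend on the principal ideal. -/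
theorem ordAt_specMap_eq_of_span_eq {ξ x : X} (h : ξ ⤳ x) {f f' : X.presheaf.stalk x}
    (hf : Ideal.span {f} = Ideal.span {f'}) (h0 : specMap x ξ h f ≠ 0) :
    ordAt x ξ h (specMap x ξ h f) = ordAt x ξ h (specMap x ξ h f') := by
  obtain ⟨a, ha⟩ := Ideal.mem_span_singleton'.1
    (hf ▸ Ideal.mem_span_singleton_self f : f ∈ Ideal.span {f'})
  obtain ⟨b, hb⟩ := Ideal.mem_span_singleton'.1
    (hf ▸ Ideal.mem_span_singleton_self f' : f' ∈ Ideal.span {f})
  have hab : IsUnit (a * b) := by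
    rcases IsLocalRing.isUnit_or_isUnit_one_sub_self (a * b) with h1 | h1
    · exact h1
    · exfalso
      apply h0
      have h2 : (1 - a * b) * f = 0 := by
        rw [sub_mul, one_mul, mul_assoc, hb, ha, sub_self]
      rw [(h1.mul_right_eq_zero).1 h2, map_zero]
  have ha' : IsUnit a := isUnit_of_mul_isUnit_left hab
  have hf'0 : specMap x ξ h f' ≠ 0 := by
    intro h1
    apply h0
    rw [← ha, map_mul, h1, mul_zero]
  have ha0 : specMap x ξ h a ≠ 0 := (ha'.map _).ne_zero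
  rw [← ha, map_mul, ordAt_mul h ha0 hf'0, ordAt_specMap_of_isUnit h ha', zero_add]

theorem gysinChoice_of_ne (s : L.presheaf.obj (op ⊤)) (t : (ξ : X) → secFibre L ξ) {ξ : X}
    (h : val L s ξ ≠ 0) : gysinChoice L s t ξ = val L s ξ := if_pos h

theorem gysinChoice_of_eq (s : L.presheaf.obj (op ⊤)) (t : (ξ : X) → secFibre L ξ) {ξ : X}
    (h : val L s ξ = 0) : gysinChoice L s t ξ = t ξ := if_neg (not_not_intro h)

theorem gysinChoice_ne_zero (s : L.presheaf.obj (op ⊤)) {t : (ξ : X) → secFibre L ξ}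
    (ht : ∀ ξ, t ξ ≠ 0) (ξ : X) : gysinChoice L s t ξ ≠ 0 := by
  by_cases h : val L s ξ = 0
  · rw [gysinChoice_of_eq s t h]; exact ht ξ
  · rw [gysinChoice_of_ne s t h]; exact h

/-- The divisor of the Gysin choice is supported on the zero locus, at points where the value of
`s` is nonzero. -/
theorem secDivFun_gysinChoice_eq_zero (hL : PicF.IsInvertible L) (δ : X → ℤ)
    (s : L.presheaf.obj (op ⊤)) (t : (ξ : X) → secFibre L ξ) {ξ x : X} (h0 : val L s x ≠ 0) :
    secDivFun δ L ξ (gysinChoice L s t ξ) x = 0 := by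
  by_cases h : ξ ⤳ x
  · rw [gysinChoice_of_ne s t (val_ne_zero_of_specializes hL s h h0)]
    exact secDivFun_val_eq_zero hL δ s h0
  · unfold secDivFun
    rw [dif_neg fun h' => h h'.1]

end Val

section ZeroScheme

variable {D' : Scheme.{u}} {i : D ⟶ X} {L : X.Modules} {s : L.presheaf.obj (op ⊤)}

theorem mem_range_iff (hD : IsZeroSchemeOf i L s) (x : X) : x ∈ Set.range ⇑i ↔ val L s x = 0 := by
  rw [hD.1]; rfl

theorem val_apply_eq_zero (hD : IsZeroSchemeOf i L s) (d : D) : val L s (i d) = 0 :=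
  (mem_range_iff hD _).1 ⟨d, rfl⟩

open Groth.Agent.Divis in
theorem exists_stalkIdeal_eq [IsClosedImmersion i] (hL : PicF.IsInvertible L)
    (hD : IsZeroSchemeOf i L s) {x : X} (hx : x ∈ Set.range ⇑i) :
    ∃ (t : L.presheaf.stalk x) (f : X.presheaf.stalk x), IsGen L x t ∧
      (L.presheaf.germ ⊤ x trivial) s = f • t ∧ CartierBasic.stalkIdeal i.ker x = Ideal.span {f} := by
  obtain ⟨d, rfl⟩ := hx
  obtain ⟨t, f, h1, h2, h3⟩ := hD.2 d
  exact ⟨t, f, isGen_of_span_eq_top hL h1, h2, by rw [← CartierStalk.ker_stalkMap, h3]⟩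

open Groth.Agent.Divis in
/-- the stalk ideal of `D ×_X D'` in `D` -/
theorem ker_stalkMap_fst (i : D ⟶ X) (i' : D' ⟶ X) [IsClosedImmersion i']
    (z : ↥(pullback i i')) :
    RingHom.ker ((pullback.fst i i').stalkMap z).hom =
      (CartierBasic.stalkIdeal i'.ker (i (pullback.fst i i' z))).map
        (i.stalkMap (pullback.fst i i' z)).hom := by
  rw [CartierStalk.ker_stalkMap, Scheme.IdealSheafData.ker_fst_of_isClosedImmersion,
    CartierStalk.stalkIdeal_comap]

variable {i' : D' ⟶ X} {L' : X.Modules} {s' : L'.presheaf.obj (op ⊤)}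
  {σ' : ((Scheme.Modules.pullback i).obj L').presheaf.obj (op ⊤)}

theorem val_restrict_ne_zero_iff (hD' : IsZeroSchemeOf i' L' s')
    (hσ' : IsZeroSchemeOf (pullback.fst i i') ((Scheme.Modules.pullback i).obj L') σ') (ξ : D) :
    val ((Scheme.Modules.pullback i).obj L') σ' ξ ≠ 0 ↔ val L' s' (i ξ) ≠ 0 := by
  rw [not_iff_not, ← mem_range_iff hσ', ← mem_range_iff hD', Scheme.Pullback.range_fst]
  rfl

theorem secOrdAt_val_restrict [IsClosedImmersion i] [IsClosedImmersion i']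
    (hL' : PicF.IsInvertible L') (hD' : IsZeroSchemeOf i' L' s')
    (hσ' : IsZeroSchemeOf (pullback.fst i i') ((Scheme.Modules.pullback i).obj L') σ')
    {ξ d : D} (h : ξ ⤳ d) (h0 : val L' s' (i ξ) ≠ 0) :
    secOrdAt ((Scheme.Modules.pullback i).obj L') ξ d h
        (val ((Scheme.Modules.pullback i).obj L') σ' ξ) =
      secOrdAt L' (i ξ) (i d) (h.map i.continuous) (val L' s' (i ξ)) := by
  have hLi := isInvertible_pullback i hL'
  by_cases hd : val L' s' (i d) = 0
  swap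
  · rw [secOrdAt_val_eq_zero hL' s' _ hd, secOrdAt_val_eq_zero hLi σ' h
      ((val_restrict_ne_zero_iff hD' hσ' d).2 hd)]
  obtain ⟨t, f, ht, hf, hI⟩ := exists_stalkIdeal_eq hL' hD' ((mem_range_iff hD' _).2 hd)
  have hd' : d ∈ Set.range ⇑(pullback.fst i i') := by
    rw [mem_range_iff hσ']
    by_contra hcon
    exact (val_restrict_ne_zero_iff hD' hσ' d).1 hcon hd
  obtain ⟨z, rfl⟩ := hd'
  obtain ⟨t₁, f₁, ht₁, hf₁, hI₁⟩ := hσ'.2 z
  rw [ker_stalkMap_fst, hI, Ideal.map_span, Set.image_singleton] at hI₁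
  have h1 := (val_ne_zero_iff_specMap hL' s' (h.map i.continuous) ht hf).1 h0
  have h2 : specMap _ ξ h ((i.stalkMap (pullback.fst i i' z)).hom f) ≠ 0 := by
    rw [← DivNat.residueFieldMap_specMap]
    exact (map_ne_zero (i.residueFieldMap ξ).hom).mpr h1
  rw [secOrdAt_val hL' s' _ ht hf h0, secOrdAt_val hLi σ' h (isGen_of_span_eq_top hLi ht₁) hf₁
    ((val_restrict_ne_zero_iff hD' hσ' ξ).2 h0), ← ordAt_specMap_eq_of_span_eq h hI₁ h2,
    ← DivNat.residueFieldMap_specMap]
  exact DivNat.ordAt_residueFieldMap i _ ξ h _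

theorem secDivFun_val_restrict [IsClosedImmersion i] [IsClosedImmersion i']
    (hL' : PicF.IsInvertible L') (hD' : IsZeroSchemeOf i' L' s')
    (hσ' : IsZeroSchemeOf (pullback.fst i i') ((Scheme.Modules.pullback i).obj L') σ')
    (δ : X → ℤ) (ξ d : D) (h0 : val L' s' (i ξ) ≠ 0) :
    secDivFun (fun d => δ (i d)) ((Scheme.Modules.pullback i).obj L') ξ
        (val ((Scheme.Modules.pullback i).obj L') σ' ξ) d =
      secDivFun δ L' (i ξ) (val L' s' (i ξ)) (i d) := by
  unfold secDivFun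
  by_cases h : ξ ⤳ d ∧ δ (i d) + 1 = δ (i ξ)
  · rw [dif_pos h, dif_pos ⟨(DivNat.specializes_iff i d ξ).2 h.1, h.2⟩]
    exact secOrdAt_val_restrict hL' hD' hσ' h.1 h0
  · rw [dif_neg h, dif_neg fun h' => h ⟨(DivNat.specializes_iff i d ξ).1 h'.1, h'.2⟩]

end ZeroScheme

end Groth.Agent.CycB.GysinCl
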