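import Groth.Agent.CycB.FlatDiv2
import Mathlib.AlgebraicGeometry.Noetherian
import Mathlib.Topology.NoetherianSpace

/-!
# Flat pullback preserves rational equivalence
-/

set_option autoImplicit false
universe u v

open AlgebraicGeometry CategoryTheory TopologicalSpace

namespace Groth.Agent.CycB.FlatRat

open FlatDiv DivFun

variable {X X' : Scheme.{u}} (p : X' ⟶ X)

/-- A Noetherian piece contains only finitely many generic points of a given fibre. -/
theorem finite_allGenPts_mem (ξ : X) (V : Set X') [NoetherianSpace V] :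
    {ζ : AllGenPts p ξ | ζ.1 ∈ V}.Finite := by
  let T : Set X' := {y | y ∈ V ∧ p y = ξ}
  have hT : NoetherianSpace T :=
    NoetherianSpace.of_subset (W := V) (V := T) (fun y hy => hy.1)
  have hfin : (irreducibleComponents T).Finite := NoetherianSpace.finite_irreducibleComponents
  let F : {ζ : AllGenPts p ξ | ζ.1 ∈ V} → irreducibleComponents T := fun ζ =>
    ⟨irreducibleComponent (⟨ζ.1.1, ζ.2, ζ.1.2.1⟩ : T),
      irreducibleComponent_mem_irreducibleComponents _⟩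
  have := hfin.to_subtype
  refine Set.finite_coe_iff.1 (Finite.of_injective F ?_)
  rintro ⟨ζ, hζ⟩ ⟨ζ', hζ'⟩ h
  have h1 : irreducibleComponent (⟨ζ.1, hζ, ζ.2.1⟩ : T) =
    irreducibleComponent (⟨ζ'.1, hζ', ζ'.2.1⟩ : T) := congrArg Subtype.val h
  set C := irreducibleComponent (⟨ζ.1, hζ, ζ.2.1⟩ : T) with hC
  have hCi : IsIrreducible C := isIrreducible_irreducibleComponent
  have hZ : IsIrreducible (closure (Subtype.val '' C)) :=
    (hCi.image _ continuous_subtype_val.continuousOn).closure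
  obtain ⟨η, hη⟩ := QuasiSober.sober hZ isClosed_closure
  have hηζ : η ⤳ ζ.1 := by
    rw [specializes_iff_mem_closure, hη.def]
    exact subset_closure ⟨_, mem_irreducibleComponent, rfl⟩
  have hηζ' : η ⤳ ζ'.1 := by
    rw [specializes_iff_mem_closure, hη.def]
    refine subset_closure ⟨⟨ζ'.1, hζ', ζ'.2.1⟩, ?_, rfl⟩
    rw [h1]
    exact mem_irreducibleComponent
  have hpη : p η = ξ := by
    have h2 : p η ⤳ ξ := by
      have := hηζ.map p.continuous
      rwa [ζ.2.1] at this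
    have h3 : ξ ⤳ p η := by
      rw [specializes_iff_mem_closure]
      have h4 : closure (Subtype.val '' C) ⊆ p ⁻¹' (closure {ξ}) := by
        refine closure_minimal ?_ (isClosed_closure.preimage p.continuous)
        rintro _ ⟨y, -, rfl⟩
        show p y.1 ∈ closure {ξ}
        rw [y.2.2]
        exact subset_closure rfl
      exact h4 (hη.mem)
    exact (h2.antisymm h3).eq
  have e1 : η = ζ.1 := ζ.2.2 η (hpη.trans ζ.2.1.symm) hηζ
  have e2 : η = ζ'.1 := ζ'.2.2 η (hpη.trans ζ'.2.1.symm) hηζ'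
  exact Subtype.ext (Subtype.ext (e1.symm.trans e2))

theorem locFin_allGenPts [IsLocallyNoetherian X'] {ι : Type v} {ξ : ι → X} (hξ : LocFin ξ) :
    LocFin (fun q : Σ i, AllGenPts p (ξ i) => q.2.1) := by
  intro x'
  obtain ⟨U, hU, hxU, hfin⟩ := hξ (p x')
  obtain ⟨V, hV, hxV, hVU⟩ := exists_isAffineOpen_mem_and_subset (X := X') (x := x')
    (U := ⟨p ⁻¹' U, hU.preimage p.continuous⟩) hxU
  have hN : NoetherianSpace V := by
    have := IsLocallyNoetherian.component_noetherian ⟨V, hV⟩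
    exact noetherianSpace_of_isAffineOpen V hV
  have hN' : NoetherianSpace (V : Set X') := hN
  refine ⟨V, V.2, hxV, ?_⟩
  have h1 : {q : Σ i, AllGenPts p (ξ i) | q.2.1 ∈ V} ⊆
      ⋃ i ∈ {i | ξ i ∈ U}, Sigma.mk i '' {ζ : AllGenPts p (ξ i) | ζ.1 ∈ (V : Set X')} := by
    rintro ⟨i, ζ⟩ hq
    have h2 : p ζ.1 ∈ U := hVU hq
    rw [ζ.2.1] at h2
    exact Set.mem_biUnion h2 ⟨ζ, hq, rfl⟩
  exact (hfin.biUnion fun i _ => (finite_allGenPts_mem p (ξ i) V).image _).subset h1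

/-- Stacks 0FVJ: flat pullback with shift preserves rational equivalence to zero. -/
theorem ratEquivZero_pull (δ : X → ℤ) (δ' : X' → ℤ) (hX : Cyc.IsSetup X δ)
    (hX' : Cyc.IsSetup X' δ') [Flat p] (c : ℤ)
    (hc : ∀ x' : X', (∀ y, p y = p x' → y ⤳ x' → y = x') → δ' x' = δ (p x') + c) (k : ℤ)
    (α : AlgebraicCycle X ℤ) (h0 : Cyc.RatEquivZero δ k α) (α' : AlgebraicCycle X' ℤ)
    (hα' : ⇑α' = Cyc.pullFun p δ' δ c ⇑α) : Cyc.RatEquivZero δ' (k + c) α' := by
  have hN := hX.1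
  have hN' := hX'.1
  obtain ⟨ι, ξ, f, h1, h2, h3, h4⟩ := (ratEquivZero_iff α).1 h0
  refine ratEquivZero_sigma (J := ι) (ι := fun i => AllGenPts p (ξ i))
    (fun i ζ => ζ.1) (fun i ζ => (pullRes p ζ.2.1 (f i)) ^ (mult p ζ.1).toNat) ?_ ?_ ?_ α' ?_
  · intro i ζ
    have h5 := hc ζ.1 ζ.2.2
    rw [ζ.2.1, h1 i] at h5
    rw [h5]; ring
  · intro i ζ
    exact pow_ne_zero _ ((map_ne_zero _).2 (h2 i))
  · exact locFin_allGenPts p h3
  · intro x'
    have hpull : ∀ β : X → ℤ, Cyc.pullFun p δ' δ c β x' =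
      if δ' x' = δ (p x') + c then β (p x') * ((mult p x').toNat : ℤ) else 0 := fun _ => rfl
    have hterm : ∀ i, ∑ᶠ ζ : AllGenPts p (ξ i),
        Cyc.divFun δ' ζ.1 ((pullRes p ζ.2.1 (f i)) ^ (mult p ζ.1).toNat) x' =
        Cyc.pullFun p δ' δ c (Cyc.divFun δ (ξ i) (f i)) x' := by
      intro i
      rw [pullFun_divFun p c hX.2.2 hX'.2.2 hc (ξ i) (f i) (h2 i) x']
      refine finsum_congr fun ζ => ?_
      rw [OrdFrac.divFun_pow]
      simp
    rw [finsum_congr hterm, hα']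
    simp only [hpull]
    split_ifs with hd
    · rw [h4, finsum_mul]
    · rw [finsum_zero]

/-- Stacks 02S1. -/
theorem ratEquiv_pull_flat {X Y : Scheme.{u}} (δX : X → ℤ) (δY : Y → ℤ) (hX : Cyc.IsSetup X δX)
    (hY : Cyc.IsSetup Y δY) (f : X ⟶ Y) [Flat f] [LocallyOfFiniteType f] (r : ℕ)
    (hr : Cyc.HasRelDim f r) (hδ : Cyc.DeltaCompat f δX δY) (k : ℤ) (α β : AlgebraicCycle Y ℤ)
    (h : Cyc.RatEquiv δY k α β)
    (α' β' : AlgebraicCycle X ℤ) (hα' : ⇑α' = Cyc.pullFun f δX δY r ⇑α)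
    (hβ' : ⇑β' = Cyc.pullFun f δX δY r ⇑β) : Cyc.RatEquiv δX (k + r) α' β' := by
  refine ratEquivZero_pull f δY δX hY hX (r : ℤ) (fun x' hx' => ?_) k (α - β) h (α' - β') ?_
  · exact delta_of_fibGen f hr hδ x' hx'
  · funext x
    have h1 : (α' - β') x = α' x - β' x := rfl
    have h2 : ⇑(α - β) = fun y => α y - β y := rfl
    rw [h1, hα', hβ', h2]
    simp only [Cyc.pullFun]
    split_ifs
    · ring
    · ring

end Groth.Agent.CycB.FlatRat
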