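import Groth.Prelude.Def_CohB1
import Mathlib.AlgebraicGeometry.ProjectiveSpectrum.Proper
import Mathlib.AlgebraicGeometry.Morphisms.Separated
import Mathlib.AlgebraicGeometry.Morphisms.QuasiSeparated

/-!
# `P^n_X ⟶ X` is separated
-/

universe u

open CategoryTheory AlgebraicGeometry CategoryTheory.Limits

namespace Groth.Agent.CycB.P1Sep

theorem isSeparated_toSpec (n : ℕ) (R : Type u) [CommRing R] :
    IsSeparated (CohB1.ProjSpace.toSpec n R) := by
  unfold CohB1.ProjSpace.toSpec CohB1.ProjSpace
  infer_instance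

theorem isSeparated_toBase (n : ℕ) (X : Scheme.{u}) :
    IsSeparated (CohB1.ProjSpaceOver.toBase n X) := by
  have := isSeparated_toSpec n (ULift.{u} ℤ)
  unfold CohB1.ProjSpaceOver.toBase CohB1.ProjSpaceOver
  infer_instance

end Groth.Agent.CycB.P1Sep
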