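import Groth.Agent.CycB.P1PtClosure
import Groth.Agent.CycB.DivFun
import Groth.Agent.PerfB.ProjSpaceCover
import Mathlib.FieldTheory.AlgebraicClosure

/-!
# The fibres over `0` and `∞` of an integral closed subscheme of `P^1_X` are rationally equivalent
-/

universe u

open CategoryTheory AlgebraicGeometry CategoryTheory.Limits

namespace Groth.Agent.CycB.P1Fibre

open P1 Groth.Agent.CycB.P1Chart Groth.Agent.CycB.GraphPt Groth.Agent.CycB.GraphFac
  Groth.Agent.CycB.GraphMult Groth.Agent.CycB.GraphOrd Groth.Agent.CycB.P1PtClosure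
  Groth.Agent.CycB.ClosedFac

variable {X : Scheme.{u}} {δ : X → ℤ}

theorem exists_chart (q : CohB1.ProjSpace 1 R0.{u}) :
    ∃ i : Fin (1 + 1), q ∈ Set.range (chartι.{u} i) := by
  obtain ⟨j, hj⟩ := PerfB.ProjSpaceCover.exists_mem_basicOpen_X 1 R0.{u} q
  refine ⟨j, ?_⟩
  have h := Proj.opensRange_awayι grading.{u} (T j) (X_mem j) one_pos
  rw [← h] at hj
  exact hj

/-- A field valued point off the two sections is `[1 : t]` with `t ≠ 0`. -/
theorem exists_pt_of_notMem {K : CommRingCat.{u}} (hK : IsField K)
    (a : Spec K ⟶ CohB1.ProjSpaceOver 1 X) (y : Spec K)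
    (h : ∀ i, a y ∉ Set.range (P1.sect X i)) :
    ∃ t : K, t ≠ 0 ∧ a = pt 0 (a ≫ CohB1.ProjSpaceOver.toBase 1 X) t := by
  have hloc : IsLocalRing K := by
    let := hK.toField
    infer_instance
  have hsub : Subsingleton (Spec K) := by
    let := hK.toField
    exact inferInstanceAs (Subsingleton (PrimeSpectrum K))
  obtain ⟨i, hi⟩ := exists_chart (toZ X (a (IsLocalRing.closedPoint K)))
  obtain ⟨b, hb⟩ := exists_pt i a hi
  have hb0 : b ≠ 0 := by
    rintro rfl
    rw [pt_zero] at hb
    apply h i
    rw [hb, Scheme.Hom.comp_apply]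
    exact ⟨_, rfl⟩
  by_cases hi0 : i = 0
  · subst hi0
    exact ⟨b, hb0, hb⟩
  · have hi1 : i = 1 := by
      fin_cases i
      · exact absurd rfl hi0
      · rfl
    subst hi1
    obtain ⟨c, hc⟩ := hK.mul_inv_cancel hb0
    refine ⟨c, ?_, ?_⟩
    · rintro rfl
      rw [mul_zero] at hc
      exact hK.nontrivial.exists_pair_ne.elim fun a ha => ha.elim fun b hb =>
        hb (by rw [← mul_one a, ← mul_one b, ← hc, mul_zero, mul_zero])
    · refine hb.trans ?_
      exact pt_inv 1 _ hc

/-- The constant term ideal at a transcendental element. -/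
theorem constIdeal_of_transcendental {A F K : Type*} [CommRing A] [Field F] [Field K]
    [Algebra F K] (φ : A →+* F) {t : K} (ht : Transcendental F t) :
    constIdeal ((algebraMap F K).comp φ) t = RingHom.ker φ := by
  ext a
  rw [mem_constIdeal, RingHom.mem_ker]
  constructor
  · rintro ⟨u, hu, rfl⟩
    have h1 : Polynomial.aeval t (u.map φ) = 0 := by
      rw [Polynomial.aeval_def, Polynomial.eval₂_map, hu]
    have h2 := (transcendental_iff.mp ht) _ h1
    rw [← Polynomial.coeff_map, h2, Polynomial.coeff_zero]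
  · intro ha
    exact ⟨Polynomial.C a, by rw [Polynomial.eval₂_C, RingHom.comp_apply, ha, map_zero],
      Polynomial.coeff_C_zero⟩

/-- If the coordinate `t` is algebraic over the base then so is the residue field. -/
theorem isAlgebraic_of_isAlgebraic_coord (p : CohB1.ProjSpaceOver 1 X)
    [Algebra (X.residueField ((CohB1.ProjSpaceOver.toBase 1 X) p))
      ((CohB1.ProjSpaceOver 1 X).residueField p)]
    (halgebra : algebraMap (X.residueField ((CohB1.ProjSpaceOver.toBase 1 X) p))
      ((CohB1.ProjSpaceOver 1 X).residueField p) =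
        ((CohB1.ProjSpaceOver.toBase 1 X).residueFieldMap p).hom)
    (t : (CohB1.ProjSpaceOver 1 X).residueField p)
    (ht : (CohB1.ProjSpaceOver 1 X).fromSpecResidueField p =
      pt 0 ((CohB1.ProjSpaceOver 1 X).fromSpecResidueField p ≫
        CohB1.ProjSpaceOver.toBase 1 X) t)
    (halg : IsAlgebraic (X.residueField ((CohB1.ProjSpaceOver.toBase 1 X) p)) t) :
    Algebra.IsAlgebraic (X.residueField ((CohB1.ProjSpaceOver.toBase 1 X) p))
      ((CohB1.ProjSpaceOver 1 X).residueField p) := by
  let P := CohB1.ProjSpaceOver 1 X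
  let π := CohB1.ProjSpaceOver.toBase 1 X
  let F := X.residueField (π p)
  let K := P.residueField p
  let L := algebraicClosure F K
  let v : CommRingCat.of L ⟶ K := CommRingCat.ofHom (algebraMap L K)
  let e : F ⟶ CommRingCat.of L := CommRingCat.ofHom (algebraMap F L)
  let t' : L := ⟨t, by exact mem_algebraicClosure_iff.mpr halg⟩
  let a : Spec (CommRingCat.of L) ⟶ P := pt 0 (Spec.map e ≫ X.fromSpecResidueField (π p)) t'
  have hev : e ≫ v = π.residueFieldMap p := by
    ext z
    exact DFunLike.congr_fun halgebra z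
  have ha : Spec.map v ≫ a = P.fromSpecResidueField p := by
    rw [map_pt, ← Category.assoc, ← Spec.map_comp, hev,
      Scheme.Hom.SpecMap_residueFieldMap_fromSpecResidueField]
    exact ht.symm
  have hp : a (IsLocalRing.closedPoint L) = p := by
    have h1 : Spec.map v (IsLocalRing.closedPoint K) = IsLocalRing.closedPoint L :=
      Subsingleton.elim (α := PrimeSpectrum L) _ _
    rw [← h1, ← Scheme.Hom.comp_apply, ha]
    exact Scheme.fromSpecResidueField_apply _ _
  obtain ⟨φ, hφ, hφ'⟩ := exists_local_hom a p hp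
  have h2 : φ ≫ v = P.residue p := by
    apply specMap_fromSpecStalk_injective
    rw [Spec.map_comp, Category.assoc, ← hφ', ha]
    rfl
  constructor
  intro z
  obtain ⟨z', rfl⟩ := P.residue_surjective p z
  have h3 : (P.residue p).hom z' = ((φ.hom z' : L) : K) := by
    rw [← h2]
    rfl
  have h4 : IsAlgebraic F ((φ.hom z' : L) : K) := mem_algebraicClosure_iff.mp (φ.hom z').2
  rw [← h3] at h4
  exact h4

/-- A field valued point in a closed subscheme whose image is the image of the generic point. -/
theorem exists_factor_genericPoint {W P : Scheme.{u}} [IsIntegral W] (ι : W ⟶ P)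
    [IsClosedImmersion ι] :
    ∃ w : Spec (P.residueField (ι (genericPoint W))) ⟶ W,
      w ≫ ι = P.fromSpecResidueField (ι (genericPoint W)) ∧
      w (IsLocalRing.closedPoint (P.residueField (ι (genericPoint W)))) = genericPoint W := by
  obtain ⟨w, hw⟩ := factor_field ι (K := P.residueField (ι (genericPoint W)))
    (Field.toIsField _) (P.fromSpecResidueField (ι (genericPoint W)))
    (IsLocalRing.closedPoint (P.residueField (ι (genericPoint W))))
    ⟨genericPoint W, (Scheme.fromSpecResidueField_apply _ _).symm⟩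
  refine ⟨w, hw, ?_⟩
  apply ι.isClosedEmbedding.injective
  rw [← Scheme.Hom.comp_apply, hw]
  exact Scheme.fromSpecResidueField_apply _ _

/-- Vertical case: the fibres over `0` and `∞` have the same multiplicities. -/
theorem subschemeFun_eq_of_transcendental {W : Scheme.{u}} [IsIntegral W]
    (ι : W ⟶ CohB1.ProjSpaceOver 1 X)
    [IsClosedImmersion ι] {K : Type u} [Field K] (w : Spec (CommRingCat.of K) ⟶ W)
    (hw : w (IsLocalRing.closedPoint K) = genericPoint W) {ξ : X}
    [Algebra (X.residueField ξ) K] (t : K) (ht0 : t ≠ 0)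
    (htr : Transcendental (X.residueField ξ) t)
    (hwt : w ≫ ι = pt 0 (Spec.map (CommRingCat.ofHom (algebraMap (X.residueField ξ) K)) ≫
      X.fromSpecResidueField ξ) t) (k : ℤ) (x : X) :
    Cyc.subschemeFun δ k (pullback.snd ι (P1.sect X 0)) x =
      Cyc.subschemeFun δ k (pullback.snd ι (P1.sect X 1)) x := by
  by_cases hx : δ x = k
  · by_cases h : ξ ⤳ x
    · let ψ : CommRingCat.of (X.residueField ξ) ⟶ CommRingCat.of K :=
        CommRingCat.ofHom (algebraMap (X.residueField ξ) K)
      let φ : X.presheaf.stalk x ⟶ CommRingCat.of K := CommRingCat.ofHom (Cyc.specMap x ξ h) ≫ ψ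
      have hφ : Spec.map φ ≫ X.fromSpecStalk x = Spec.map ψ ≫ X.fromSpecResidueField ξ := by
        rw [fromSpecResidueField_eq h, Spec.map_comp, Category.assoc]
        rfl
      have h0 : w ≫ ι = pt 0 (Spec.map φ ≫ X.fromSpecStalk x) t := by
        rw [hφ]; exact hwt
      have h1 : w ≫ ι = pt 1 (Spec.map φ ≫ X.fromSpecStalk x) t⁻¹ := by
        rw [h0]
        exact pt_inv 0 _ (mul_inv_cancel₀ ht0)
      rw [subschemeFun_eq ι w hw 0 φ t h0 k hx, subschemeFun_eq ι w hw 1 φ t⁻¹ h1 k hx]
      have e0 : constIdeal φ.hom t = RingHom.ker (Cyc.specMap x ξ h) :=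
        constIdeal_of_transcendental _ htr
      have htr' : Transcendental (X.residueField ξ) t⁻¹ := by
        intro h'
        exact htr (by simpa using h'.inv)
      have e1 : constIdeal φ.hom t⁻¹ = RingHom.ker (Cyc.specMap x ξ h) :=
        constIdeal_of_transcendental _ htr'
      rw [e0, e1]
    · have hξ := toBase_genericPoint ι w hw t hwt
      rw [subschemeFun_eq_zero_of_notMem _ (fun h' => h (hξ ▸ specializes_of_mem_range ι 0 h')),
        subschemeFun_eq_zero_of_notMem _ (fun h' => h (hξ ▸ specializes_of_mem_range ι 1 h'))]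
  · unfold Cyc.subschemeFun
    rw [if_neg hx, if_neg hx]

theorem ratEquiv_fibre (hX : Cyc.IsSetup X δ)
    (δP : ↥(CohB1.ProjSpaceOver 1 X) → ℤ)
    (hP : Cyc.DeltaCompat (CohB1.ProjSpaceOver.toBase 1 X) δP δ) (k : ℤ) (W : Scheme.{u})
    [IsIntegral W] (ι : W ⟶ CohB1.ProjSpaceOver 1 X) [IsClosedImmersion ι]
    (hW : δP (ι (genericPoint W)) = k + 1)
    (h0 : ι (genericPoint W) ∉ Set.range ⇑(P1.sect X 0))
    (h1 : ι (genericPoint W) ∉ Set.range ⇑(P1.sect X 1)) (α β : AlgebraicCycle X ℤ)
    (hα : ⇑α = Cyc.subschemeFun δ k (pullback.snd ι (P1.sect X 0)))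
    (hβ : ⇑β = Cyc.subschemeFun δ k (pullback.snd ι (P1.sect X 1))) :
    Cyc.RatEquiv δ k α β := by
  have : IsLocallyNoetherian X := hX.1
  let P := CohB1.ProjSpaceOver 1 X
  let π : P ⟶ X := CohB1.ProjSpaceOver.toBase 1 X
  let p : P := ι (genericPoint W)
  obtain ⟨w, hw, hw'⟩ := exists_factor_genericPoint ι
  have hp : ∀ i, P.fromSpecResidueField p (IsLocalRing.closedPoint (P.residueField p)) ∉
      Set.range (P1.sect X i) := by
    intro i
    rw [Scheme.fromSpecResidueField_apply]
    fin_cases i
    · exact h0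
    · exact h1
  obtain ⟨t, ht0, ht⟩ := exists_pt_of_notMem (K := P.residueField p) (Field.toIsField _)
    (P.fromSpecResidueField p) (IsLocalRing.closedPoint (P.residueField p)) hp
  let algK : Algebra (X.residueField (π p)) (P.residueField p) :=
    (π.residueFieldMap p).hom.toAlgebra
  have hK : P.fromSpecResidueField p ≫ π = Spec.map (CommRingCat.ofHom
      (algebraMap (X.residueField (π p)) (P.residueField p))) ≫
        X.fromSpecResidueField (π p) := by
    exact (Scheme.Hom.SpecMap_residueFieldMap_fromSpecResidueField π p).symm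
  have hwt : w ≫ ι = pt 0 (Spec.map (CommRingCat.ofHom
      (algebraMap (X.residueField (π p)) (P.residueField p))) ≫
        X.fromSpecResidueField (π p)) t := by
    rw [hw, ← hK]
    exact ht
  by_cases halg : IsAlgebraic (X.residueField (π p)) t
  · have hKalg : Algebra.IsAlgebraic (X.residueField (π p)) (P.residueField p) :=
      isAlgebraic_of_isAlgebraic_coord p rfl t ht halg
    have hδ : δ (π p) = k + 1 := by
      obtain ⟨n, hn, hn'⟩ := hP p
      have h2 : Algebra.trdeg (X.residueField (π p)) (P.residueField p) = 0 := trdeg_eq_zero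
      have h3 : (n : Cardinal) = 0 := hn.symm.trans h2
      have h4 : n = 0 := by exact_mod_cast h3
      rw [h4] at hn'
      rw [← hW]
      simpa using hn'.symm
    have hne : (minpoly (X.residueField (π p)) t).coeff 0 ≠ 0 :=
      minpoly.coeff_zero_ne_zero halg.isIntegral ht0
    have key := divFun_eq_sub (K := P.residueField p) hX.2.2 ι w hw' t ht0 halg.isIntegral hwt
      k hδ
    refine DivFun.ratEquivZero_divFun hδ hne ?_
    intro x
    rw [key, ← hα, ← hβ]
    rfl
  · have key := subschemeFun_eq_of_transcendental (K := P.residueField p) (δ := δ) ι w hw' t ht0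
      halg hwt k
    refine DivFun.ratEquiv_of_eq ?_
    intro x
    rw [hα, hβ]
    exact key x

end Groth.Agent.CycB.P1Fibre
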