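import Groth.Agent.CycB.GraphPt
import Mathlib.RingTheory.AlgebraicIndependent.Transcendental

/-!
# The closure of the point `[1 : t]` of `P^1_X` over a point `ξ` of `X`
-/

universe u

open CategoryTheory AlgebraicGeometry CategoryTheory.Limits

namespace Groth.Agent.CycB.P1PtClosure

open P1 Groth.Agent.CycB.P1Chart Groth.Agent.CycB.GraphPt

variable {X : Scheme.{u}}

/-- A point with values in `κ(ξ)` over the canonical point has residue field `κ(ξ)`. -/
theorem residueFieldMap_surjective {P : Scheme.{u}} (f : P ⟶ X) {ξ : X}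
    (a : Spec (X.residueField ξ) ⟶ P) (ha : a ≫ f = X.fromSpecResidueField ξ) :
    f (a (IsLocalRing.closedPoint (X.residueField ξ))) = ξ ∧
      Function.Surjective (f.residueFieldMap
        (a (IsLocalRing.closedPoint (X.residueField ξ)))).hom := by
  have h0 : f (a (IsLocalRing.closedPoint (X.residueField ξ))) = ξ := by
    rw [← Scheme.Hom.comp_apply, ha]
    exact Scheme.fromSpecResidueField_apply _ _
  refine ⟨h0, ?_⟩
  let p := a (IsLocalRing.closedPoint (X.residueField ξ))
  let q : P.residueField p ⟶ X.residueField ξ :=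
    P.descResidueField (K := X.residueField ξ) (Scheme.stalkClosedPointTo a)
  have hq : Spec.map q ≫ P.fromSpecResidueField p = a :=
    Scheme.descResidueField_stalkClosedPointTo_fromSpecResidueField (X.residueField ξ) P a
  have h1 : f.residueFieldMap p ≫ q = (X.residueFieldCongr h0).hom := by
    apply Spec.map_injective
    rw [← cancel_mono (X.fromSpecResidueField (f p)), Spec.map_comp, Category.assoc,
      Scheme.Hom.SpecMap_residueFieldMap_fromSpecResidueField, ← Category.assoc, hq, ha]
    exact (Scheme.residueFieldCongr_fromSpecResidueField h0).symm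
  intro y
  obtain ⟨z, hz⟩ := (ConcreteCategory.bijective_of_isIso (X.residueFieldCongr h0).hom).2 (q.hom y)
  refine ⟨z, ?_⟩
  apply q.hom.injective
  rw [← hz, ← h1]
  rfl

theorem delta_eq {P : Scheme.{u}} (f : P ⟶ X) {δP : P → ℤ} {δ : X → ℤ}
    (hP : Cyc.DeltaCompat f δP δ) {ξ : X}
    (a : Spec (X.residueField ξ) ⟶ P) (ha : a ≫ f = X.fromSpecResidueField ξ) :
    δP (a (IsLocalRing.closedPoint (X.residueField ξ))) = δ ξ := by
  obtain ⟨h0, hs⟩ := residueFieldMap_surjective f a ha
  obtain ⟨n, hn, hn'⟩ := hP (a (IsLocalRing.closedPoint (X.residueField ξ)))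
  rw [hn', h0]
  let p := a (IsLocalRing.closedPoint (X.residueField ξ))
  let := (f.residueFieldMap p).hom.toAlgebra
  have halg : Algebra.IsAlgebraic (X.residueField (f p)) (P.residueField p) := by
    constructor
    intro y
    obtain ⟨z, rfl⟩ := hs y
    exact isAlgebraic_algebraMap z
  have h1 : Algebra.trdeg (X.residueField (f p)) (P.residueField p) = 0 := trdeg_eq_zero
  have h2 : (n : Cardinal) = 0 := hn.symm.trans h1
  have h3 : n = 0 := by exact_mod_cast h2
  rw [h3]
  simp

theorem sect_toBase (X : Scheme.{u}) (i : Fin (1 + 1)) :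
    P1.sect X i ≫ CohB1.ProjSpaceOver.toBase 1 X = 𝟙 X := by
  rw [sect_eq, lift_toBase]

instance isClosedImmersion_sect (X : Scheme.{u}) (i : Fin (1 + 1)) :
    IsClosedImmersion (P1.sect X i) := by
  have h2 := P1Sep.isSeparated_toBase 1 X
  have h1 : IsClosedImmersion (P1.sect X i ≫ CohB1.ProjSpaceOver.toBase 1 X) := by
    rw [sect_toBase]
    infer_instance
  exact IsClosedImmersion.of_comp _ (CohB1.ProjSpaceOver.toBase 1 X)

/-- Field valued points with image point in a closed subscheme factor. -/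
theorem factor_field {Z P : Scheme.{u}} (s : Z ⟶ P) [IsClosedImmersion s] {K : CommRingCat.{u}}
    (hK : IsField K) (a : Spec K ⟶ P) (y : Spec K) (hy : a y ∈ Set.range s) :
    ∃ g : Spec K ⟶ Z, g ≫ s = a := by
  have hsub : Subsingleton (Spec K) := by
    let := hK.toField
    exact inferInstanceAs (Subsingleton (PrimeSpectrum K))
  have hsurj : Surjective (pullback.snd s a) := by
    constructor
    rw [← Set.range_eq_univ, Scheme.Pullback.range_snd, Set.eq_univ_iff_forall]
    intro z
    rw [Subsingleton.elim z y]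
    exact hy
  have hred : IsReduced (Spec K) := by
    have : IsDomain K := hK.isDomain
    infer_instance
  have hiso : IsIso (pullback.snd s a) := isIso_of_isClosedImmersion_of_surjective _
  refine ⟨inv (pullback.snd s a) ≫ pullback.fst s a, ?_⟩
  rw [Category.assoc, pullback.condition, IsIso.inv_hom_id_assoc]

/-- The point `[1 : t]` with `t ≠ 0` does not lie on the zero section, etc. -/
theorem pt_notMem_range_sect {K : CommRingCat.{u}} (hK : IsField K) (i : Fin (1 + 1))
    (g : Spec K ⟶ X) (t : K) (ht : t ≠ 0) (y : Spec K) :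
    pt i g t y ∉ Set.range (P1.sect X i) := by
  intro h
  obtain ⟨g', hg'⟩ := factor_field (P1.sect X i) hK _ y h
  have h1 : g' = g := by
    have := congrArg (· ≫ CohB1.ProjSpaceOver.toBase 1 X) hg'
    simpa [sect_toBase] using this
  rw [h1, ← pt_zero] at hg'
  exact ht (pt_injective hg').symm

theorem pt_notMem_range_sect' {K : CommRingCat.{u}} (hK : IsField K) (i j : Fin (1 + 1))
    (g : Spec K ⟶ X) (t : K) (ht : t ≠ 0) (y : Spec K) :
    pt i g t y ∉ Set.range (P1.sect X j) := by
  by_cases hij : j = i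
  · rw [hij]
    exact pt_notMem_range_sect hK i g t ht y
  · have hj : j = i + 1 := by
      fin_cases i <;> fin_cases j <;> first | rfl | (exact absurd rfl hij)
    obtain ⟨c, hc⟩ := hK.mul_inv_cancel ht
    rw [pt_inv i g hc, hj]
    apply pt_notMem_range_sect hK
    rintro rfl
    rw [mul_zero] at hc
    exact hK.nontrivial.exists_pair_ne.elim fun a ha => ha.elim fun b hb =>
      hb (by rw [← mul_one a, ← mul_one b, ← hc, mul_zero, mul_zero])

section Closure

variable (ξ : X) (t : X.residueField ξ)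

/-- The `κ(ξ)`-point `[1 : t]`. -/
noncomputable def pnt : Spec (X.residueField ξ) ⟶ CohB1.ProjSpaceOver 1 X :=
  pt 0 (X.fromSpecResidueField ξ) t

theorem pnt_toBase : pnt ξ t ≫ CohB1.ProjSpaceOver.toBase 1 X = X.fromSpecResidueField ξ :=
  pt_toBase _ _ _

theorem isField_residueField : IsField (X.residueField ξ) := Field.toIsField _

instance isIntegral_closure : IsIntegral (pnt ξ t).image := by
  have : IsIntegral (Spec (X.residueField ξ)) := inferInstance
  have : IsNoetherianRing (X.residueField ξ) := inferInstance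
  exact ImageInt.isIntegral_image _

theorem toImage_closedPoint :
    (pnt ξ t).toImage (IsLocalRing.closedPoint (X.residueField ξ)) =
      genericPoint (pnt ξ t).image := by
  have : IsIntegral (Spec (X.residueField ξ)) := inferInstance
  have : IsNoetherianRing (X.residueField ξ) := inferInstance
  have h : IsLocalRing.closedPoint (X.residueField ξ) = genericPoint (Spec (X.residueField ξ)) :=
    Subsingleton.elim (α := PrimeSpectrum (X.residueField ξ)) _ _
  rw [h]
  exact ImageInt.toImage_genericPoint _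

theorem imageι_genericPoint :
    (pnt ξ t).imageι (genericPoint (pnt ξ t).image) =
      pnt ξ t (IsLocalRing.closedPoint (X.residueField ξ)) := by
  rw [← toImage_closedPoint, ← Scheme.Hom.comp_apply, Scheme.Hom.toImage_imageι]

theorem divFun_eq [IsLocallyNoetherian X] {δ : X → ℤ} (hδ : Cyc.IsDimFun X δ) (ht : t ≠ 0)
    (k : ℤ) (hk : δ ξ = k + 1) :
    Cyc.divFun δ ξ t = fun x =>
    Cyc.subschemeFun δ k (pullback.snd (pnt ξ t).imageι (P1.sect X 0)) x -
      Cyc.subschemeFun δ k (pullback.snd (pnt ξ t).imageι (P1.sect X 1)) x :=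
  divFun_eq_sub_of_pt hδ (pnt ξ t).imageι (pnt ξ t).toImage (toImage_closedPoint ξ t) t ht
    (Scheme.Hom.toImage_imageι _) k hk

end Closure

/-- **Stacks 02S4 (4).** -/
theorem exists_family (δ : X → ℤ) (hX : Cyc.IsSetup X δ)
    (δP : ↥(CohB1.ProjSpaceOver 1 X) → ℤ)
    (hP : Cyc.DeltaCompat (CohB1.ProjSpaceOver.toBase 1 X) δP δ) (k : ℤ)
    (α : AlgebraicCycle X ℤ) (h0 : Cyc.RatEquivZero δ k α) :
    ∃ (I : Type u) (W : I → Scheme.{u}) (ι : (i : I) → (W i ⟶ CohB1.ProjSpaceOver 1 X))
      (_ : ∀ i, IsIntegral (W i)) (_ : ∀ i, IsClosedImmersion (ι i)),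
      (∀ i, δP (ι i (genericPoint (W i))) = k + 1 ∧
        ι i (genericPoint (W i)) ∉ Set.range ⇑(P1.sect X 0) ∧
        ι i (genericPoint (W i)) ∉ Set.range ⇑(P1.sect X 1)) ∧
      (∀ p : ↥(CohB1.ProjSpaceOver 1 X), ∃ U : Set ↥(CohB1.ProjSpaceOver 1 X), IsOpen U ∧
        p ∈ U ∧ {i | (Set.range ⇑(ι i) ∩ U).Nonempty}.Finite) ∧
      ∀ x : X, α x = ∑ᶠ i, (Cyc.subschemeFun δ k (pullback.snd (ι i) (P1.sect X 0)) x -
        Cyc.subschemeFun δ k (pullback.snd (ι i) (P1.sect X 1)) x) := by
  obtain ⟨I, ξ, f, hd, hf, hfin, hα⟩ := h0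
  have := hX.1
  refine ⟨I, fun i => (pnt (ξ i) (f i)).image, fun i => (pnt (ξ i) (f i)).imageι,
    fun i => isIntegral_closure _ _, fun i => inferInstance, ?_, ?_, ?_⟩
  · intro i
    rw [imageι_genericPoint]
    refine ⟨?_, ?_, ?_⟩
    · rw [delta_eq _ hP _ (pnt_toBase _ _), hd]
    · exact pt_notMem_range_sect' (isField_residueField _) 0 0 _ _ (hf i) _
    · exact pt_notMem_range_sect' (isField_residueField _) 0 1 _ _ (hf i) _
  · intro p
    obtain ⟨U, hU, hpU, hUfin⟩ := hfin ((CohB1.ProjSpaceOver.toBase 1 X) p)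
    refine ⟨(CohB1.ProjSpaceOver.toBase 1 X) ⁻¹' U,
      hU.preimage (CohB1.ProjSpaceOver.toBase 1 X).continuous, hpU, hUfin.subset ?_⟩
    rintro i ⟨_, ⟨z, rfl⟩, hz⟩
    refine ⟨_, ?_, hz⟩
    have h1 : genericPoint (pnt (ξ i) (f i)).image ⤳ z := genericPoint_specializes _
    have h2 := h1.map ((pnt (ξ i) (f i)).imageι ≫ CohB1.ProjSpaceOver.toBase 1 X).continuous
    rw [Scheme.Hom.comp_apply, Scheme.Hom.comp_apply, imageι_genericPoint,
      (residueFieldMap_surjective _ _ (pnt_toBase (ξ i) (f i))).1] at h2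
    exact h2.mem_closed isClosed_closure (subset_closure (Set.mem_singleton _))
  · intro x
    rw [hα x]
    refine finsum_congr fun i => ?_
    rw [divFun_eq (ξ i) (f i) hX.2.2 (hf i) k (hd i)]

end Groth.Agent.CycB.P1PtClosure
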