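import Groth.Agent.CycB.TrdegAlg
import Mathlib.RingTheory.IsTensorProduct
import Mathlib.RingTheory.TensorProduct.MvPolynomial
import Mathlib.RingTheory.Algebraic.Integral
import Mathlib.RingTheory.Ideal.GoingDown
import Mathlib.RingTheory.Flat.Stability
import Mathlib.RingTheory.Flat.Localization
import Mathlib.RingTheory.AlgebraicIndependent.TranscendenceBasis

/-!
# Transcendence degree at generic points of `Spec (K ⊗[k] k')`
-/

set_option autoImplicit false

universe u

namespace Groth.Agent.CycB.TrdegBC

open Cardinal Algebra TrdegAlg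

theorem trd_eq_zero_of_isAlgebraic {K L : Type u} [CommRing K] [CommRing L] (φ : K →+* L)
    (hφ : Function.Injective φ)
    (h : @Algebra.IsAlgebraic K L _ _ φ.toAlgebra) : trd φ = 0 := by
  let _ := φ.toAlgebra
  have : FaithfulSMul K L := (faithfulSMul_iff_algebraMap_injective K L).mpr hφ
  exact trdeg_eq_zero

theorem flat_of_injective_field {R K : Type u} [CommRing R] [IsDomain R] [Field K] [Algebra R K]
    (h : Function.Injective (algebraMap R K)) : Module.Flat R K := by
  have : FaithfulSMul R K := (faithfulSMul_iff_algebraMap_injective R K).mpr h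
  let _ := FractionRing.liftAlgebra R K
  have : IsScalarTower R (FractionRing R) K := FractionRing.isScalarTower_liftAlgebra R K
  have : Module.Flat R (FractionRing R) := IsLocalization.flat _ (nonZeroDivisors R)
  exact Module.Flat.trans R (FractionRing R) K

attribute [local instance] MvPolynomial.algebraMvPolynomial in
theorem trd_eq_of_isPushout_minimal {k K k' T L : Type u} [Field k] [Field K] [Field k']
    [CommRing T] [Field L] [Algebra k K] [Algebra k k'] [Algebra K T] [Algebra k' T] [Algebra k T]
    [IsScalarTower k K T] [IsScalarTower k k' T] [Algebra.IsPushout k K k' T]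
    (ψ : T →+* L) (hψ : FracGen ψ) (hmin : RingHom.ker ψ ∈ minimalPrimes T) :
    trd (ψ.comp (algebraMap k' T)) = trd (algebraMap k K) := by
  obtain ⟨s, hs⟩ := exists_isTranscendenceBasis k K
  let x : s → K := (↑)
  let _ : Algebra (MvPolynomial s k) K := (MvPolynomial.aeval x).toRingHom.toAlgebra
  have hR₀ : ∀ P : MvPolynomial s k, algebraMap (MvPolynomial s k) K P = MvPolynomial.aeval x P :=
    fun _ => rfl
  have : IsScalarTower k (MvPolynomial s k) K := .of_algebraMap_eq fun a => by
    rw [hR₀, MvPolynomial.algebraMap_eq, MvPolynomial.aeval_C]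
  let _ : Algebra (MvPolynomial s k') T :=
    (MvPolynomial.aeval (fun i => algebraMap K T (x i))).toRingHom.toAlgebra
  have hR₀' : ∀ P : MvPolynomial s k', algebraMap (MvPolynomial s k') T P =
      MvPolynomial.aeval (fun i => algebraMap K T (x i)) P := fun _ => rfl
  have : IsScalarTower k' (MvPolynomial s k') T := .of_algebraMap_eq fun a => by
    rw [hR₀', MvPolynomial.algebraMap_eq, MvPolynomial.aeval_C]
  let _ : Algebra (MvPolynomial s k) T :=
    ((algebraMap K T).comp (algebraMap (MvPolynomial s k) K)).toAlgebra
  have : IsScalarTower (MvPolynomial s k) K T := .of_algebraMap_eq fun a => rfl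
  have : IsScalarTower (MvPolynomial s k) (MvPolynomial s k') T := .of_algebraMap_eq' (by
    change (algebraMap K T).comp (algebraMap (MvPolynomial s k) K) = _
    apply MvPolynomial.ringHom_ext
    · intro a
      simp only [RingHom.comp_apply, hR₀, hR₀', MvPolynomial.aeval_C, MvPolynomial.algebraMap_def,
        MvPolynomial.map_C, ← IsScalarTower.algebraMap_apply]
    · intro i
      simp only [RingHom.comp_apply, hR₀, hR₀', MvPolynomial.aeval_X, MvPolynomial.algebraMap_def,
        MvPolynomial.map_X])
  have : IsScalarTower k (MvPolynomial s k') T := .of_algebraMap_eq fun a => by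
    rw [IsScalarTower.algebraMap_apply k k' T, IsScalarTower.algebraMap_apply k' (MvPolynomial s k') T,
      ← IsScalarTower.algebraMap_apply k k' (MvPolynomial s k')]
  have hpush : Algebra.IsPushout (MvPolynomial s k) K (MvPolynomial s k') T :=
    (Algebra.IsPushout.comp_iff k (MvPolynomial s k) k' (MvPolynomial s k')).mp inferInstance
  have hinj₀ : Function.Injective (algebraMap (MvPolynomial s k) K) :=
    algebraicIndependent_iff_injective_aeval.mp hs.1
  have hflat₀ : Module.Flat (MvPolynomial s k) K := flat_of_injective_field hinj₀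
  have hflat : Module.Flat (MvPolynomial s k') T :=
    Module.Flat.isBaseChange (MvPolynomial s k) (MvPolynomial s k') K T hpush.symm.out
  have halg₀ : Algebra.IsAlgebraic (MvPolynomial s k) K := by
    have h1 : Algebra.IsAlgebraic (Algebra.adjoin k (Set.range x)) K := hs.isAlgebraic
    let e : MvPolynomial s k →ₐ[k] Algebra.adjoin k (Set.range x) :=
      (MvPolynomial.aeval x).codRestrict _ fun P => by
        rw [Algebra.adjoin_range_eq_range_aeval]; exact ⟨P, rfl⟩
    have he : Function.Surjective e := by
      rintro ⟨y, hy⟩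
      rw [Algebra.adjoin_range_eq_range_aeval] at hy
      obtain ⟨P, rfl⟩ := hy
      exact ⟨P, Subtype.ext rfl⟩
    exact Algebra.IsAlgebraic.of_ringHom_of_comp_eq (S := Algebra.adjoin k (Set.range x)) (B := K)
      e.toRingHom (RingHom.id K) he Function.injective_id (by ext <;> rfl)
  have : FaithfulSMul (MvPolynomial s k) (MvPolynomial s k') :=
    (faithfulSMul_iff_algebraMap_injective _ _).mpr
      (MvPolynomial.map_injective _ (algebraMap k k').injective)
  have halg : Algebra.IsAlgebraic (MvPolynomial s k') T :=
    Algebra.IsPushout.isAlgebraic (MvPolynomial s k) K (MvPolynomial s k') T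
  have hprime : (RingHom.ker ψ).IsPrime := hmin.1.1
  have hbot : (RingHom.ker ψ).comap (algebraMap (MvPolynomial s k') T) = ⊥ := by
    obtain ⟨P, hP, hPp, hPo⟩ := Ideal.exists_ideal_le_liesOver_of_le
      (p := (⊥ : Ideal (MvPolynomial s k'))) (q := (RingHom.ker ψ).under _) (RingHom.ker ψ) bot_le
    have h1 : P = RingHom.ker ψ := le_antisymm hP (hmin.2 ⟨hPp, bot_le⟩ hP)
    rw [← h1]
    exact hPo.over.symm
  have hinj : Function.Injective (ψ.comp (algebraMap (MvPolynomial s k') T)) := by
    rw [RingHom.injective_iff_ker_eq_bot, RingHom.ker_eq_comap_bot, ← Ideal.comap_comap,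
      ← RingHom.ker_eq_comap_bot]
    exact hbot
  -- the algebraic extension `R₀' → L`
  have h1 : trd (ψ.comp (algebraMap (MvPolynomial s k') T)) = 0 := by
    let φ : MvPolynomial s k' →+* T ⧸ RingHom.ker ψ :=
      (Ideal.Quotient.mk _).comp (algebraMap (MvPolynomial s k') T)
    have hφ : ψ.comp (algebraMap (MvPolynomial s k') T) = (RingHom.kerLift ψ).comp φ := rfl
    have hφi : Function.Injective φ := by
      rw [hφ, RingHom.coe_comp] at hinj
      exact Function.Injective.of_comp hinj
    rw [hφ, trd_comp' φ _ hφi (RingHom.kerLift_injective ψ), hψ.trd_kerLift, add_zero]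
    apply trd_eq_zero_of_isAlgebraic φ hφi
    refine @Algebra.IsAlgebraic.mk _ _ _ _ _ fun z => ?_
    obtain ⟨z, rfl⟩ := Ideal.Quotient.mk_surjective z
    exact (halg.isAlgebraic z).algHom (Ideal.Quotient.mkₐ (MvPolynomial s k') (RingHom.ker ψ))
  have h2 : ψ.comp (algebraMap k' T) =
      (ψ.comp (algebraMap (MvPolynomial s k') T)).comp (algebraMap k' (MvPolynomial s k')) := by
    rw [RingHom.comp_assoc, ← IsScalarTower.algebraMap_eq]
  have h3 : trd (algebraMap k K) = #s := by
    rw [trd_algebraMap, hs.cardinalMk_eq_trdeg]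
  have h4 : Function.Injective (algebraMap k' (MvPolynomial s k')) := MvPolynomial.C_injective _ _
  rw [h2, trd_comp' _ _ h4 hinj, h1, add_zero, h3, trd_algebraMap]
  simp

end Groth.Agent.CycB.TrdegBC
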