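import Groth.Agent.CycB.RelDim3
import Groth.Agent.CycB.TrdegBC
import Mathlib.AlgebraicGeometry.PullbackCarrier
import Mathlib.Algebra.Category.Ring.Constructions

/-!
# Transcendence degrees at generic points of fibre products
-/

set_option autoImplicit false

universe u

namespace Groth.Agent.CycB.RelDim

open AlgebraicGeometry CategoryTheory TrdegAlg TrdegBC Cardinal TopologicalSpace
open CategoryTheory.Limits
open AlgebraicGeometry.Scheme.Pullback

section FracGen

theorem fracGen_of_comp {B K L : Type u} [CommRing B] [Field K] [Field L] {ψ : B →+* K}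
    (e : K →+* L) (h : FracGen (e.comp ψ)) : FracGen ψ := by
  intro z
  obtain ⟨a, b, hb, hab⟩ := h (e z)
  refine ⟨a, b, ?_, ?_⟩
  · intro h0; apply hb; simp [h0]
  · apply e.injective
    simpa using hab

theorem fracGen_precomp {B B' K : Type u} [CommRing B] [CommRing B'] [Field K] {ψ : B →+* K}
    (σ : B' →+* B) (hσ : Function.Surjective σ) (h : FracGen ψ) : FracGen (ψ.comp σ) := by
  intro z
  obtain ⟨a, b, hb, hab⟩ := h z
  obtain ⟨a', rfl⟩ := hσ a
  obtain ⟨b', rfl⟩ := hσ b
  exact ⟨a', b', hb, hab⟩

theorem fracGen_of_precomp {B B' K : Type u} [CommRing B] [CommRing B'] [Field K] {ψ : B →+* K}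
    (σ : B' →+* B) (h : FracGen (ψ.comp σ)) : FracGen ψ := by
  intro z
  obtain ⟨a, b, hb, hab⟩ := h z
  exact ⟨σ a, σ b, hb, hab⟩

theorem fracGen_residueField {R : Type u} [CommRing R] (p : Ideal R) [p.IsPrime] :
    FracGen (algebraMap R p.ResidueField) := by
  intro z
  obtain ⟨a, b, hb, hab⟩ := IsFractionRing.div_surjective (A := R ⧸ p) z
  obtain ⟨a, rfl⟩ := Ideal.Quotient.mk_surjective a
  obtain ⟨b, rfl⟩ := Ideal.Quotient.mk_surjective b
  have h0 : algebraMap (R ⧸ p) p.ResidueField (Ideal.Quotient.mk p b) ≠ 0 := by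
    intro h
    exact nonZeroDivisors.ne_zero hb ((IsFractionRing.injective (R ⧸ p) p.ResidueField) (by
      rw [h, map_zero]))
  refine ⟨a, b, h0, ?_⟩
  change z * algebraMap (R ⧸ p) p.ResidueField (Ideal.Quotient.mk p b) =
    algebraMap (R ⧸ p) p.ResidueField (Ideal.Quotient.mk p a)
  rw [← hab, div_mul_cancel₀ _ h0]

end FracGen

variable {X Y S : Scheme.{u}} {f : X ⟶ S} {g : Y ⟶ S}

theorem fracGen_ofPointTensor_aux (T : Triplet f g) (p : Spec T.tensor) :
    FracGen (ofPointTensor (T.SpecTensorTo p)).hom := by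
  have h := Triplet.Spec_ofPointTensor_SpecTensorTo T p
  rw [← Scheme.Spec.map_residueFieldIso_inv_eq_fromSpecResidueField, ← Spec.map_comp,
    ← Spec.map_comp, ← Spec.map_comp, Spec.map_inj] at h
  have h1 : FracGen ((Triplet.tensorCongr (T.ofPoint_SpecTensorTo p).symm).hom ≫
      (ofPointTensor (T.SpecTensorTo p) ≫
        Scheme.Hom.residueFieldMap T.SpecTensorTo p)).hom := by
    rw [← Category.assoc, h, CommRingCat.hom_comp]
    have hp : p.asIdeal.IsPrime := PrimeSpectrum.isPrime p
    exact (@fracGen_residueField _ _ p.asIdeal hp).comp_surjective _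
      (ConcreteCategory.bijective_of_isIso (Scheme.Spec.residueFieldIso T.tensor p).inv).2
  rw [CommRingCat.hom_comp, CommRingCat.hom_comp] at h1
  exact fracGen_of_comp _ (fracGen_of_precomp _ h1)

theorem fracGen_ofPointTensor (t : ↥(pullback f g)) : FracGen (ofPointTensor t).hom := by
  have := fracGen_ofPointTensor_aux (Triplet.ofPoint t) (SpecOfPoint t)
  rwa [SpecTensorTo_SpecOfPoint] at this

theorem ker_ofPointTensor (t : ↥(pullback f g)) :
    RingHom.ker (ofPointTensor t).hom = (SpecOfPoint t).asIdeal := by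
  ext a
  rw [RingHom.mem_ker]
  rfl

theorem specTensorTo_injective (T : Triplet f g) : Function.Injective T.SpecTensorTo := by
  intro p q h
  have h1 : carrierEquiv.symm (⟨T, p⟩ : Σ T : Triplet f g, Spec T.tensor) =
    carrierEquiv.symm ⟨T, q⟩ := h
  have h2 := carrierEquiv.symm.injective h1
  rw [carrierEquiv_eq_iff] at h2
  obtain ⟨e, he⟩ := h2
  simpa using he

/-- If `t` has no proper generization with the same images in `X` and `Y`, then the kernel of
`κ(x) ⊗ κ(y) → κ(t)` is a minimal prime. -/
theorem ker_ofPointTensor_mem_minimalPrimes (t : ↥(pullback f g))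
    (ht : ∀ t' : ↥(pullback f g), pullback.fst f g t' = pullback.fst f g t →
      pullback.snd f g t' = pullback.snd f g t → t' ⤳ t → t' = t) :
    RingHom.ker (ofPointTensor t).hom ∈ minimalPrimes (Triplet.ofPoint t).tensor := by
  rw [ker_ofPointTensor]
  refine ⟨⟨(SpecOfPoint t).isPrime, bot_le⟩, ?_⟩
  rintro q ⟨hq, -⟩ hle
  let q' : Spec (Triplet.ofPoint t).tensor := (⟨q, hq⟩ : PrimeSpectrum _)
  have h1 : q' ⤳ SpecOfPoint t := (PrimeSpectrum.le_iff_specializes (⟨q, hq⟩ : PrimeSpectrum _)
    (SpecOfPoint t)).mp hle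
  have h2 := h1.map (Triplet.ofPoint t).SpecTensorTo.continuous
  rw [SpecTensorTo_SpecOfPoint] at h2
  have h3 := ht _ (by simp) (by simp) h2
  have h4 : q' = SpecOfPoint t := by
    apply specTensorTo_injective
    rw [h3, SpecTensorTo_SpecOfPoint]
  exact (congrArg PrimeSpectrum.asIdeal h4).ge

theorem rtd_snd_eq (t : ↥(pullback f g))
    (ht : ∀ t' : ↥(pullback f g), pullback.fst f g t' = pullback.fst f g t →
      pullback.snd f g t' = pullback.snd f g t → t' ⤳ t → t' = t) :
    rtd (pullback.snd f g) t = rtd f (pullback.fst f g t) := by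
  have hker := ker_ofPointTensor_mem_minimalPrimes t ht
  have hfrac := fracGen_ofPointTensor t
  set T := Triplet.ofPoint t with hT
  let φ₁ := (S.residueFieldCongr T.hx).inv ≫ f.residueFieldMap T.x
  let φ₂ := (S.residueFieldCongr T.hy).inv ≫ g.residueFieldMap T.y
  have hpo : CategoryTheory.IsPushout φ₁ φ₂ T.tensorInl T.tensorInr :=
    CategoryTheory.IsPushout.of_hasPushout _ _
  let _ : Algebra (S.residueField T.s) (X.residueField T.x) := φ₁.hom.toAlgebra
  let _ : Algebra (S.residueField T.s) (Y.residueField T.y) := φ₂.hom.toAlgebra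
  let _ : Algebra (X.residueField T.x) T.tensor := T.tensorInl.hom.toAlgebra
  let _ : Algebra (Y.residueField T.y) T.tensor := T.tensorInr.hom.toAlgebra
  let _ : Algebra (S.residueField T.s) T.tensor := (φ₁ ≫ T.tensorInl).hom.toAlgebra
  have : IsScalarTower (S.residueField T.s) (X.residueField T.x) T.tensor :=
    .of_algebraMap_eq fun _ => rfl
  have : IsScalarTower (S.residueField T.s) (Y.residueField T.y) T.tensor :=
    .of_algebraMap_eq fun a => congrArg (fun φ => φ.hom a) hpo.w
  have hpo' : Algebra.IsPushout (S.residueField T.s) (X.residueField T.x) (Y.residueField T.y)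
    T.tensor := CommRingCat.isPushout_iff_isPushout.mp hpo
  have key := trd_eq_of_isPushout_minimal (k := S.residueField T.s) (K := X.residueField T.x)
    (k' := Y.residueField T.y) (ofPointTensor t).hom hfrac hker
  have h1 : T.tensorInr ≫ ofPointTensor t = (pullback.snd f g).residueFieldMap t :=
    pushout.inr_desc _ _ _
  have h2 : (ofPointTensor t).hom.comp (algebraMap (Y.residueField T.y) T.tensor) =
      ((pullback.snd f g).residueFieldMap t).hom := by
    rw [← h1]; rfl
  rw [h2] at key
  refine Eq.trans key ?_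
  change trd φ₁.hom = _
  rw [CommRingCat.hom_comp]
  exact trd_comp_surjective' _ _
    (ConcreteCategory.bijective_of_isIso (S.residueFieldCongr T.hx).inv).2

theorem rtd_fst_eq (t : ↥(pullback f g))
    (ht : ∀ t' : ↥(pullback f g), pullback.fst f g t' = pullback.fst f g t →
      pullback.snd f g t' = pullback.snd f g t → t' ⤳ t → t' = t) :
    rtd (pullback.fst f g) t = rtd g (pullback.snd f g t) := by
  have hker := ker_ofPointTensor_mem_minimalPrimes t ht
  have hfrac := fracGen_ofPointTensor t
  set T := Triplet.ofPoint t with hT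
  let φ₁ := (S.residueFieldCongr T.hx).inv ≫ f.residueFieldMap T.x
  let φ₂ := (S.residueFieldCongr T.hy).inv ≫ g.residueFieldMap T.y
  have hpo : CategoryTheory.IsPushout φ₁ φ₂ T.tensorInl T.tensorInr :=
    CategoryTheory.IsPushout.of_hasPushout _ _
  let _ : Algebra (S.residueField T.s) (X.residueField T.x) := φ₁.hom.toAlgebra
  let _ : Algebra (S.residueField T.s) (Y.residueField T.y) := φ₂.hom.toAlgebra
  let _ : Algebra (X.residueField T.x) T.tensor := T.tensorInl.hom.toAlgebra
  let _ : Algebra (Y.residueField T.y) T.tensor := T.tensorInr.hom.toAlgebra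
  let _ : Algebra (S.residueField T.s) T.tensor := (φ₁ ≫ T.tensorInl).hom.toAlgebra
  have : IsScalarTower (S.residueField T.s) (X.residueField T.x) T.tensor :=
    .of_algebraMap_eq fun _ => rfl
  have : IsScalarTower (S.residueField T.s) (Y.residueField T.y) T.tensor :=
    .of_algebraMap_eq fun a => congrArg (fun φ => φ.hom a) hpo.w
  have hpo' : Algebra.IsPushout (S.residueField T.s) (X.residueField T.x) (Y.residueField T.y)
    T.tensor := CommRingCat.isPushout_iff_isPushout.mp hpo
  have hpo'' := hpo'.symm
  have key := trd_eq_of_isPushout_minimal (k := S.residueField T.s) (K := Y.residueField T.y)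
    (k' := X.residueField T.x) (ofPointTensor t).hom hfrac hker
  have h1 : T.tensorInl ≫ ofPointTensor t = (pullback.fst f g).residueFieldMap t :=
    pushout.inl_desc _ _ _
  have h2 : (ofPointTensor t).hom.comp (algebraMap (X.residueField T.x) T.tensor) =
      ((pullback.fst f g).residueFieldMap t).hom := by
    rw [← h1]; rfl
  rw [h2] at key
  refine Eq.trans key ?_
  change trd φ₂.hom = _
  rw [CommRingCat.hom_comp]
  exact trd_comp_surjective' _ _
    (ConcreteCategory.bijective_of_isIso (S.residueFieldCongr T.hy).inv).2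

/-- The map of fibres `(X ×_S Y)_x → Y_{f x}` is flat. -/
theorem exists_flat_fiber_map (x : X) :
    ∃ m : (pullback.fst f g).fiber x ⟶ g.fiber (f x), Flat m ∧
      m ≫ g.fiberι (f x) = (pullback.fst f g).fiberι x ≫ pullback.snd f g := by
  have h := isPullback_fiberToSpecResidueField_of_isPullback
    (IsPullback.of_hasPullback f g).flip x
  refine ⟨pullback.map _ _ _ _ (pullback.snd f g) (Spec.map (f.residueFieldMap x)) f
      ((IsPullback.of_hasPullback f g).flip).w.symm (by simp), ?_, pullback.lift_fst _ _ _⟩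
  · have h3 : Flat (Spec.map (f.residueFieldMap x)) := by
      rw [Flat.SpecMap_iff]
      let _ := (f.residueFieldMap x).hom.toAlgebra
      exact (inferInstance : Module.Flat (S.residueField (f x)) (X.residueField x))
    exact MorphismProperty.of_isPullback (P := @Flat) h.flip h3

theorem FibGeneric.snd {t : ↥(pullback f g)} (ht : FibGeneric (pullback.fst f g) t) :
    FibGeneric g (pullback.snd f g t) := by
  intro y hy hsp
  obtain ⟨m, hm, hmc⟩ := exists_flat_fiber_map (f := f) (g := g) (pullback.fst f g t)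
  have hgs : g (pullback.snd f g t) = f (pullback.fst f g t) :=
    congr($(pullback.condition (f := f) (g := g)) t).symm
  have hy' : y ∈ Set.range (g.fiberι (f (pullback.fst f g t))) := by
    rw [Scheme.Hom.range_fiberι]
    exact hy.trans hgs
  obtain ⟨y', rfl⟩ := hy'
  have h1 : g.fiberι (f (pullback.fst f g t)) (m ((pullback.fst f g).asFiber t)) =
      pullback.snd f g t := by
    have := congr($hmc ((pullback.fst f g).asFiber t))
    simp only [Scheme.Hom.comp_apply] at this
    rw [this, Scheme.Hom.fiberι_asFiber]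
  have h2 : y' ⤳ m ((pullback.fst f g).asFiber t) := by
    refine (g.fiberι _).isEmbedding.isInducing.specializes_iff.mp ?_
    rw [h1]; exact hsp
  obtain ⟨z, hz, hmz⟩ := exists_specializes_of_flat m h2
  have h3 : (pullback.fst f g).fiberι _ z = t := by
    refine ht _ ?_ ?_
    · have : (pullback.fst f g).fiberι (pullback.fst f g t) z ∈
        Set.range ((pullback.fst f g).fiberι (pullback.fst f g t)) := ⟨z, rfl⟩
      rw [Scheme.Hom.range_fiberι] at this
      exact this
    · have := hz.map ((pullback.fst f g).fiberι _).continuous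
      rwa [Scheme.Hom.fiberι_asFiber] at this
  have h4 := congr($hmc z)
  simp only [Scheme.Hom.comp_apply] at h4
  rw [h3, hmz] at h4
  exact h4

/-- At a point `t` of `X ×_S Y` generic in its fibre over `X`:
`trdeg κ(t)/κ(y) = trdeg κ(x)/κ(s)`. -/
theorem rtd_snd_of_fibGeneric_fst {t : ↥(pullback f g)} (ht : FibGeneric (pullback.fst f g) t) :
    rtd (pullback.snd f g) t = rtd f (pullback.fst f g t) :=
  rtd_snd_eq t fun t' h1 _ h3 => ht t' h1 h3

theorem rtd_fst_of_fibGeneric_fst {t : ↥(pullback f g)} (ht : FibGeneric (pullback.fst f g) t) :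
    rtd (pullback.fst f g) t = rtd g (pullback.snd f g t) :=
  rtd_fst_eq t fun t' h1 _ h3 => ht t' h1 h3

/-- Relative dimension is stable under base change. -/
theorem hasRelDim_fst [LocallyOfFiniteType g] {r : ℕ} (hr : Cyc.HasRelDim g r) :
    Cyc.HasRelDim (pullback.fst f g) r := by
  rw [hasRelDim_iff]
  intro t ht
  rw [rtd_fst_of_fibGeneric_fst ht]
  exact rtd_of_fibGeneric hr ht.snd

theorem rtd_snd_of_fibGeneric_snd {t : ↥(pullback f g)} (ht : FibGeneric (pullback.snd f g) t) :
    rtd (pullback.snd f g) t = rtd f (pullback.fst f g t) :=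
  rtd_snd_eq t fun t' _ h2 h3 => ht t' h2 h3

end Groth.Agent.CycB.RelDim
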