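import Groth.Agent.CycA.LenSum
import Groth.Agent.CycB.StalkLoc
import Groth.Agent.CycB.OrdFrac
import Groth.Agent.CycB.DivNat
import Mathlib.RingTheory.Ideal.AssociatedPrime.Localization
import Mathlib.Data.ENat.BigOperators

/-!
# The length formula 02QG at a point of a scheme

* `length_localization_eq`: the length of `N_p` computed with any model of the localizations;
* `length_quot_eq_finsum`: for a finite `O_{X,x}`-module `N` whose support contains only
  generizations `ξ` of `x` with `δ ξ ≤ δ x + 1`, and `f` regular on `N`,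
  `ℓ(N/fN) = ∑_ξ ℓ(N_ξ) ord_{ξ ⤳ x}(f)`.
-/

set_option autoImplicit false
universe u v w

open CategoryTheory CategoryTheory.Limits AlgebraicGeometry TopologicalSpace Pointwise

namespace Groth.Agent.CycB.StalkLen

open Groth.Agent.CycB.LocQuot

section Algebra

variable {R : Type u} [CommRing R]

/-- The length of `N_p` can be computed with any model of the localizations. -/
theorem length_localization_eq (p : Ideal R) [p.IsPrime] (S : Type*) [CommRing S] [Algebra R S]
    [IsLocalization.AtPrime S p] {N : Type v} {N' : Type*} [AddCommGroup N] [Module R N]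
    [AddCommGroup N'] [Module R N'] [Module S N'] [IsScalarTower R S N'] (g : N →ₗ[R] N')
    [IsLocalizedModule p.primeCompl g] :
    Module.length (Localization.AtPrime p) (LocalizedModule p.primeCompl N) =
      Module.length S N' := by
  let σ : Localization.AtPrime p ≃ₐ[R] S := IsLocalization.algEquiv p.primeCompl _ _
  let e := IsLocalizedModule.iso p.primeCompl g
  have hinj : ∀ (s : p.primeCompl) (a b : N'), (s : R) • a = (s : R) • b → a = b := fun s a b h =>
    IsLocalizedModule.smul_injective g s h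
  have key : ∀ (a : Localization.AtPrime p) (m : LocalizedModule p.primeCompl N),
      e (a • m) = σ a • e m := by
    intro a m
    obtain ⟨⟨r, s⟩, hs⟩ := IsLocalization.surj p.primeCompl a
    apply hinj s
    have h1 : (s : R) • e (a • m) = r • e m := by
      rw [← map_smul, ← map_smul, ← algebraMap_smul (Localization.AtPrime p) (s : R),
        ← algebraMap_smul (Localization.AtPrime p) r, smul_smul, mul_comm, hs]
    rw [h1, ← algebraMap_smul S (s : R), smul_smul, ← algebraMap_smul S r]
    congr 1
    have := congrArg σ hs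
    rw [map_mul, AlgEquiv.commutes, AlgEquiv.commutes] at this
    rw [mul_comm]
    exact this.symm
  refine DivNat.length_eq_of_semilinear (σ : Localization.AtPrime p →+* S) σ.surjective
    { toFun := e, map_add' := map_add e, map_smul' := key } e.bijective

/-- The length of `N_p` as a function of a point of the spectrum. -/
noncomputable def locLen (p : PrimeSpectrum R) (N : Type v) [AddCommGroup N] [Module R N] : ℕ∞ :=
  Module.length (Localization.AtPrime p.asIdeal) (LocalizedModule p.asIdeal.primeCompl N)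

/-- The order of `f` in `R ⧸ I`. -/
noncomputable def ordQ (I : Ideal R) (f : R) : ℕ∞ := Ring.ord (R ⧸ I) (Ideal.Quotient.mk I f)

theorem locLen_eq_zero_iff (p : PrimeSpectrum R) (N : Type v) [AddCommGroup N] [Module R N] :
    locLen p N = 0 ↔ p ∉ Module.support R N :=
  CycA.LocLen.length_loc_eq_zero_iff p

end Algebra

section Scheme

variable {X : Scheme.{u}} {δ : X → ℤ}

theorem ordAt_specMap_eq_ordQ [IsLocallyNoetherian X] (hδ : Cyc.IsDimFun X δ) {x ξ : X}
    (h : ξ ⤳ x) (hd : δ x + 1 = δ ξ) {f : X.presheaf.stalk x} (hf : f ∉ (primeOf h).asIdeal) :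
    Cyc.ordAt x ξ h (Cyc.specMap x ξ h f) = ((ordQ (primeOf h).asIdeal f).toNat : ℤ) := by
  rw [primeOf_asIdeal] at hf ⊢
  exact OrdFrac.ordAt_specMap hδ h hd hf

theorem isLocalization_primeOf {x ξ : X} (h : ξ ⤳ x) :
    letI := StalkLoc.specAlg h
    IsLocalization.AtPrime (X.presheaf.stalk ξ) (primeOf h).asIdeal := by
  letI := StalkLoc.specAlg h
  have h1 := isLocalization_stalkSpecializes h
  have h2 : (primeOf h).asIdeal.primeCompl =
      (RingHom.ker (Cyc.specMap x ξ h)).primeCompl := by
    ext a
    change a ∉ (primeOf h).asIdeal ↔ a ∉ RingHom.ker (Cyc.specMap x ξ h)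
    rw [primeOf_asIdeal]
  change IsLocalization (primeOf h).asIdeal.primeCompl _
  rw [h2]
  exact h1

/-- The length of the stalk `M_ξ` of a quasi-coherent module in terms of `M_x`, for `ξ ⤳ x`. -/
theorem locLen_stalk (M : X.Modules) (hM : Coh.IsQCoh M) {x ξ : X} (h : ξ ⤳ x) :
    locLen (primeOf h) (M.presheaf.stalk x) =
      Module.length (X.presheaf.stalk ξ) (M.presheaf.stalk ξ) := by
  letI := StalkLoc.specAlg h
  letI := StalkLoc.specMod M h
  haveI := StalkLoc.isScalarTower M h
  haveI := isLocalization_primeOf h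
  haveI : IsLocalizedModule (primeOf h).asIdeal.primeCompl (StalkLoc.specLin M h) := by
    have h1 := StalkLoc.isLocalizedModule_specLin M hM h
    have h2 : (primeOf h).asIdeal.primeCompl =
        (RingHom.ker (Cyc.specMap x ξ h)).primeCompl := by
      ext a
      change a ∉ (primeOf h).asIdeal ↔ a ∉ RingHom.ker (Cyc.specMap x ξ h)
      rw [primeOf_asIdeal]
    rw [h2]
    exact h1
  exact length_localization_eq (primeOf h).asIdeal (X.presheaf.stalk ξ) (StalkLoc.specLin M h)

theorem mem_support_stalk_iff (M : X.Modules) (hM : Coh.IsQCoh M) {x ξ : X} (h : ξ ⤳ x) :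
    primeOf h ∈ Module.support (X.presheaf.stalk x) (M.presheaf.stalk x) ↔
      Nontrivial (M.presheaf.stalk ξ) := by
  rw [← not_iff_not, ← locLen_eq_zero_iff, locLen_stalk M hM h, Module.length_eq_zero_iff,
    not_nontrivial_iff_subsingleton]

variable [IsLocallyNoetherian X] (hδ : Cyc.IsDimFun X δ) (x : X)
  (N : Type v) [AddCommGroup N] [Module (X.presheaf.stalk x) N]
  [Module.Finite (X.presheaf.stalk x) N]
  (hdim : ∀ (ξ : X) (h : ξ ⤳ x), primeOf h ∈ Module.support (X.presheaf.stalk x) N →
    δ ξ ≤ δ x + 1)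

omit [IsLocallyNoetherian X] [Module.Finite (X.presheaf.stalk x) N] in
include hδ hdim in
/-- Points of δ-dimension `δ x + 1` in the support are minimal in the support. -/
theorem minimal_of_mem_support {ξ : X} (h : ξ ⤳ x) (hd : δ x + 1 = δ ξ)
    {q : PrimeSpectrum (X.presheaf.stalk x)} (hq : q ∈ Module.support (X.presheaf.stalk x) N)
    (hle : q ≤ primeOf h) : q = primeOf h := by
  rw [← primeOf_ptOf q] at hle hq ⊢
  rw [primeOf_le_iff] at hle
  rw [primeOf_inj]
  have h1 := hdim _ _ hq
  refine eq_of_specializes_of_eq hδ hle ?_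
  have h2 := le_of_specializes hδ hle
  omega

include hδ hdim in
theorem mem_minimalPrimes_annihilator {ξ : X} (h : ξ ⤳ x) (hd : δ x + 1 = δ ξ)
    (hs : primeOf h ∈ Module.support (X.presheaf.stalk x) N) :
    (primeOf h).asIdeal ∈ (Module.annihilator (X.presheaf.stalk x) N).minimalPrimes := by
  refine ⟨⟨(primeOf h).2, Module.annihilator_le_of_mem_support hs⟩, ?_⟩
  rintro q ⟨hq, hann⟩ hle
  have hqs : (⟨q, hq⟩ : PrimeSpectrum (X.presheaf.stalk x)) ∈
      Module.support (X.presheaf.stalk x) N := by
    rw [Module.support_eq_zeroLocus]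
    exact hann
  have := minimal_of_mem_support hδ x N hdim h hd hqs hle
  exact (congrArg PrimeSpectrum.asIdeal this).ge

variable (f : X.presheaf.stalk x) (hf : Function.Injective (fun m : N => f • m))

include hδ hdim hf in
theorem notMem_primeOf {ξ : X} (h : ξ ⤳ x) (hd : δ x + 1 = δ ξ)
    (hs : primeOf h ∈ Module.support (X.presheaf.stalk x) N) : f ∉ (primeOf h).asIdeal := by
  intro hmem
  have h1 := mem_minimalPrimes_annihilator hδ x N hdim h hd hs
  have h2 := Module.associatedPrimes.minimalPrimes_annihilator_subset_associatedPrimes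
    (X.presheaf.stalk x) N h1
  obtain ⟨hp, m, hm⟩ := isAssociatedPrime_iff.mp h2
  have hfm : f • m = 0 := by
    rw [hm, Submodule.mem_colon_singleton, Submodule.mem_bot] at hmem
    exact hmem
  have hm0 : m = 0 := hf (by simp only [hfm, smul_zero])
  apply hp.ne_top
  rw [hm, hm0, eq_top_iff]
  intro a _
  rw [Submodule.mem_colon_singleton, smul_zero]
  exact zero_mem _

open scoped Classical in
include hδ hdim hf in
/-- Stacks 02QG at a point of a scheme. -/
theorem length_quot_eq_finsum :
    Module.length (X.presheaf.stalk x) (N ⧸ f • (⊤ : Submodule (X.presheaf.stalk x) N)) ≠ ⊤ ∧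
    ((Module.length (X.presheaf.stalk x)
      (N ⧸ f • (⊤ : Submodule (X.presheaf.stalk x) N))).toNat : ℤ) =
      ∑ᶠ ξ : X, if h : ξ ⤳ x ∧ δ x + 1 = δ ξ then
        ((locLen (primeOf h.1) N).toNat : ℤ) * Cyc.ordAt x ξ h.1 (Cyc.specMap x ξ h.1 f)
      else 0 := by
  classical
  -- the finite set of non-maximal primes in the support
  have hclass : ∀ p ∈ Module.support (X.presheaf.stalk x) N,
      p.asIdeal ≠ IsLocalRing.maximalIdeal (X.presheaf.stalk x) →
      ∃ (ξ : X) (h : ξ ⤳ x), δ x + 1 = δ ξ ∧ p = primeOf h := by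
    intro p hp hne
    refine ⟨ptOf p, ptOf_specializes p, ?_, (primeOf_ptOf p).symm⟩
    have h1 := hdim (ptOf p) (ptOf_specializes p) (by rwa [primeOf_ptOf])
    have h2 : ptOf p ≠ x := by
      intro he
      apply hne
      have h3 : p = primeOf (specializes_refl x) := by
        apply ptOf_injective x
        rw [ptOf_primeOf, he]
      rw [h3, primeOf_refl]
      rfl
    have h3 := lt_of_specializes hδ (ptOf_specializes p) h2
    omega
  have hfin : {p : PrimeSpectrum (X.presheaf.stalk x) |
      p ∈ Module.support (X.presheaf.stalk x) N ∧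
      p.asIdeal ≠ IsLocalRing.maximalIdeal (X.presheaf.stalk x)}.Finite := by
    refine Set.Finite.of_finite_image (f := PrimeSpectrum.asIdeal) ?_
      (fun a _ b _ hab => PrimeSpectrum.ext hab)
    refine ((Module.annihilator (X.presheaf.stalk x) N).finite_minimalPrimes_of_isNoetherianRing
      (X.presheaf.stalk x)).subset ?_
    rintro _ ⟨p, ⟨hp, hne⟩, rfl⟩
    obtain ⟨ξ, h, hd, rfl⟩ := hclass p hp hne
    exact mem_minimalPrimes_annihilator hδ x N hdim h hd hp
  let S := hfin.toFinset
  have hS : ∀ p, p ∈ S ↔ p ∈ Module.support (X.presheaf.stalk x) N ∧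
      p.asIdeal ≠ IsLocalRing.maximalIdeal (X.presheaf.stalk x) := fun p => hfin.mem_toFinset
  have hker : Module.length (X.presheaf.stalk x)
      (LinearMap.ker (LinearMap.lsmul (X.presheaf.stalk x) N f)) = 0 := by
    have : LinearMap.ker (LinearMap.lsmul (X.presheaf.stalk x) N f) = ⊥ :=
      LinearMap.ker_eq_bot.mpr hf
    rw [this, Module.length_bot]
  have key := CycA.LenSum.length_coker_eq_aux f (Module.support (X.presheaf.stalk x) N) S
    (fun p hp => by
      by_cases hm : p.asIdeal = IsLocalRing.maximalIdeal (X.presheaf.stalk x)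
      · exact Or.inl hm
      · exact Or.inr ((hS p).mpr ⟨hp, hm⟩))
    (fun p hp => ((hS p).mp hp).2)
    (fun p hp q hq hpq => by
      obtain ⟨hp1, hp2⟩ := (hS p).mp hp
      obtain ⟨hq1, hq2⟩ := (hS q).mp hq
      obtain ⟨ζ, hζ, hdζ, rfl⟩ := hclass q hq1 hq2
      exact minimal_of_mem_support hδ x N hdim hζ hdζ hp1 hpq)
    (fun p hp => by
      obtain ⟨hp1, hp2⟩ := (hS p).mp hp
      obtain ⟨ζ, hζ, hdζ, rfl⟩ := hclass p hp1 hp2
      exact notMem_primeOf hδ x N hdim f hf hζ hdζ hp1)
    (M := N) inferInstance subset_rfl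
  rw [hker, zero_add] at key
  have hne : Module.length (X.presheaf.stalk x)
      (N ⧸ f • (⊤ : Submodule (X.presheaf.stalk x) N)) ≠ ⊤ := by
    refine (CycA.LenSum.length_ker_coker_ne_top (M := N) f fun p hp hfp => ?_).1
    by_contra hmax
    have hm : p.asIdeal ≠ IsLocalRing.maximalIdeal (X.presheaf.stalk x) := fun h => by
      apply hmax
      rw [h]
      infer_instance
    obtain ⟨ζ, hζ, hdζ, rfl⟩ := hclass p hp hm
    exact notMem_primeOf hδ x N hdim f hf hζ hdζ hp hfp
  refine ⟨hne, ?_⟩
  have hterm : ∀ p ∈ S, ordQ p.asIdeal f * locLen p N ≠ ⊤ := by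
    intro p hp htop
    apply hne
    rw [key, ← Finset.sum_erase_add _ _ hp]
    change _ + ordQ p.asIdeal f * locLen p N = ⊤
    rw [htop, add_top]
  have hsum : ((Module.length (X.presheaf.stalk x)
      (N ⧸ f • (⊤ : Submodule (X.presheaf.stalk x) N))).toNat : ℤ) =
      ∑ p ∈ S, ((locLen p N).toNat : ℤ) * ((ordQ p.asIdeal f).toNat : ℤ) := by
    rw [key]
    change (((∑ p ∈ S, ordQ p.asIdeal f * locLen p N).toNat : ℕ) : ℤ) = _
    rw [ENat.toNat_sum hterm]
    push_cast
    refine Finset.sum_congr rfl fun p _ => ?_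
    rw [ENat.toNat_mul]
    push_cast
    ring
  rw [hsum]
  symm
  rw [finsum_eq_sum_of_support_subset (s := S.image ptOf)]
  · rw [Finset.sum_image (fun a _ b _ hab => ptOf_injective x hab)]
    refine Finset.sum_congr rfl fun p hp => ?_
    obtain ⟨hp1, hp2⟩ := (hS p).mp hp
    obtain ⟨ζ, hζ, hdζ, rfl⟩ := hclass p hp1 hp2
    have hnm := notMem_primeOf hδ x N hdim f hf hζ hdζ hp1
    have aux : ∀ (ξ' : X), ξ' = ζ → (if h : ξ' ⤳ x ∧ δ x + 1 = δ ξ' then
        ((locLen (primeOf h.1) N).toNat : ℤ) * Cyc.ordAt x ξ' h.1 (Cyc.specMap x ξ' h.1 f)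
      else 0) = ((locLen (primeOf hζ) N).toNat : ℤ) *
        ((ordQ (primeOf hζ).asIdeal f).toNat : ℤ) := by
      rintro _ rfl
      rw [dif_pos ⟨hζ, hdζ⟩, ordAt_specMap_eq_ordQ hδ hζ hdζ hnm]
    exact aux _ (ptOf_primeOf hζ)
  · intro ξ hξ
    rw [Function.mem_support] at hξ
    by_cases h : ξ ⤳ x ∧ δ x + 1 = δ ξ
    · rw [dif_pos h] at hξ
      rw [Finset.coe_image]
      refine ⟨primeOf h.1, ?_, ptOf_primeOf _⟩
      rw [Finset.mem_coe, hS]
      constructor
      · by_contra hns
        rw [← locLen_eq_zero_iff] at hns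
        rw [hns] at hξ
        simp at hξ
      · intro hm
        have : primeOf h.1 = primeOf (specializes_refl x) := by
          rw [primeOf_refl]
          exact PrimeSpectrum.ext hm
        rw [primeOf_inj] at this
        rw [this] at h
        omega
    · rw [dif_neg h] at hξ
      exact absurd rfl hξ

end Scheme

end Groth.Agent.CycB.StalkLen
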