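import Groth.Agent.CycB.AffRT

/-!
# Cycles on affine space bundles (Stacks 02TT)
-/

set_option autoImplicit false
universe u v

open AlgebraicGeometry CategoryTheory TopologicalSpace Limits

namespace Groth.Agent.CycB.AffBundle

open FinRat LocQuot FlatDiv FlatRat DivFun LineRT

variable {X Y : Scheme.{u}} (f : X ⟶ Y)

section Core

variable {δX : X → ℤ} {δY : Y → ℤ} {c k : ℤ} [∀ y, IsIntegral (f.fiber y)]

/-- A non-generic point of a fibre is, in the fibre, a finite sum of principal divisors. -/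
theorem exists_family_fiber (hX : Cyc.IsDimFun X δX) (hfib : ∀ y, RT (f.fiber y)) (w : X)
    (hw : w ≠ fg f (f w)) :
    ∃ (ι : Type u) (_ : Finite ι) (ξ : ι → X) (g : (j : ι) → X.residueField (ξ j)),
      (∀ j, f (ξ j) = f w) ∧ (∀ j, δX (ξ j) = δX w + 1) ∧ (∀ j, g j ≠ 0) ∧
      ∀ x, f x = f w → ∑ᶠ j, Cyc.divFun δX (ξ j) (g j) x = pt w x := by
  obtain ⟨w₀, hw₀⟩ := exists_fiberι f (z := f w) (x := w) rfl
  obtain ⟨f₀, hf₀⟩ := exists_fiberι f (map_fg f (f w))
  have hδF : Cyc.IsDimFun (f.fiber (f w)) (fun z => δX (f.fiberι (f w) z)) := by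
    refine isDimFun_comp _ hX fun x y z h1 h2 => ?_
    rw [Scheme.Hom.range_fiberι]
    have h3 : f (f.fiberι (f w) x) ⤳ f z := h1.map f.continuous
    have h4 : f z ⤳ f (f.fiberι (f w) y) := h2.map f.continuous
    rw [fiberι_apply] at h3 h4
    exact (h4.antisymm h3).eq
  have h1 := hfib (f w) _ hδF w₀ ⟨f₀, by
    rw [← DivNat.specializes_iff (f.fiberι (f w)), hf₀, hw₀]
    exact fg_specializes f rfl, fun h => hw (by rw [← hw₀, ← h, hf₀, map_fg])⟩
  obtain ⟨ι, hι, ξ, g, h2, h3, h4⟩ := exists_family_of_mem (f.fiberι (f w)) δX h1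
  rw [hw₀] at h2
  refine ⟨ι, hι, fun j => f.fiberι (f w) (ξ j), g, fun j => fiberι_apply f _ _, h2, h3, ?_⟩
  intro x hx
  obtain ⟨x₀, rfl⟩ := exists_fiberι f hx
  rw [h4]
  by_cases h : x₀ = w₀
  · rw [h, hw₀]; simp
  · rw [pt_of_ne h, pt_of_ne]
    exact fun h' => h ((f.fiberι (f w)).isEmbedding.injective (h'.trans hw₀.symm))

omit [∀ y, IsIntegral (f.fiber y)] in
/-- quasi-compactness of preimages -/
theorem exists_isCompact_preimage [QuasiCompact f] (y : Y) :
    ∃ V : Set Y, IsOpen V ∧ y ∈ V ∧ IsCompact (f ⁻¹' V) := by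
  obtain ⟨V, hV, hyV, -⟩ := exists_isAffineOpen_mem_and_subset (X := Y) (x := y) (U := ⊤) trivial
  exact ⟨V, V.2, hyV, f.isCompact_preimage hV.isCompact⟩

/-- One step: remove the points lying over points of dimension `m + 1`. -/
theorem exists_step [QuasiCompact f] [IsLocallyNoetherian X] (hX : Cyc.IsDimFun X δX)
    (hY : Cyc.IsDimFun Y δY) (hc : ∀ x : X, FibGen f x → δX x = δY (f x) + c)
    (hfib : ∀ y, RT (f.fiber y)) (β : AlgebraicCycle X ℤ) (hβ : β ∈ Cyc.Zk X δX (k + c)) (m : ℤ)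
    (hm : k ≤ m) (hsupp : ∀ x, β x ≠ 0 → δY (f x) ≤ m + 1) :
    ∃ β' : AlgebraicCycle X ℤ, β' ∈ Cyc.Zk X δX (k + c) ∧ (∀ x, β' x ≠ 0 → δY (f x) ≤ m) ∧
      Cyc.RatEquiv δX (k + c) β β' := by
  classical
  let S : Type u := {w : X // β w ≠ 0 ∧ δY (f w) = m + 1}
  have hδw : ∀ w : S, δX w.1 = k + c := by
    intro w
    by_contra h
    exact w.2.1 (hβ w.1 h)
  have hne : ∀ w : S, w.1 ≠ fg f (f w.1) := by
    intro w h
    have h1 := hc _ (fibGen_fg f (f w.1))
    rw [← h, hδw, w.2.2] at h1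
    omega
  choose ι hι ξ g h1 h2 h3 h4 using fun w : S => exists_family_fiber f hX hfib w.1 (hne w)
  have hloc : LocFin (fun p : Σ w : S, ι w => ξ p.1 p.2) := by
    intro x
    obtain ⟨V, hV, hxV, hcomp⟩ := exists_isCompact_preimage f (f x)
    refine ⟨f ⁻¹' V, hV.preimage f.continuous, hxV, ?_⟩
    have h5 := (locFin_support β).finite_of_isCompact hcomp
    have h6 : {w : S | w.1 ∈ f ⁻¹' V}.Finite := by
      refine Set.Finite.preimage (f := fun w : S => (⟨w.1, w.2.1⟩ : {x // β x ≠ 0}))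
        (Function.Injective.injOn ?_) h5
      intro a b hab
      exact Subtype.ext (congrArg (fun z : {x // β x ≠ 0} => z.1) hab)
    have h7 : {p : Σ w : S, ι w | ξ p.1 p.2 ∈ f ⁻¹' V} ⊆
        ⋃ w ∈ {w : S | w.1 ∈ f ⁻¹' V}, Set.range (Sigma.mk w : ι w → Σ w : S, ι w) := by
      rintro ⟨w, i⟩ hp
      refine Set.mem_biUnion (x := w) ?_ ⟨i, rfl⟩
      change f w.1 ∈ V
      rw [← h1 w i]
      exact hp
    exact (h6.biUnion fun w _ => Set.finite_range _).subset h7
  let G : (p : Σ w : S, ι w) → X.residueField (ξ p.1 p.2) := fun p => g p.1 p.2 ^ (β p.1.1)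
  obtain ⟨γ, hγ⟩ := exists_cycle_sum_divFun hX hloc G
  have hγ0 : Cyc.RatEquivZero δX (k + c) γ := by
    refine ratEquivZero_of _ G (fun p => ?_) (fun p => zpow_ne_zero _ (h3 p.1 p.2)) hloc γ hγ
    rw [h2, hδw]
  have hγval : ∀ x, γ x = ∑ᶠ w : S, ∑ᶠ i, Cyc.divFun δX (ξ w i) (g w i ^ (β w.1)) x := by
    intro x
    rw [hγ]
    exact finsum_sigma_of_finite _ (finite_support_divFun hloc G x (δ := δX))
  have hγle : ∀ x, γ x ≠ 0 → δY (f x) ≤ m + 1 := by
    intro x hx
    by_contra hcon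
    refine hx ?_
    rw [hγ]
    refine finsum_eq_zero_of_forall_eq_zero fun p => ?_
    by_contra h
    have h5 := (divFun_ne_zero h).1
    have h6 : f p.1.1 ⤳ f x := by
      rw [← h1 p.1 p.2]; exact h5.map f.continuous
    have h7 := le_of_specializes hY h6
    rw [p.1.2.2] at h7
    exact hcon h7
  have hγeq : ∀ x, δY (f x) = m + 1 → γ x = β x := by
    intro x hx
    rw [hγval]
    have h5 : ∀ w : S, ∑ᶠ i, Cyc.divFun δX (ξ w i) (g w i ^ (β w.1)) x = β w.1 * pt w.1 x := by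
      intro w
      by_cases h : f x = f w.1
      · rw [← h4 w x h, mul_finsum]
        refine finsum_congr fun i => ?_
        rw [OrdFrac.divFun_zpow, Pi.smul_apply, smul_eq_mul]
      · rw [pt_of_ne (fun h' => h (by rw [h'])), mul_zero]
        refine finsum_eq_zero_of_forall_eq_zero fun i => ?_
        by_contra h'
        have h5 := (divFun_ne_zero h').1
        have h6 : f w.1 ⤳ f x := by
          rw [← h1 w i]; exact h5.map f.continuous
        have h7 := eq_of_specializes_of_eq hY h6 (by rw [hx, w.2.2])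
        exact h h7.symm
    rw [finsum_congr h5]
    by_cases hb : β x = 0
    · rw [hb]
      refine finsum_eq_zero_of_forall_eq_zero fun w => ?_
      rw [pt_of_ne, mul_zero]
      rintro rfl
      exact w.2.1 hb
    · rw [finsum_eq_single _ (⟨x, hb, hx⟩ : S)]
      · rw [pt_self, mul_one]
      · intro w hw
        rw [pt_of_ne, mul_zero]
        rintro rfl
        exact hw rfl
  refine ⟨β - γ, ?_, ?_, ?_⟩
  · intro x hx
    change β x - γ x = 0
    rw [hβ x hx, RatEquivZero.mem_Zk hγ0 x hx, sub_zero]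
  · intro x hx
    change β x - γ x ≠ 0 at hx
    have h5 : δY (f x) ≤ m + 1 := by
      by_contra hcon
      have h6 : β x = 0 := by
        by_contra h; exact hcon (hsupp x h)
      have h7 : γ x = 0 := by
        by_contra h; exact hcon (hγle x h)
      exact hx (by rw [h6, h7, sub_zero])
    have h6 : δY (f x) ≠ m + 1 := by
      intro h
      exact hx (by rw [hγeq x h, sub_self])
    omega
  · rw [Cyc.RatEquiv, sub_sub_cancel]
    exact hγ0

/-- Base case: cycles supported on generic points of fibres over `k`-dimensional points. -/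
theorem exists_base [Flat f] [QuasiCompact f] (hX : Cyc.IsDimFun X δX)
    (hc : ∀ x : X, FibGen f x → δX x = δY (f x) + c)
    (β : AlgebraicCycle X ℤ) (hβ : β ∈ Cyc.Zk X δX (k + c))
    (hsupp : ∀ x, β x ≠ 0 → δY (f x) ≤ k) :
    ∃ α : AlgebraicCycle Y ℤ, α ∈ Cyc.Zk Y δY k ∧ ⇑β = Cyc.pullFun f δX δY c ⇑α := by
  classical
  have key : ∀ x, β x ≠ 0 → δY (f x) = k ∧ FibGen f x := by
    intro x hx
    have h1 : δX x = k + c := by
      by_contra h; exact hx (hβ x h)
    have h2 := le_of_specializes hX (fg_specializes f (z := f x) (x := x) rfl)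
    have h3 := hc _ (fibGen_fg f (f x))
    rw [map_fg] at h3
    have h4 := hsupp x hx
    have h5 : δY (f x) = k := by omega
    exact ⟨h5, fibGen_of_eq f c hX hc (by omega)⟩
  let a : Y → ℤ := fun y => if δY y = k then β (fg f y) else 0
  have ha : ∀ y : Y, ∃ V : Set Y, IsOpen V ∧ y ∈ V ∧ (V ∩ Function.support a).Finite := by
    intro y
    obtain ⟨V, hV, hyV, hcomp⟩ := exists_isCompact_preimage f y
    refine ⟨V, hV, hyV, ?_⟩
    have h5 := (locFin_support β).finite_of_isCompact hcomp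
    refine (h5.image (fun z => f z.1)).subset ?_
    rintro z ⟨hz, hz'⟩
    have h6 : β (fg f z) ≠ 0 := by
      intro h
      apply hz'
      simp only [a]
      split_ifs
      · exact h
      · rfl
    refine ⟨⟨fg f z, h6⟩, ?_, map_fg f z⟩
    change f (fg f z) ∈ V
    rw [map_fg]
    exact hz
  obtain ⟨α, hα⟩ := exists_locallyFinsupp a ha
  refine ⟨α, fun y hy => ?_, ?_⟩
  · rw [hα]
    simp only [a]
    rw [if_neg hy]
  · funext x
    have hpull : Cyc.pullFun f δX δY c α x =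
      if δX x = δY (f x) + c then α (f x) * ((mult f x).toNat : ℤ) else 0 := rfl
    rw [hpull, hα]
    split_ifs with h
    · have h1 := fibGen_of_eq f c hX hc h
      have h2 := eq_fg_of_fibGen f h1
      have h3 : mult f x = 1 := by
        rw [h2]; exact mult_fg f _
      rw [h3]
      simp only [a]
      rw [← h2]
      split_ifs with h4
      · simp
      · rw [zero_mul]
        by_contra h5
        exact h4 (key x h5).1
    · by_contra h1
      have h2 := key x h1
      exact h (hc x h2.2)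

theorem exists_pull_aux [Flat f] [QuasiCompact f] [IsLocallyNoetherian X] (hX : Cyc.IsDimFun X δX)
    (hY : Cyc.IsDimFun Y δY) (hc : ∀ x : X, FibGen f x → δX x = δY (f x) + c)
    (hfib : ∀ y, RT (f.fiber y)) (j : ℕ) :
    ∀ (β : AlgebraicCycle X ℤ), β ∈ Cyc.Zk X δX (k + c) → (∀ x, β x ≠ 0 → δY (f x) ≤ k + j) →
    ∃ (α : AlgebraicCycle Y ℤ) (β' : AlgebraicCycle X ℤ), α ∈ Cyc.Zk Y δY k ∧
      ⇑β' = Cyc.pullFun f δX δY c ⇑α ∧ Cyc.RatEquiv δX (k + c) β β' := by
  induction j with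
  | zero =>
    intro β hβ hsupp
    obtain ⟨α, h1, h2⟩ := exists_base f hX hc β hβ (by simpa using hsupp)
    exact ⟨α, β, h1, h2, ratEquiv_refl β⟩
  | succ j ih =>
    intro β hβ hsupp
    obtain ⟨β₁, h1, h2, h3⟩ := exists_step f hX hY hc hfib β hβ (k + j) (by omega) (by
      intro x hx
      have := hsupp x hx
      push_cast at this
      omega)
    obtain ⟨α, β', h4, h5, h6⟩ := ih β₁ h1 h2
    exact ⟨α, β', h4, h5, RatEquiv.trans h3 h6⟩

end Core

/-- Stacks 02TT. -/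
theorem exists_pull_of_affineBundle (δX : X → ℤ) (δY : Y → ℤ) (hX : Cyc.IsSetup X δX)
    (hY : Cyc.IsSetup Y δY) [Flat f] [LocallyOfFiniteType f] (r : ℕ) (hr : Cyc.HasRelDim f r)
    (hδ : Cyc.DeltaCompat f δX δY)
    (hloc : ∀ y : Y, ∃ U : Y.Opens, y ∈ U ∧
      ∃ e : (↑(f ⁻¹ᵁ U) : Scheme.{u}) ≅ 𝔸(ULift.{u} (Fin r); (↑U : Scheme.{u})),
        e.hom ≫ (𝔸(ULift.{u} (Fin r); (↑U : Scheme.{u})) ↘ (↑U : Scheme.{u})) = f ∣_ U)
    (k : ℤ) (β : AlgebraicCycle X ℤ) (hβ : β ∈ Cyc.Zk X δX (k + r)) :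
    ∃ (α : AlgebraicCycle Y ℤ) (β' : AlgebraicCycle X ℤ), α ∈ Cyc.Zk Y δY k ∧
      ⇑β' = Cyc.pullFun f δX δY r ⇑α ∧ Cyc.RatEquiv δX (k + r) β β' := by
  have hN := hX.1
  choose U hyU e he using hloc
  have hqc : QuasiCompact f := by
    rw [IsZariskiLocalAtTarget.iff_of_iSup_eq_top (P := @QuasiCompact) U
      (top_le_iff.1 fun y _ => Opens.mem_iSup.2 ⟨y, hyU y⟩)]
    intro y
    rw [← he]
    infer_instance
  have hiso : ∀ y : Y, Nonempty (f.fiber y ≅
      𝔸(ULift.{u} (Fin r); Spec ((↑(U y) : Scheme.{u}).residueField ⟨y, hyU y⟩))) := fun y =>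
    AffRT.exists_fiberIso (ULift.{u} (Fin r)) f (U y) (e y) (he y) ⟨y, hyU y⟩
  have h1 : ∀ y, IsIntegral (f.fiber y) := fun y => by
    have : Nonempty (f.fiber y) := ⟨(hiso y).some.inv (genericPoint _)⟩
    exact isIntegral_of_isOpenImmersion (hiso y).some.hom
  have h2 : ∀ y, RT (f.fiber y) := fun y =>
    (AffRT.RT_affineSpace _ r).of_iso (hiso y).some.symm
  refine exists_pull_aux f hX.2.2 hY.2.2 (delta_of_fibGen f hr hδ) h2 r β hβ fun x hx => ?_
  obtain ⟨n, -, hn⟩ := hδ x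
  have h3 : δX x = k + r := by
    by_contra h; exact hx (hβ x h)
  omega

end Groth.Agent.CycB.AffBundle
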