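import Groth.Agent.CycB.LineRT
import Mathlib.AlgebraicGeometry.AffineSpace

/-!
# Fibres of affine space bundles are rationally trivial
-/

set_option autoImplicit false
universe u v

open AlgebraicGeometry CategoryTheory TopologicalSpace Limits

namespace Groth.Agent.CycB.AffRT

open FinRat LocQuot FlatDiv FlatRat DivFun LineRT

theorem flat_over (n : Type u) (R : CommRingCat.{u}) : Flat (𝔸(n; Spec R) ↘ Spec R) := by
  rw [← MorphismProperty.cancel_left_of_respectsIso (P := @Flat) (AffineSpace.SpecIso n R).inv,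
    AffineSpace.SpecIso_inv_over, Flat.SpecMap_iff]
  exact RingHom.flat_algebraMap_iff.2 (inferInstanceAs (Module.Flat R (MvPolynomial n R)))

/-- The Noetherian property of affine space -/
theorem isLocallyNoetherian_affine (n : Type u) [Finite n] (R : CommRingCat.{u})
    [IsNoetherianRing R] : IsLocallyNoetherian 𝔸(n; Spec R) := by
  have : IsNoetherianRing (CommRingCat.of (MvPolynomial n R)) :=
    inferInstanceAs (IsNoetherianRing (MvPolynomial n R))
  exact isLocallyNoetherian_of_isOpenImmersion (AffineSpace.SpecIso n R).hom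

/-- the fibre of an affine space bundle -/
theorem exists_fiberIso {X Y : Scheme.{u}} (n : Type u) (f : X ⟶ Y) (U : Y.Opens)
    (e : (↑(f ⁻¹ᵁ U) : Scheme.{u}) ≅ 𝔸(n; (↑U : Scheme.{u})))
    (he : e.hom ≫ (𝔸(n; (↑U : Scheme.{u})) ↘ (↑U : Scheme.{u})) = f ∣_ U) (z : U) :
    Nonempty (f.fiber (U.ι z) ≅ 𝔸(n; Spec ((↑U : Scheme.{u}).residueField z))) := by
  have h1 := AffineSpace.isPullback_map (n := n) ((↑U : Scheme.{u}).fromSpecResidueField z)
  have h2 : IsPullback (AffineSpace.map n ((↑U : Scheme.{u}).fromSpecResidueField z) ≫ e.inv)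
      (𝔸(n; Spec ((↑U : Scheme.{u}).residueField z)) ↘ _) (f ∣_ U)
      ((↑U : Scheme.{u}).fromSpecResidueField z) := by
    refine h1.of_iso (Iso.refl _) e.symm (Iso.refl _) (Iso.refl _) ?_ ?_ ?_ ?_
    · simp
    · simp
    · simp [← he]
    · simp
  have h3 := h2.paste_horiz (isPullback_morphismRestrict f U).flip
  have h4 : IsPullback ((AffineSpace.map n ((↑U : Scheme.{u}).fromSpecResidueField z) ≫ e.inv) ≫
      (f ⁻¹ᵁ U).ι) ((𝔸(n; Spec ((↑U : Scheme.{u}).residueField z)) ↘
        Spec ((↑U : Scheme.{u}).residueField z)) ≫ Spec.map (U.ι.residueFieldMap z)) f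
      (Y.fromSpecResidueField (U.ι z)) := by
    refine h3.of_iso (Iso.refl _) (Iso.refl _) (asIso (Spec.map (U.ι.residueFieldMap z)))
      (Iso.refl _) ?_ ?_ ?_ ?_
    · simp
    · simp
    · simp
    · rw [Iso.refl_hom, Category.comp_id, asIso_hom]
      exact (U.ι.SpecMap_residueFieldMap_fromSpecResidueField z).symm
  exact ⟨h4.isoPullback.symm⟩

theorem exists_fiberIso' (n : Type u) (Z : Scheme.{u}) (z : Z) :
    Nonempty ((𝔸(n; Z) ↘ Z).fiber z ≅ 𝔸(n; Spec (Z.residueField z))) :=
  ⟨(AffineSpace.isPullback_map (n := n) (Z.fromSpecResidueField z)).isoPullback.symm⟩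

/-- iso of spectra from a ring equivalence -/
noncomputable def specIso {R S : Type u} [CommRing R] [CommRing S] (e : R ≃+* S) :
    Spec (CommRingCat.of S) ≅ Spec (CommRingCat.of R) :=
  Scheme.Spec.mapIso e.toCommRingCatIso.op

theorem RT_field (K : Type u) [Field K] : RT (Spec (CommRingCat.of K)) := by
  intro δ hδ w ⟨w', _, hne⟩
  exact absurd (Subsingleton.elim (α := PrimeSpectrum K) w' w) hne

/-- the affine line over a field -/
noncomputable def lineIso (K : Type u) [Field K] :
    𝔸(PUnit.{u+1}; Spec (CommRingCat.of K)) ≅ Spec (CommRingCat.of (Polynomial K)) :=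
  AffineSpace.SpecIso PUnit (CommRingCat.of K) ≪≫
    specIso (MvPolynomial.uniqueAlgEquiv K PUnit.{u+1}).symm.toRingEquiv

theorem dimOne_poly (K : Type u) [Field K] : DimOne (Spec (CommRingCat.of (Polynomial K))) :=
  have : IsDomain (CommRingCat.of (Polynomial K)) := inferInstanceAs (IsDomain (Polynomial K))
  have : IsPrincipalIdealRing (CommRingCat.of (Polynomial K)) :=
    inferInstanceAs (IsPrincipalIdealRing (Polynomial K))
  dimOne_Spec _

theorem RT_poly (K : Type u) [Field K] : RT (Spec (CommRingCat.of (Polynomial K))) :=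
  have : IsDomain (CommRingCat.of (Polynomial K)) := inferInstanceAs (IsDomain (Polynomial K))
  have : IsPrincipalIdealRing (CommRingCat.of (Polynomial K)) :=
    inferInstanceAs (IsPrincipalIdealRing (Polynomial K))
  PidRT.RT_Spec_PID _

theorem exists_ne_poly (K : Type u) [Field K] :
    ∃ a b : Spec (CommRingCat.of (Polynomial K)), a ≠ b := by
  have h1 : (Ideal.span {(Polynomial.X : Polynomial K)}).IsPrime :=
    (Ideal.span_singleton_prime Polynomial.X_ne_zero).2 Polynomial.prime_X
  refine ⟨(⟨⊥, Ideal.isPrime_bot⟩ : PrimeSpectrum (Polynomial K)),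
    (⟨_, h1⟩ : PrimeSpectrum (Polynomial K)), fun h => ?_⟩
  have h2 : (⊥ : Ideal (Polynomial K)) = Ideal.span {Polynomial.X} :=
    congrArg PrimeSpectrum.asIdeal h
  exact Polynomial.X_ne_zero (Ideal.span_singleton_eq_bot.1 h2.symm)

theorem RT_affineLine (R : CommRingCat.{u}) [IsNoetherianRing R] (hR : RT (Spec R)) :
    RT 𝔸(PUnit.{u+1}; Spec R) := by
  have h0 := flat_over PUnit.{u+1} R
  have h1 := isLocallyNoetherian_affine PUnit.{u+1} R
  let p := 𝔸(PUnit.{u+1}; Spec R) ↘ Spec R
  have e : ∀ z : Spec R, Nonempty (p.fiber z ≅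
      Spec (CommRingCat.of (Polynomial ((Spec R).residueField z)))) := fun z =>
    ⟨(exists_fiberIso' PUnit.{u+1} (Spec R) z).some ≪≫ lineIso _⟩
  have h2 : ∀ z, IsIntegral (p.fiber z) := fun z => by
    have : IsDomain (CommRingCat.of (Polynomial ((Spec R).residueField z))) :=
      inferInstanceAs (IsDomain (Polynomial _))
    exact isIntegral_of_isOpenImmersion (e z).some.hom
  let s : Spec R ⟶ 𝔸(PUnit.{u+1}; Spec R) := AffineSpace.homOfVector (𝟙 _) (fun _ => 0)
  have hs : s ≫ p = 𝟙 _ := AffineSpace.homOfVector_over _ _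
  have h3 : IsClosedImmersion s := by
    have : IsClosedImmersion (s ≫ p) := by rw [hs]; infer_instance
    exact IsClosedImmersion.of_comp s p
  refine RT_line p s hs (fun z => (dimOne_poly _).of_iso (e z).some) (fun z => ?_)
    (fun z => (RT_poly _).of_iso (e z).some.symm) hR
  obtain ⟨a, b, hab⟩ := exists_ne_poly ((Spec R).residueField z)
  exact ⟨(e z).some.inv a, (e z).some.inv b,
    fun h => hab ((e z).some.inv.isEmbedding.injective h)⟩

theorem RT_mvPoly_fin (K : Type u) [Field K] (r : ℕ) :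
    RT (Spec (CommRingCat.of (MvPolynomial (Fin r) K))) := by
  induction r with
  | zero => exact (RT_field K).of_iso (specIso (MvPolynomial.isEmptyRingEquiv K (Fin 0)))
  | succ r ih =>
    have : IsNoetherianRing (CommRingCat.of (MvPolynomial (Fin r) K)) :=
      inferInstanceAs (IsNoetherianRing (MvPolynomial (Fin r) K))
    refine (RT_affineLine _ ih).of_iso (AffineSpace.SpecIso PUnit _ ≪≫ specIso ?_)
    exact ((MvPolynomial.finSuccEquiv K r).trans
      ((MvPolynomial.uniqueAlgEquiv (MvPolynomial (Fin r) K) PUnit.{u+1}).symm.restrictScalars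
        K)).toRingEquiv

theorem RT_affineSpace (K : Type u) [Field K] (r : ℕ) :
    RT 𝔸(ULift.{u} (Fin r); Spec (CommRingCat.of K)) :=
  (RT_mvPoly_fin K r).of_iso
    ((AffineSpace.SpecIso (ULift.{u} (Fin r)) (CommRingCat.of K)) ≪≫
      specIso (MvPolynomial.renameEquiv K Equiv.ulift.symm).toRingEquiv).symm

end Groth.Agent.CycB.AffRT
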