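import Groth.Agent.CycB.FlatAlg
import Groth.Agent.CycB.LocQuot
import Groth.Agent.CycB.DivNat
import Groth.Agent.CycB.OrdFrac
import Mathlib.AlgebraicGeometry.Morphisms.Flat

/-!
# Flat pullback of principal divisors, pointwise
-/

set_option autoImplicit false
universe u

open AlgebraicGeometry CategoryTheory TopologicalSpace

namespace Groth.Agent.CycB.FlatDiv

open LenSum FlatAlg LocQuot

section RingHom

variable {A B : Type u} [CommRing A] [CommRing B]

theorem comap_minimalPrime_aux [Algebra A B] [Module.Flat A B]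
    (P : Ideal A) [P.IsPrime] (q : Ideal (B ⧸ P.map (algebraMap A B))) (hq : q ∈ minimalPrimes _) :
    (q.comap (Ideal.Quotient.mk (P.map (algebraMap A B)))).comap (algebraMap A B) = P := by
  have hflat' := flat_quotient (A := A) (B := B) P
  have hbot := comap_eq_bot_of_mem_minimalPrimes (A ⧸ P) (B ⧸ P.map (algebraMap A B)) hq
  rw [Ideal.comap_comap]
  have h1 : (Ideal.Quotient.mk (P.map (algebraMap A B))).comp (algebraMap A B) =
    (algebraMap (A ⧸ P) (B ⧸ P.map (algebraMap A B))).comp (Ideal.Quotient.mk P) := rfl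
  rw [h1, ← Ideal.comap_comap, hbot, ← RingHom.ker_eq_comap_bot, Ideal.mk_ker]

theorem comap_minimalPrime (φ : A →+* B) (hφ : φ.Flat)
    (P : Ideal A) [P.IsPrime] (q : Ideal (B ⧸ P.map φ)) (hq : q ∈ minimalPrimes _) :
    (q.comap (Ideal.Quotient.mk (P.map φ))).comap φ = P := by
  let := φ.toAlgebra
  have : Module.Flat A B := hφ
  exact comap_minimalPrime_aux P q hq

variable [IsLocalRing A] [IsLocalRing B]

theorem ord_mul_length_ringHom (φ : A →+* B) [IsLocalHom φ] (hφ : φ.Flat)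
    [IsNoetherianRing A] [IsNoetherianRing B] (P : Ideal A)
    [P.IsPrime] [Ring.KrullDimLE 1 (A ⧸ P)]
    (hfib : ∀ Q : Ideal B, Q.IsPrime → (IsLocalRing.maximalIdeal A).map φ ≤ Q →
      Q = IsLocalRing.maximalIdeal B) {a : A} (ha : a ∉ P) :
    Ring.ord (A ⧸ P) (Ideal.Quotient.mk P a) *
        Module.length B (B ⧸ (IsLocalRing.maximalIdeal A).map φ) =
      ∑ᶠ q : NMin (B ⧸ P.map φ), locLen q.1.asIdeal (B ⧸ P.map φ) *
        Ring.ord ((B ⧸ P.map φ) ⧸ q.1.asIdeal)
          (Ideal.Quotient.mk _ (Ideal.Quotient.mk _ (φ a))) := by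
  let := φ.toAlgebra
  have : Module.Flat A B := hφ
  have : IsLocalHom (algebraMap A B) := inferInstanceAs (IsLocalHom φ)
  exact ord_mul_length_eq_finsum_rel (B := B) P hfib ha

theorem krullDimLE_one_ringHom (φ : A →+* B) [IsLocalHom φ]
    [IsNoetherianRing A] [IsNoetherianRing B] (P : Ideal A)
    [P.IsPrime] [Ring.KrullDimLE 1 (A ⧸ P)]
    (hfib : ∀ Q : Ideal B, Q.IsPrime → (IsLocalRing.maximalIdeal A).map φ ≤ Q →
      Q = IsLocalRing.maximalIdeal B) : Ring.KrullDimLE 1 (B ⧸ P.map φ) := by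
  let := φ.toAlgebra
  have : IsLocalHom (algebraMap A B) := inferInstanceAs (IsLocalHom φ)
  exact krullDimLE_one_rel (B := B) P hfib

end RingHom

variable {X X' : Scheme.{u}} (p : X' ⟶ X)

/-- The map `κ(ξ) → κ(ξ')` for `p ξ' = ξ`. -/
noncomputable def pullRes {ξ : X} {ξ' : X'} (e : p ξ' = ξ) : X.residueField ξ →+* X'.residueField ξ' :=
  ((X.residueFieldCongr e.symm).hom ≫ p.residueFieldMap ξ').hom

theorem pullRes_rfl (ξ' : X') (g : X.residueField (p ξ')) :
    pullRes p (ξ := p ξ') rfl g = (p.residueFieldMap ξ').hom g := by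
  simp [pullRes]

theorem pullRes_specMap {x' ξ' : X'} (h' : ξ' ⤳ x') {ξ : X} (e : p ξ' = ξ) (h : ξ ⤳ p x')
    (a : X.presheaf.stalk (p x')) :
    pullRes p e (Cyc.specMap (p x') ξ h a) = Cyc.specMap x' ξ' h' ((p.stalkMap x').hom a) := by
  subst e
  rw [pullRes_rfl]
  exact DivNat.residueFieldMap_specMap p x' ξ' h' a

/-- the multiplicity of the flat pullback at `x'`. -/
noncomputable def mult (x' : X') : ℕ∞ :=
  Module.length (X'.presheaf.stalk x') (X'.presheaf.stalk x' ⧸ Ideal.map (p.stalkMap x').hom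
    (IsLocalRing.maximalIdeal (X.presheaf.stalk (p x'))))

theorem map_ker_eq {x' ξ' : X'} (h' : ξ' ⤳ x') {ξ : X} (e : p ξ' = ξ) (h : ξ ⤳ p x') :
    ((RingHom.ker (Cyc.specMap (p x') ξ h)).map (p.stalkMap x').hom).map
      (X'.presheaf.stalkSpecializes h').hom =
    Ideal.map (p.stalkMap ξ').hom (IsLocalRing.maximalIdeal (X.presheaf.stalk (p ξ'))) := by
  subst e
  have h2 := Scheme.Hom.stalkSpecializes_stalkMap p ξ' x' h'
  have h3 := congrArg CommRingCat.Hom.hom h2
  rw [CommRingCat.hom_comp, CommRingCat.hom_comp] at h3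
  rw [Ideal.map_map, ← h3, ← Ideal.map_map]
  congr 1
  let := (X.presheaf.stalkSpecializes h).hom.toAlgebra
  have := isLocalization_stalkSpecializes h
  exact IsLocalization.AtPrime.map_eq_maximalIdeal (RingHom.ker (Cyc.specMap (p x') (p ξ') h))
    (X.presheaf.stalk (p ξ'))

/-- `ξ'` is a generic point of its fibre. -/
def FibGen (ξ' : X') : Prop := ∀ y : X', p y = p ξ' → y ⤳ ξ' → y = ξ'

/-- the generic points of the fibre over `ξ` specializing to `x'`. -/
abbrev GenPts (ξ : X) (x' : X') : Type u :=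
  {ξ' : X' // p ξ' = ξ ∧ FibGen p ξ' ∧ ξ' ⤳ x'}

theorem comap_ker {x' ξ' : X'} (h' : ξ' ⤳ x') {ξ : X} (e : p ξ' = ξ) (h : ξ ⤳ p x') :
    (RingHom.ker (Cyc.specMap x' ξ' h')).comap (p.stalkMap x').hom =
      RingHom.ker (Cyc.specMap (p x') ξ h) := by
  subst e
  exact DivNat.comap_ker_specMap p x' ξ' h'

theorem eq_of_comap_ker_eq {x' ξ' : X'} (h' : ξ' ⤳ x') {ξ : X} (h : ξ ⤳ p x')
    (e : (RingHom.ker (Cyc.specMap x' ξ' h')).comap (p.stalkMap x').hom =
      RingHom.ker (Cyc.specMap (p x') ξ h)) : p ξ' = ξ := by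
  rw [DivNat.comap_ker_specMap p x' ξ' h'] at e
  exact (ker_inj _ _).1 e

/-- primes of `O_{X',x'}` containing the extension of the maximal ideal when `x'` is generic in its
fibre. -/
theorem eq_maximalIdeal_of_fibGen {x' : X'} (hx' : FibGen p x')
    (Q : Ideal (X'.presheaf.stalk x')) (hQ : Q.IsPrime)
    (hle : (IsLocalRing.maximalIdeal (X.presheaf.stalk (p x'))).map (p.stalkMap x').hom ≤ Q) :
    Q = IsLocalRing.maximalIdeal (X'.presheaf.stalk x') := by
  obtain ⟨y, hy, rfl⟩ := exists_eq_ker Q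
  have h1 : (RingHom.ker (Cyc.specMap x' y hy)).comap (p.stalkMap x').hom =
      RingHom.ker (Cyc.specMap (p x') (p x') (specializes_refl _)) := by
    rw [ker_refl]
    refine (IsLocalRing.eq_maximalIdeal ?_)
    have h2 := Ideal.map_le_iff_le_comap.1 hle
    have h3 : (Ideal.comap (p.stalkMap x').hom (RingHom.ker (Cyc.specMap x' y hy))).IsPrime :=
      Ideal.IsPrime.comap _
    have h4 := (IsLocalRing.maximalIdeal.isMaximal _).eq_of_le h3.ne_top h2
    rw [← h4]
    exact IsLocalRing.maximalIdeal.isMaximal _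
  have h5 := eq_of_comap_ker_eq p hy (specializes_refl _) h1
  have h6 := hx' y h5 hy
  subst h6
  exact ker_refl _

theorem mult_ne_top [IsLocallyNoetherian X'] {x' : X'} (hx' : FibGen p x') : mult p x' ≠ ⊤ := by
  unfold mult
  set I := Ideal.map (p.stalkMap x').hom
    (IsLocalRing.maximalIdeal (X.presheaf.stalk (p x'))) with hI
  have h1 : Ring.KrullDimLE 0 (X'.presheaf.stalk x' ⧸ I) := by
    refine Ring.KrullDimLE.mk₀ fun J hJ => ?_
    have h2 := eq_maximalIdeal_of_fibGen p hx' (J.comap (Ideal.Quotient.mk I))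
      (Ideal.IsPrime.comap _) (by
        intro z hz
        rw [Ideal.mem_comap, Ideal.Quotient.eq_zero_iff_mem.2 hz]
        exact J.zero_mem)
    rw [← Ideal.map_comap_of_surjective _ Ideal.Quotient.mk_surjective J]
    refine (Ideal.map_eq_top_or_isMaximal_of_surjective (Ideal.Quotient.mk I)
      Ideal.Quotient.mk_surjective (h2 ▸ IsLocalRing.maximalIdeal.isMaximal _ :
        (J.comap (Ideal.Quotient.mk I)).IsMaximal)).resolve_left ?_
    rw [Ideal.map_comap_of_surjective _ Ideal.Quotient.mk_surjective J]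
    exact hJ.ne_top
  have h3 : IsArtinianRing (X'.presheaf.stalk x' ⧸ I) := by
    rw [isArtinianRing_iff_krullDimLE_zero]; exact h1
  rw [Module.length_eq_of_surjective (S := X'.presheaf.stalk x')
    (R := X'.presheaf.stalk x' ⧸ I) (M := X'.presheaf.stalk x' ⧸ I) Ideal.Quotient.mk_surjective]
  exact Module.length_ne_top

section Core

variable [Flat p] [IsLocallyNoetherian X] [IsLocallyNoetherian X']

/-- the extension of the prime of `ξ` to `O_{X',x'}` -/
noncomputable abbrev extI {ξ : X} {x' : X'} (h : ξ ⤳ p x') : Ideal (X'.presheaf.stalk x') :=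
  (RingHom.ker (Cyc.specMap (p x') ξ h)).map (p.stalkMap x').hom

omit [Flat p] [IsLocallyNoetherian X] [IsLocallyNoetherian X'] in
theorem extI_le {ξ : X} {x' ξ' : X'} (h : ξ ⤳ p x') (h' : ξ' ⤳ x') (e : p ξ' = ξ) :
    extI p h ≤ RingHom.ker (Cyc.specMap x' ξ' h') := by
  rw [Ideal.map_le_iff_le_comap, comap_ker p h' e h]

omit [IsLocallyNoetherian X] [IsLocallyNoetherian X'] in
/-- the generic point of the fibre attached to a minimal prime of `O_{X',x'}/𝔭_ξ O_{X',x'}`. -/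
theorem exists_genPt {ξ : X} {x' : X'} (h : ξ ⤳ p x')
    (q : Ideal (X'.presheaf.stalk x' ⧸ extI p h)) (hq : q ∈ minimalPrimes _) :
    ∃ ξ' : GenPts p ξ x', q.comap (Ideal.Quotient.mk (extI p h)) =
      RingHom.ker (Cyc.specMap x' ξ'.1 ξ'.2.2.2) := by
  have hqp : q.IsPrime := hq.1.1
  have hQ : (q.comap (Ideal.Quotient.mk (extI p h))).IsPrime := Ideal.IsPrime.comap _
  obtain ⟨ξ', h', e⟩ := exists_eq_ker (q.comap (Ideal.Quotient.mk (extI p h)))
  have hcomap : (RingHom.ker (Cyc.specMap x' ξ' h')).comap (p.stalkMap x').hom =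
      RingHom.ker (Cyc.specMap (p x') ξ h) := by
    rw [← e]
    exact comap_minimalPrime (p.stalkMap x').hom (Flat.stalkMap p x') _ q hq
  have hξ := eq_of_comap_ker_eq p h' h hcomap
  refine ⟨⟨ξ', hξ, ?_, h'⟩, e⟩
  intro y hy hyξ
  have hy' : y ⤳ x' := hyξ.trans h'
  have h2 : extI p h ≤ RingHom.ker (Cyc.specMap x' y hy') := extI_le p h hy' (hy.trans hξ)
  have h3 : RingHom.ker (Cyc.specMap x' y hy') ≤ RingHom.ker (Cyc.specMap x' ξ' h') :=
    (ker_le_iff hy' h').2 hyξ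
  have h4 : ((RingHom.ker (Cyc.specMap x' y hy')).map (Ideal.Quotient.mk (extI p h))).IsPrime :=
    Ideal.map_isPrime_of_surjective Ideal.Quotient.mk_surjective (by rw [Ideal.mk_ker]; exact h2)
  have h5 : (RingHom.ker (Cyc.specMap x' y hy')).map (Ideal.Quotient.mk (extI p h)) ≤ q := by
    rw [Ideal.map_le_iff_le_comap, e]; exact h3
  have h6 := hq.2 ⟨h4, bot_le⟩ h5
  have h7 : q = (RingHom.ker (Cyc.specMap x' y hy')).map (Ideal.Quotient.mk (extI p h)) :=
    le_antisymm h6 h5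
  have h8 : q.comap (Ideal.Quotient.mk (extI p h)) = RingHom.ker (Cyc.specMap x' y hy') := by
    rw [h7, Ideal.comap_map_of_surjective _ Ideal.Quotient.mk_surjective,
      ← RingHom.ker_eq_comap_bot, Ideal.mk_ker, sup_eq_left]
    exact h2
  rw [e] at h8
  exact ((ker_inj h' hy').1 h8).symm

omit [IsLocallyNoetherian X] [IsLocallyNoetherian X'] in
theorem exists_minimalPrime {ξ : X} {x' : X'} (h : ξ ⤳ p x') (ξ' : GenPts p ξ x') :
    ∃ q ∈ minimalPrimes (X'.presheaf.stalk x' ⧸ extI p h),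
      q.comap (Ideal.Quotient.mk (extI p h)) = RingHom.ker (Cyc.specMap x' ξ'.1 ξ'.2.2.2) := by
  obtain ⟨ξ', hξ, hgen, h'⟩ := ξ'
  have h1 := extI_le p h h' hξ
  have h2 : ((RingHom.ker (Cyc.specMap x' ξ' h')).map (Ideal.Quotient.mk (extI p h))).IsPrime :=
    Ideal.map_isPrime_of_surjective Ideal.Quotient.mk_surjective (by rw [Ideal.mk_ker]; exact h1)
  obtain ⟨q, hq, hle⟩ := Ideal.exists_minimalPrimes_le
    (I := (⊥ : Ideal (X'.presheaf.stalk x' ⧸ extI p h)))
    (J := (RingHom.ker (Cyc.specMap x' ξ' h')).map (Ideal.Quotient.mk (extI p h))) bot_le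
  obtain ⟨⟨y, hy, hygen, hyx⟩, e⟩ := exists_genPt p h q hq
  refine ⟨q, hq, ?_⟩
  rw [e]
  simp only
  have h3 : y ⤳ ξ' := by
    rw [← ker_le_iff hyx h']
    simp only at e
    rw [← e]
    have := Ideal.comap_mono (f := Ideal.Quotient.mk (extI p h)) hle
    rwa [Ideal.comap_map_of_surjective _ Ideal.Quotient.mk_surjective,
      ← RingHom.ker_eq_comap_bot, Ideal.mk_ker, sup_eq_left.2 h1] at this
  have h4 : y = ξ' := hgen y (hy.trans hξ.symm) h3
  subst h4
  rfl

omit [Flat p] [IsLocallyNoetherian X] [IsLocallyNoetherian X'] in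
theorem locLen_eq_mult {ξ : X} {x' : X'} (h : ξ ⤳ p x') (ξ' : GenPts p ξ x')
    (q : Ideal (X'.presheaf.stalk x' ⧸ extI p h)) [q.IsPrime]
    (e : q.comap (Ideal.Quotient.mk (extI p h)) = RingHom.ker (Cyc.specMap x' ξ'.1 ξ'.2.2.2)) :
    locLen q (X'.presheaf.stalk x' ⧸ extI p h) = mult p ξ'.1 := by
  let := (X'.presheaf.stalkSpecializes ξ'.2.2.2).hom.toAlgebra
  have hloc := isLocalization_stalkSpecializes ξ'.2.2.2
  rw [locLen_quotient (extI p h) q _ e.symm (X'.presheaf.stalk ξ'.1), mult,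
    ← map_ker_eq p ξ'.2.2.2 ξ'.2.1 h]
  rfl

/-- the order at `x'` of `a ∈ O_{X', x'}` along `ξ'`, as a length -/
noncomputable abbrev ordP {x' ξ' : X'} (h' : ξ' ⤳ x') (a : X'.presheaf.stalk x') : ℕ∞ :=
  Ring.ord (Cyc.LocQuot x' ξ' h') (Ideal.Quotient.mk _ a)

omit [IsLocallyNoetherian X] in
theorem finite_genPts {ξ : X} {x' : X'} (h : ξ ⤳ p x') :
    Finite (GenPts p ξ x') := by
  have hfin : Finite (minimalPrimes (X'.presheaf.stalk x' ⧸ extI p h)) :=
    (minimalPrimes.finite_of_isNoetherianRing _).to_subtype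
  choose q hq e using fun ξ' : GenPts p ξ x' => exists_minimalPrime p h ξ'
  refine Finite.of_injective
    (fun ξ' => (⟨q ξ', hq ξ'⟩ : minimalPrimes (X'.presheaf.stalk x' ⧸ extI p h))) ?_
  intro a b hab
  have h1 : q a = q b := congrArg Subtype.val hab
  have h2 := e a
  rw [h1, e b] at h2
  exact Subtype.ext ((ker_inj _ _).1 h2).symm

/-- The multiplicity formula for the flat pullback of the divisor of `a ∈ O_{X,p x'}` on the closure
of `ξ`, in terms of lengths. -/
theorem core {ξ : X} {x' : X'} (h : ξ ⤳ p x') [Ring.KrullDimLE 1 (Cyc.LocQuot (p x') ξ h)]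
    (hx' : FibGen p x') (a : X.presheaf.stalk (p x')) (ha : Cyc.specMap (p x') ξ h a ≠ 0) :
    ordP h a * mult p x' =
      ∑ᶠ ξ' : GenPts p ξ x', mult p ξ'.1 * ordP ξ'.2.2.2 ((p.stalkMap x').hom a) := by
  by_cases hne : ξ = p x'
  · subst hne
    have hu : IsUnit a := by
      by_contra hu
      apply ha
      have h1 : a ∈ RingHom.ker (Cyc.specMap (p x') (p x') (specializes_refl _)) := by
        rw [ker_refl]
        exact (IsLocalRing.mem_maximalIdeal a).2 hu
      exact h1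
    have h1 : ordP h a = 0 := Ring.ord_of_isUnit (hu.map _)
    have h2 : ∀ ξ' : GenPts p (p x') x', ordP ξ'.2.2.2 ((p.stalkMap x').hom a) = 0 :=
      fun ξ' => Ring.ord_of_isUnit ((hu.map _).map _)
    simp only [h1, h2, zero_mul, mul_zero, finsum_zero]
  have hfib := eq_maximalIdeal_of_fibGen p hx'
  have haP : a ∉ RingHom.ker (Cyc.specMap (p x') ξ h) := ha
  have key := ord_mul_length_ringHom (p.stalkMap x').hom (Flat.stalkMap p x')
    (RingHom.ker (Cyc.specMap (p x') ξ h)) hfib haP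
  refine Eq.trans key ?_
  -- the bijection between minimal primes and generic points
  choose f hf using fun q : NMin (X'.presheaf.stalk x' ⧸ extI p h) =>
    exists_genPt p h q.1.asIdeal q.2.1
  have hbij : Function.Bijective f := by
    constructor
    · intro q q' hqq
      have h1 := hf q
      rw [hqq, ← hf q'] at h1
      have h2 := Ideal.comap_injective_of_surjective _ Ideal.Quotient.mk_surjective h1
      exact Subtype.ext (PrimeSpectrum.ext h2)
    · intro ξ'
      obtain ⟨q, hq, e⟩ := exists_minimalPrime p h ξ'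
      have hqp : q.IsPrime := hq.1.1
      have hnm : ¬ q.IsMaximal := by
        intro hm
        have h1 : (q.comap (Ideal.Quotient.mk (extI p h))).IsMaximal :=
          Ideal.comap_isMaximal_of_surjective _ Ideal.Quotient.mk_surjective
        rw [e] at h1
        have h2 := IsLocalRing.eq_maximalIdeal h1
        rw [← ker_refl, ker_inj] at h2
        apply hne
        rw [← ξ'.2.1, h2]
      refine ⟨⟨⟨q, hqp⟩, hq, hnm⟩, ?_⟩
      have h1 := hf ⟨⟨q, hqp⟩, hq, hnm⟩
      simp only at h1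
      rw [e, ker_inj] at h1
      exact Subtype.ext h1.symm
  refine finsum_eq_of_bijective f hbij fun q => ?_
  rw [locLen_eq_mult p h (f q) q.1.asIdeal (hf q)]
  congr 1
  exact ord_double_quotient (extI p h) q.1.asIdeal _ (hf q).symm _

omit [Flat p] in
theorem krullDimLE_one_genPt {ξ : X} {x' : X'} (h : ξ ⤳ p x')
    [Ring.KrullDimLE 1 (Cyc.LocQuot (p x') ξ h)] (hx' : FibGen p x') (ξ' : GenPts p ξ x') :
    Ring.KrullDimLE 1 (Cyc.LocQuot x' ξ'.1 ξ'.2.2.2) := by
  have h1 := krullDimLE_one_ringHom (p.stalkMap x').hom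
    (RingHom.ker (Cyc.specMap (p x') ξ h)) (eq_maximalIdeal_of_fibGen p hx')
  have h2 : extI p h ≤ RingHom.ker (Cyc.specMap x' ξ'.1 ξ'.2.2.2) := extI_le p h _ ξ'.2.1
  rw [Ring.krullDimLE_iff] at h1 ⊢
  exact (ringKrullDim_le_of_surjective (Ideal.Quotient.factor h2)
    (Ideal.Quotient.factor_surjective h2)).trans h1

omit [IsLocallyNoetherian X] [Flat p] in
theorem ordAt_eq_ordP {ξ x : X'} (h : ξ ⤳ x) [Ring.KrullDimLE 1 (Cyc.LocQuot x ξ h)]
    {a : X'.presheaf.stalk x} (ha : Cyc.specMap x ξ h a ≠ 0) :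
    Cyc.ordAt x ξ h (Cyc.specMap x ξ h a) = ((ordP h a).toNat : ℤ) := by
  have h0 : (Ideal.Quotient.mk (RingHom.ker (Cyc.specMap x ξ h)) a) ≠ 0 :=
    fun h0 => ha (Ideal.Quotient.eq_zero_iff_mem.1 h0)
  rw [Cyc.ordAt, ← algebraMap_mk]
  exact OrdFrac.ordFrac_algebraMap (Cyc.LocQuot x ξ h) (X'.residueField ξ) h0

theorem toNat_finsum {ι : Type*} [Finite ι] (f : ι → ℕ∞) (hf : ∀ i, f i ≠ ⊤) :
    (((∑ᶠ i, f i).toNat : ℕ) : ℤ) = ∑ᶠ i, ((f i).toNat : ℤ) := by
  have h1 : ∀ i, f i = (((f i).toNat : ℕ) : ℕ∞) := fun i => (ENat.natCast_toNat (hf i)).symm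
  have h2 : ∑ᶠ i, f i = ((∑ᶠ i, (f i).toNat : ℕ) : ℕ∞) := by
    have h3 := (Nat.castAddMonoidHom ℕ∞).map_finsum (f := fun i => (f i).toNat) (Set.toFinite _)
    simp only [Nat.coe_castAddMonoidHom] at h3
    rw [h3]
    exact finsum_congr h1
  rw [h2, ENat.toNat_natCast]
  exact (Nat.castAddMonoidHom ℤ).map_finsum (f := fun i => (f i).toNat) (Set.toFinite _)

theorem core_specMap {ξ : X} {x' : X'} (h : ξ ⤳ p x')
    [Ring.KrullDimLE 1 (Cyc.LocQuot (p x') ξ h)] (hx' : FibGen p x')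
    (a : X.presheaf.stalk (p x')) (ha : Cyc.specMap (p x') ξ h a ≠ 0) :
    Cyc.ordAt (p x') ξ h (Cyc.specMap (p x') ξ h a) * ((mult p x').toNat : ℤ) =
      ∑ᶠ ξ' : GenPts p ξ x', ((mult p ξ'.1).toNat : ℤ) *
        Cyc.ordAt x' ξ'.1 ξ'.2.2.2 (pullRes p ξ'.2.1 (Cyc.specMap (p x') ξ h a)) := by
  have hfin := finite_genPts p h
  have key := core p h hx' a ha
  rw [ordAt_eq_ordP h ha]
  have h1 : ∀ ξ' : GenPts p ξ x',
      Cyc.ordAt x' ξ'.1 ξ'.2.2.2 (pullRes p ξ'.2.1 (Cyc.specMap (p x') ξ h a)) =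
        ((ordP ξ'.2.2.2 ((p.stalkMap x').hom a)).toNat : ℤ) := by
    intro ξ'
    have := krullDimLE_one_genPt p h hx' ξ'
    have h2 : Cyc.specMap x' ξ'.1 ξ'.2.2.2 ((p.stalkMap x').hom a) ≠ 0 := by
      rw [← pullRes_specMap p ξ'.2.2.2 ξ'.2.1 h]
      exact (map_ne_zero _).2 ha
    rw [pullRes_specMap p ξ'.2.2.2 ξ'.2.1 h, ordAt_eq_ordP _ h2]
  have h3 := congrArg (fun n : ℕ∞ => ((n.toNat : ℕ) : ℤ)) key
  simp only at h3
  rw [toNat_finsum] at h3
  · simp only [ENat.toNat_mul, Nat.cast_mul] at h3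
    rw [h3]
    exact finsum_congr fun ξ' => by rw [h1]
  · intro ξ'
    have := krullDimLE_one_genPt p h hx' ξ'
    have h2 : Cyc.specMap x' ξ'.1 ξ'.2.2.2 ((p.stalkMap x').hom a) ≠ 0 := by
      rw [← pullRes_specMap p ξ'.2.2.2 ξ'.2.1 h]
      exact (map_ne_zero _).2 ha
    have h4 : (Ideal.Quotient.mk (RingHom.ker (Cyc.specMap x' ξ'.1 ξ'.2.2.2))
        ((p.stalkMap x').hom a)) ≠ 0 := fun h0 => h2 (Ideal.Quotient.eq_zero_iff_mem.1 h0)
    exact WithTop.mul_ne_top (mult_ne_top p ξ'.2.2.1)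
      (Ring.ord_ne_top (mem_nonZeroDivisors_of_ne_zero h4))

/-- **Flat pullback of a principal divisor, pointwise, delta-free version.** -/
theorem core_int {ξ : X} {x' : X'} (h : ξ ⤳ p x')
    [Ring.KrullDimLE 1 (Cyc.LocQuot (p x') ξ h)] (hx' : FibGen p x')
    (g : X.residueField ξ) (hg : g ≠ 0) :
    Cyc.ordAt (p x') ξ h g * ((mult p x').toNat : ℤ) =
      ∑ᶠ ξ' : GenPts p ξ x', ((mult p ξ'.1).toNat : ℤ) *
        Cyc.ordAt x' ξ'.1 ξ'.2.2.2 (pullRes p ξ'.2.1 g) := by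
  have hfin := finite_genPts p h
  obtain ⟨a, b, hb, rfl⟩ := IsFractionRing.div_surjective (A := Cyc.LocQuot (p x') ξ h) g
  obtain ⟨a, rfl⟩ := Ideal.Quotient.mk_surjective a
  obtain ⟨b, rfl⟩ := Ideal.Quotient.mk_surjective b
  rw [algebraMap_mk, algebraMap_mk] at hg ⊢
  have ha : Cyc.specMap (p x') ξ h a ≠ 0 := fun h0 => hg (by rw [h0, zero_div])
  have hb : Cyc.specMap (p x') ξ h b ≠ 0 := fun h0 => hg (by rw [h0, div_zero])
  rw [OrdFrac.ordAt_div h ha hb, sub_mul, core_specMap p h hx' a ha, core_specMap p h hx' b hb,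
    ← finsum_sub_distrib (Set.toFinite _) (Set.toFinite _)]
  refine finsum_congr fun ξ' => ?_
  rw [map_div₀, OrdFrac.ordAt_div _ ((map_ne_zero _).2 ha) ((map_ne_zero _).2 hb), mul_sub]

omit [IsLocallyNoetherian X] [IsLocallyNoetherian X'] in
/-- every point of `X'` has a generization in its fibre which is generic in the fibre -/
theorem exists_fibGen (x' : X') : ∃ x'' : X', p x'' = p x' ∧ FibGen p x'' ∧ x'' ⤳ x' := by
  have hnt : Nontrivial (X'.presheaf.stalk x' ⧸ extI p (specializes_refl (p x'))) := by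
    refine Ideal.Quotient.nontrivial_iff.2 fun h => ?_
    have h1 := extI_le p (specializes_refl (p x')) (specializes_refl x') rfl
    rw [h, top_le_iff] at h1
    exact (ker_isPrime (specializes_refl x')).ne_top h1
  obtain ⟨q, hq⟩ := Ideal.nonempty_minimalPrimes
    (I := (⊥ : Ideal (X'.presheaf.stalk x' ⧸ extI p (specializes_refl (p x'))))) bot_ne_top
  obtain ⟨ξ', -⟩ := exists_genPt p (specializes_refl (p x')) q hq
  exact ⟨ξ'.1, ξ'.2⟩

end Core

theorem finsum_comp_injective {α β M : Type*} [AddCommMonoid M] (g : β → α)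
    (hg : Function.Injective g) (f : α → M)
    (hf : ∀ a, a ∉ Set.range g → f a = 0) : ∑ᶠ j, f (g j) = ∑ᶠ i, f i := by
  rw [← finsum_mem_range hg, ← finsum_mem_univ (f := f)]
  refine finsum_mem_inter_support_eq' _ _ _ fun x hx => ?_
  simp only [Set.mem_univ, iff_true]
  by_contra h
  exact hx (hf x h)

/-! ### the version with dimension functions -/

section Delta

variable {δ : X → ℤ} {δ' : X' → ℤ} (c : ℤ)

/-- the points over `ξ` which are generic in their fibre -/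
abbrev AllGenPts (ξ : X) : Type u := {ξ' : X' // p ξ' = ξ ∧ FibGen p ξ'}

variable [Flat p]

theorem fibGen_of_eq (hδ' : Cyc.IsDimFun X' δ')
    (hc : ∀ x' : X', FibGen p x' → δ' x' = δ (p x') + c) {x' : X'} (h : δ' x' = δ (p x') + c) :
    FibGen p x' := by
  obtain ⟨x'', h1, h2, h3⟩ := exists_fibGen p x'
  have h4 := hc x'' h2
  rw [h1, ← h] at h4
  have h5 := eq_of_specializes_of_eq hδ' h3 h4.symm
  rwa [← h5]

theorem delta_le (hδ' : Cyc.IsDimFun X' δ')
    (hc : ∀ x' : X', FibGen p x' → δ' x' = δ (p x') + c) (x' : X') : δ' x' ≤ δ (p x') + c := by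
  obtain ⟨x'', h1, h2, h3⟩ := exists_fibGen p x'
  have h4 := hc x'' h2
  rw [h1] at h4
  rw [← h4]
  exact le_of_specializes hδ' h3

/-- **Flat pullback of a principal divisor, pointwise version.** -/
theorem pullFun_divFun [IsLocallyNoetherian X] [IsLocallyNoetherian X']
    (hδ : Cyc.IsDimFun X δ) (hδ' : Cyc.IsDimFun X' δ')
    (hc : ∀ x' : X', FibGen p x' → δ' x' = δ (p x') + c) (ξ : X) (g : X.residueField ξ)
    (hg : g ≠ 0) (x' : X') :
    Cyc.pullFun p δ' δ c (Cyc.divFun δ ξ g) x' =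
      ∑ᶠ ξ' : AllGenPts p ξ, ((mult p ξ'.1).toNat : ℤ) *
        Cyc.divFun δ' ξ'.1 (pullRes p ξ'.2.1 g) x' := by
  have hpull : Cyc.pullFun p δ' δ c (Cyc.divFun δ ξ g) x' =
      if δ' x' = δ (p x') + c then
        Cyc.divFun δ ξ g (p x') * ((mult p x').toNat : ℤ) else 0 := rfl
  rw [hpull]
  by_cases h : ξ ⤳ p x' ∧ δ (p x') + 1 = δ ξ
  · by_cases hd : δ' x' = δ (p x') + c
    · rw [if_pos hd]
      have hgen := fibGen_of_eq p c hδ' hc hd
      have := krullDimLE_one_locQuot hδ h.1 h.2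
      rw [OrdFrac.divFun_apply δ h.1 h.2, core_int p h.1 hgen g hg]
      rw [← finsum_comp_injective (fun ξ' : GenPts p ξ x' =>
        (⟨ξ'.1, ξ'.2.1, ξ'.2.2.1⟩ : AllGenPts p ξ))
        (fun a b hab => Subtype.ext (congrArg (fun z : AllGenPts p ξ => z.1) hab)) _ ?_]
      · refine finsum_congr fun ξ' => ?_
        have h1 : δ' x' + 1 = δ' ξ'.1 := by
          have h2 := hc ξ'.1 ξ'.2.2.1
          rw [ξ'.2.1] at h2
          omega
        rw [OrdFrac.divFun_apply δ' ξ'.2.2.2 h1]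
      · intro ξ' hξ'
        rw [OrdFrac.divFun_eq_zero δ' (x := x') (fun h1 => hξ' ⟨⟨ξ'.1, ξ'.2.1, ξ'.2.2, h1.1⟩, rfl⟩),
          mul_zero]
    · rw [if_neg hd, finsum_eq_zero_of_forall_eq_zero]
      intro ξ'
      rw [OrdFrac.divFun_eq_zero, mul_zero]
      rintro ⟨-, h1⟩
      have h2 := hc ξ'.1 ξ'.2.2
      rw [ξ'.2.1] at h2
      omega
  · have hL : Cyc.divFun δ ξ g (p x') = 0 := OrdFrac.divFun_eq_zero δ h g
    rw [hL, zero_mul, ite_self, finsum_eq_zero_of_forall_eq_zero]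
    intro ξ'
    by_cases h' : ξ'.1 ⤳ x' ∧ δ' x' + 1 = δ' ξ'.1
    · have h1 : ξ ⤳ p x' := by
        have := h'.1.map p.continuous
        rwa [ξ'.2.1] at this
      have h2 := hc ξ'.1 ξ'.2.2
      rw [ξ'.2.1] at h2
      have h3 := delta_le p c hδ' hc x'
      have h4 : δ (p x') + 1 ≠ δ ξ := fun h4 => h ⟨h1, h4⟩
      have h5 := le_of_specializes hδ h1
      have h6 : ξ = p x' := eq_of_specializes_of_eq hδ h1 (by omega)
      subst h6
      obtain ⟨a, rfl⟩ := X.residue_surjective (p x') g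
      have ha : IsUnit a := by
        by_contra hu
        exact hg ((IsLocalRing.residue_eq_zero_iff a).2 ((IsLocalRing.mem_maximalIdeal a).2 hu))
      have h7 : (X.residue (p x')).hom a = Cyc.specMap (p x') (p x') (specializes_refl _) a := by
        simp [Cyc.specMap]
      have h8 : pullRes p ξ'.2.1 ((X.residue (p x')).hom a) =
          Cyc.specMap x' ξ'.1 h'.1 ((p.stalkMap x').hom a) := by
        rw [h7]
        exact pullRes_specMap p h'.1 ξ'.2.1 (specializes_refl _) a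
      rw [OrdFrac.divFun_apply δ' h'.1 h'.2]
      have h9 : Cyc.ordAt x' ξ'.1 h'.1 (pullRes p ξ'.2.1 ((X.residue (p x')).hom a)) = 0 := by
        rw [h8]
        exact OrdFrac.ordAt_specMap_of_isUnit h'.1 (ha.map _)
      exact (congrArg _ h9).trans (mul_zero _)
    · rw [OrdFrac.divFun_eq_zero δ' h', mul_zero]

end Delta

end Groth.Agent.CycB.FlatDiv
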