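import Groth.Agent.CycB.DivFun
import Groth.Agent.CycB.FlatDiv
import Groth.Agent.CycB.LocFinComp

/-!
# Local finiteness of the generic points of fibres; flat pullback of a cycle is a cycle
-/

set_option autoImplicit false

universe u v

open AlgebraicGeometry CategoryTheory TopologicalSpace

namespace Groth.Agent.CycB.GenLocFin

open DivFun FlatDiv

variable {X X' : Scheme.{u}} (p : X' ⟶ X)

/-- The generic points of the fibre over a fixed point form a locally finite family. -/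
theorem locFin_allGenPts [IsLocallyNoetherian X'] (ξ : X) :
    LocFin (fun ξ' : AllGenPts p ξ => ξ'.1) := by
  intro x'
  set S : Set X' := p ⁻¹' closure {ξ} with hS
  have hSc : IsClosed S := isClosed_closure.preimage p.continuous
  have hmem : ∀ ξ' : AllGenPts p ξ, ξ'.1 ∈ S := fun ξ' => by
    rw [hS, Set.mem_preimage, ξ'.2.1]; exact subset_closure rfl
  have hcomp : ∀ ξ' : AllGenPts p ξ,
      closure {(⟨ξ'.1, hmem ξ'⟩ : S)} ∈ irreducibleComponents S := by
    intro ξ'
    refine ⟨isIrreducible_singleton.closure, ?_⟩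
    intro T hT hle
    have hT' : IsIrreducible (closure ((↑) '' T : Set X')) :=
      (hT.image _ continuous_subtype_val.continuousOn).closure
    obtain ⟨y, hy⟩ := QuasiSober.sober hT' isClosed_closure
    have hyS : y ∈ S := by
      have h1 : y ∈ closure ((↑) '' T : Set X') := by
        rw [← hy.def]; exact subset_closure rfl
      exact closure_minimal (by rintro _ ⟨t, -, rfl⟩; exact t.2) hSc h1
    have hyT : ∀ t ∈ T, y ⤳ t.1 := by
      intro t ht
      rw [specializes_iff_mem_closure, hy.def]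
      exact subset_closure ⟨t, ht, rfl⟩
    have hξT : (⟨ξ'.1, hmem ξ'⟩ : S) ∈ T := hle (subset_closure rfl)
    have h1 : y ⤳ ξ'.1 := hyT _ hξT
    have h2 : ξ ⤳ p y := by
      rw [specializes_iff_mem_closure]; exact hyS
    have h3 : p y ⤳ ξ := by
      have := h1.map p.continuous
      rwa [ξ'.2.1] at this
    have h4 : p y = p ξ'.1 := by rw [ξ'.2.1]; exact (h3.antisymm h2).eq
    have h5 := ξ'.2.2 y h4 h1
    intro t ht
    have h6 := hyT t ht
    rw [h5] at h6
    have h7 : (⟨ξ'.1, hmem ξ'⟩ : S) ⤳ t := by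
      rwa [← Topology.IsInducing.subtypeVal.specializes_iff]
    exact specializes_iff_mem_closure.1 h7
  obtain ⟨N, hN, hfin⟩ :=
    LocFinComp.locallyFinite_irreducibleComponents_of_isLocallyNoetherian X' S x'
  obtain ⟨U, hUN, hU, hxU⟩ := mem_nhds_iff.1 hN
  refine ⟨U, hU, hxU, ?_⟩
  refine Set.Finite.of_finite_image (f := fun ξ' : AllGenPts p ξ =>
    (⟨_, hcomp ξ'⟩ : irreducibleComponents S)) (hfin.subset ?_) ?_
  · rintro _ ⟨ξ', h, rfl⟩
    exact ⟨ξ'.1, ⟨_, subset_closure rfl, rfl⟩, hUN h⟩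
  · rintro a - b - hab
    have h1 : closure {(⟨a.1, hmem a⟩ : S)} = closure {(⟨b.1, hmem b⟩ : S)} :=
      congrArg Subtype.val hab
    have h2 : Inseparable (⟨a.1, hmem a⟩ : S) ⟨b.1, hmem b⟩ := by
      rwa [inseparable_iff_closure_eq]
    have h3 := congrArg Subtype.val h2.eq
    exact Subtype.ext h3

/-- The generic points of the fibres over a locally finite family form a locally finite family. -/
theorem locFin_sigma_allGenPts [IsLocallyNoetherian X'] {ι : Type v} {ξ : ι → X} (hξ : LocFin ξ) :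
    LocFin (fun q : Σ i, AllGenPts p (ξ i) => q.2.1) := by
  intro x'
  obtain ⟨U, hU, hxU, hfin⟩ := hξ (p x')
  choose V hV hxV hVfin using fun i => locFin_allGenPts p (ξ i) x'
  refine ⟨(p ⁻¹' U) ∩ ⋂ i ∈ {i | ξ i ∈ U}, V i,
    (hU.preimage p.continuous).inter (hfin.isOpen_biInter fun i _ => hV i),
    ⟨hxU, Set.mem_iInter₂.2 fun i _ => hxV i⟩, ?_⟩
  refine (hfin.biUnion (t := fun i => (fun ξ' => (⟨i, ξ'⟩ : Σ i, AllGenPts p (ξ i))) ''
    {ξ' : AllGenPts p (ξ i) | ξ'.1 ∈ V i}) fun i _ => (hVfin i).image _).subset ?_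
  rintro ⟨i, ξ'⟩ ⟨h1, h2⟩
  have h3 : ξ i ∈ U := by
    have : p ξ'.1 ∈ U := h1
    rwa [ξ'.2.1] at this
  exact Set.mem_biUnion h3 ⟨ξ', Set.mem_iInter₂.1 h2 i h3, rfl⟩

/-- The generic points of the fibres lying over the support of a cycle are locally finite. -/
theorem locFin_fibGen_support [IsLocallyNoetherian X'] {M : Type*} [Zero M]
    (α : Function.locallyFinsupp X M) :
    LocFin (fun ξ' : {ξ' : X' // α (p ξ') ≠ 0 ∧ FibGen p ξ'} => ξ'.1) := by
  have h := locFin_sigma_allGenPts p (locFin_support α)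
  refine h.subset (g := fun ξ' : {ξ' : X' // α (p ξ') ≠ 0 ∧ FibGen p ξ'} =>
    (⟨⟨p ξ'.1, ξ'.2.1⟩, ⟨ξ'.1, rfl, ξ'.2.2⟩⟩ : Σ i : {x // α x ≠ 0}, AllGenPts p i.1)) ?_
    (fun i => specializes_refl _)
  intro a b hab
  have := congrArg (fun q : Σ i : {x // α x ≠ 0}, AllGenPts p i.1 => q.2.1) hab
  exact Subtype.ext this

variable {δ : X → ℤ} {δ' : X' → ℤ}

/-- The (coefficientwise) flat pullback of a cycle has locally finite support. -/
theorem exists_pullFun_cycle [Flat p] [IsLocallyNoetherian X'] (c : ℤ) (hδ' : Cyc.IsDimFun X' δ')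
    (hc : ∀ x' : X', FibGen p x' → δ' x' = δ (p x') + c) (α : AlgebraicCycle X ℤ) :
    ∃ β : AlgebraicCycle X' ℤ, ⇑β = Cyc.pullFun p δ' δ c ⇑α := by
  refine exists_locallyFinsupp _ fun x' => ?_
  obtain ⟨U, hU, hxU, hfin⟩ := locFin_fibGen_support p α x'
  refine ⟨U, hU, hxU, ?_⟩
  refine (hfin.image Subtype.val).subset ?_
  rintro y ⟨hyU, hy⟩
  have h1 : Cyc.pullFun p δ' δ c ⇑α y = if δ' y = δ (p y) + c then
      α (p y) * ((mult p y).toNat : ℤ) else 0 := rfl
  rw [Function.mem_support, h1] at hy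
  have h2 : δ' y = δ (p y) + c := by
    by_contra h
    rw [if_neg h] at hy
    exact hy rfl
  rw [if_pos h2] at hy
  exact ⟨⟨y, left_ne_zero_of_mul hy, fibGen_of_eq p c hδ' hc h2⟩, hyU, rfl⟩

/-- dimension of the flat pullback. -/
theorem pullFun_mem_Zk {k c : ℤ} {α : AlgebraicCycle X ℤ} (hα : α ∈ Cyc.Zk X δ k)
    {β : AlgebraicCycle X' ℤ} (hβ : ⇑β = Cyc.pullFun p δ' δ c ⇑α) :
    β ∈ Cyc.Zk X' δ' (k + c) := by
  intro y hy
  have h1 : Cyc.pullFun p δ' δ c ⇑α y = if δ' y = δ (p y) + c then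
      α (p y) * ((mult p y).toNat : ℤ) else 0 := rfl
  rw [hβ, h1]
  split_ifs with h2
  · rw [hα (p y) (fun h3 => hy (by rw [h2, h3])), zero_mul]
  · rfl

end Groth.Agent.CycB.GenLocFin
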