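import Groth.Agent.CycB.C1Cap
import Groth.Agent.CycB.C1Pull
import Groth.Agent.CycB.FlatDiv
import Groth.Agent.CycB.GenLocFin

/-!
# Flat pullback and the first Chern class
-/

set_option autoImplicit false

universe u v

open CategoryTheory CategoryTheory.Limits AlgebraicGeometry TopologicalSpace Opposite
open Groth.Agent.CycB.ModStalk Cyc

namespace Groth.Agent.CycB.C1Flat

open C1Basic DivFun C1Cap C1Pull FlatDiv

variable {X X' : Scheme.{u}} (p : X' ⟶ X) {δ : X → ℤ} {δ' : X' → ℤ} {L : X.Modules}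

theorem pullFun_apply' (c : ℤ) (α : X → ℤ) (x' : X') :
    pullFun p δ' δ c α x' =
      if δ' x' = δ (p x') + c then α (p x') * ((mult p x').toNat : ℤ) else 0 := rfl

theorem pullFun_congr_apply (c : ℤ) {α β : X → ℤ} {x' : X'} (h : α (p x') = β (p x')) :
    pullFun p δ' δ c α x' = pullFun p δ' δ c β x' := by
  rw [pullFun_apply', pullFun_apply', h]

variable [Flat p] [IsLocallyNoetherian X] [IsLocallyNoetherian X']

/-- **Flat pullback of the divisor of a rational section, pointwise version.** -/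
theorem pullFun_secDivFun (c : ℤ) (hδ : IsDimFun X δ) (hδ' : IsDimFun X' δ')
    (hc : ∀ x' : X', FibGen p x' → δ' x' = δ (p x') + c) (hL : PicF.IsInvertible L) (ξ : X)
    (s : secFibre L ξ) (hs : s ≠ 0) (x' : X') :
    pullFun p δ' δ c (secDivFun δ L ξ s) x' =
      ∑ᶠ ξ' : AllGenPts p ξ, ((mult p ξ'.1).toNat : ℤ) *
        secDivFun δ' ((Scheme.Modules.pullback p).obj L) ξ'.1 (fibMap p L ξ'.2.1 s) x' := by
  by_cases h : ξ ⤳ p x'
  · obtain ⟨g, hg, h1, h2⟩ := exists_secOrdAt_fibMap p hL h hs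
    have e1 : secDivFun δ L ξ s (p x') = divFun δ ξ g (p x') := by
      unfold secDivFun divFun
      split_ifs with h3
      · exact h1
      · rfl
    rw [pullFun_congr_apply p c e1, pullFun_divFun p c hδ hδ' hc ξ g hg x']
    refine finsum_congr fun ξ' => ?_
    congr 1
    unfold secDivFun divFun
    split_ifs with h3
    · exact (h2 ξ'.1 x' ξ'.2.1 rfl h3.1).symm
    · rfl
  · have e1 : secDivFun δ L ξ s (p x') = 0 := secDivFun_eq_zero δ L (fun h' => h h'.1) s
    rw [pullFun_apply', e1, zero_mul, ite_self, finsum_eq_zero_of_forall_eq_zero]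
    intro ξ'
    rw [secDivFun_eq_zero, mul_zero]
    rintro ⟨h1, -⟩
    have := h1.map p.continuous
    rw [ξ'.2.1] at this
    exact h this

omit [Flat p] [IsLocallyNoetherian X] in
/-- Finiteness of the relevant generic points. -/
theorem finite_genPts_support (α : AlgebraicCycle X ℤ) (x' : X') :
    {ξ' : X' | α (p ξ') ≠ 0 ∧ FibGen p ξ' ∧ ξ' ⤳ x'}.Finite := by
  have h := (GenLocFin.locFin_fibGen_support p α).finite_specializes x'
  refine (h.image Subtype.val).subset ?_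
  rintro ξ' ⟨h1, h2, h3⟩
  exact ⟨⟨ξ', h1, h2⟩, h3, rfl⟩

/-- **Flat pullback commutes with capping with `c₁`**, as an equality of functions, for compatible
choices of rational sections. -/
theorem pullFun_c1CapFun (c : ℤ) (hδ : IsDimFun X δ) (hδ' : IsDimFun X' δ')
    (hc : ∀ x' : X', FibGen p x' → δ' x' = δ (p x') + c) (hL : PicF.IsInvertible L)
    (α : AlgebraicCycle X ℤ) (s : (ξ : X) → secFibre L ξ) (hs : ∀ ξ, α ξ ≠ 0 → s ξ ≠ 0) :
    pullFun p δ' δ c (c1CapFun δ L ⇑α s) =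
      c1CapFun δ' ((Scheme.Modules.pullback p).obj L) (pullFun p δ' δ c ⇑α)
        (fun ξ' => fib p L ξ' (s (p ξ'))) := by
  funext x'
  -- left side as a sum over `ξ`
  have h1 : pullFun p δ' δ c (c1CapFun δ L ⇑α s) x' =
      ∑ᶠ ξ : X, α ξ * pullFun p δ' δ c (secDivFun δ L ξ (s ξ)) x' := by
    rw [pullFun_apply']
    split_ifs with h
    · rw [c1CapFun_apply, finsum_mul]
      refine finsum_congr fun ξ => ?_
      rw [pullFun_apply', if_pos h, mul_assoc]
    · rw [finsum_eq_zero_of_forall_eq_zero]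
      intro ξ
      rw [pullFun_apply', if_neg h, mul_zero]
  rw [h1, c1CapFun_apply]
  set G : X' → ℤ := fun ξ' => pullFun p δ' δ c ⇑α ξ' *
    secDivFun δ' ((Scheme.Modules.pullback p).obj L) ξ' (fib p L ξ' (s (p ξ'))) x' with hG
  have hGsupp : (Function.support G).Finite := by
    refine (finite_genPts_support p α x').subset ?_
    intro ξ' hξ'
    have h2 := left_ne_zero_of_mul hξ'
    rw [pullFun_apply'] at h2
    have h3 : δ' ξ' = δ (p ξ') + c := by
      by_contra h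
      rw [if_neg h] at h2
      exact h2 rfl
    rw [if_pos h3] at h2
    exact ⟨left_ne_zero_of_mul h2, fibGen_of_eq p c hδ' hc h3,
      (secDivFun_ne_zero (right_ne_zero_of_mul hξ')).1⟩
  have h2 : ∑ᶠ ξ' : X', G ξ' = ∑ᶠ ξ : X, ∑ᶠ ξ' : {ξ' : X' // p ξ' = ξ}, G ξ'.1 := by
    rw [← finsum_comp_equiv (Equiv.sigmaFiberEquiv p) (f := G)]
    refine finsum_sigma_of_finite (fun q => G (Equiv.sigmaFiberEquiv p q)) ?_
    exact hGsupp.preimage (Equiv.injective _).injOn
  rw [h2]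
  refine finsum_congr fun ξ => ?_
  by_cases hα : α ξ = 0
  · rw [hα, zero_mul, finsum_eq_zero_of_forall_eq_zero]
    rintro ⟨ξ', rfl⟩
    simp only [hG]
    rw [pullFun_apply', hα, zero_mul, ite_self, zero_mul]
  · rw [pullFun_secDivFun p c hδ hδ' hc hL ξ (s ξ) (hs ξ hα) x', mul_finsum,
      ← finsum_comp_injective (fun ξ' : AllGenPts p ξ => (⟨ξ'.1, ξ'.2.1⟩ : {ξ' : X' // p ξ' = ξ}))
        (fun a b hab => Subtype.ext (congrArg (fun z : {ξ' : X' // p ξ' = ξ} => z.1) hab))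
        (fun ξ' => G ξ'.1)]
    · refine finsum_congr ?_
      rintro ⟨ξ', rfl, h3⟩
      simp only [hG]
      rw [pullFun_apply', if_pos (hc ξ' h3), fibMap_rfl, mul_assoc]
    · rintro ⟨ξ', rfl⟩ h3
      simp only [hG]
      rw [pullFun_apply', if_neg, zero_mul]
      intro h4
      exact h3 ⟨⟨ξ', rfl, fibGen_of_eq p c hδ' hc h4⟩, rfl⟩

/-- **Flat pullback commutes with capping with `c₁`**, up to rational equivalence, for arbitrary
choices of nonzero rational sections. -/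
theorem ratEquiv_pullFun_c1CapFun (c : ℤ) (hδ : IsDimFun X δ) (hδ' : IsDimFun X' δ')
    (hc : ∀ x' : X', FibGen p x' → δ' x' = δ (p x') + c) (hL : PicF.IsInvertible L) (k : ℤ)
    (α : AlgebraicCycle X ℤ) (hα : α ∈ Zk X δ k)
    (v : (ξ : X) → secFibre L ξ) (hv : ∀ ξ, v ξ ≠ 0)
    (u : (ξ : X') → secFibre ((Scheme.Modules.pullback p).obj L) ξ) (hu : ∀ ξ, u ξ ≠ 0)
    (γ₁ γ₂ : AlgebraicCycle X' ℤ) (h₁ : ⇑γ₁ = pullFun p δ' δ c (c1CapFun δ L ⇑α v))
    (h₂ : ⇑γ₂ = c1CapFun δ' ((Scheme.Modules.pullback p).obj L) (pullFun p δ' δ c ⇑α) u) :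
    RatEquiv δ' (k + c - 1) γ₁ γ₂ := by
  obtain ⟨β, hβ⟩ := GenLocFin.exists_pullFun_cycle p c hδ' hc α
  rw [pullFun_c1CapFun p c hδ hδ' hc hL α v (fun ξ _ => hv ξ), ← hβ] at h₁
  rw [← hβ] at h₂
  refine ratEquiv_of_c1CapFun (isInvertible_pullback p hL) (k + c - 1) β ?_ _ _ ?_ ?_ γ₁ γ₂ h₁ h₂
  · have := GenLocFin.pullFun_mem_Zk p hα hβ
    rwa [sub_add_cancel]
  · intro ξ _
    exact fib_ne_zero p hL (hv _)
  · intro ξ _
    exact hu ξ

end Groth.Agent.CycB.C1Flat
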