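import Groth.Agent.CycB.C1Fin
import Groth.Agent.CycB.Push
import Mathlib.RingTheory.Norm.Basic

set_option autoImplicit false
universe u

open CategoryTheory CategoryTheory.Limits AlgebraicGeometry TopologicalSpace Opposite
open Groth.Agent.CycB.ModStalk Groth.Agent.CycB.C1Basic Groth.Agent.CycB.C1Pull
open Groth.Agent.CycB.DivFun Groth.Agent.CycB.C1Cap Groth.Agent.CycB.C1Fin Cyc

namespace Groth.Agent.CycB.C1Push

/-- The pointwise formula for the proper pushforward of a principal divisor, in the generically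
finite case. -/
def PushDiv {X Y : Scheme.{u}} (p : X ⟶ Y) (δX : X → ℤ) (δY : Y → ℤ) : Prop :=
  ∀ (ξ : X) (g : X.residueField ξ), g ≠ 0 → δX ξ = δY (p ξ) → ∀ y : Y,
    ∑ᶠ x ∈ {x : X | p x = y}, divFun δX ξ g x * ((AlgebraicCycle.mapCoeff p δX δY x : ℕ) : ℤ) =
      divFun δY (p ξ) (normGen p ξ g) y

theorem finsum_comm' {A B : Type*} (F : A → B → ℤ) (S : Set A) (T : Set B) (hS : S.Finite)
    (hT : T.Finite) (h : ∀ a b, F a b ≠ 0 → a ∈ S ∧ b ∈ T) :
    ∑ᶠ a, ∑ᶠ b, F a b = ∑ᶠ b, ∑ᶠ a, F a b := by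
  classical
  have h1 : ∀ a, ∑ᶠ b, F a b = ∑ b ∈ hT.toFinset, F a b := fun a =>
    finsum_eq_sum_of_support_subset _ (fun b hb => by
      rw [Set.Finite.coe_toFinset]; exact (h a b hb).2)
  have h2 : ∀ b, ∑ᶠ a, F a b = ∑ a ∈ hS.toFinset, F a b := fun b =>
    finsum_eq_sum_of_support_subset _ (fun a ha => by
      rw [Set.Finite.coe_toFinset]; exact (h a b ha).1)
  simp only [h1, h2]
  rw [finsum_eq_sum_of_support_subset (s := hS.toFinset), finsum_eq_sum_of_support_subset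
    (s := hT.toFinset), Finset.sum_comm]
  · intro b hb
    rw [Set.Finite.coe_toFinset]
    obtain ⟨a, -, ha⟩ := Finset.exists_ne_zero_of_sum_ne_zero hb
    exact (h a b ha).2
  · intro a ha
    rw [Set.Finite.coe_toFinset]
    obtain ⟨b, -, hb⟩ := Finset.exists_ne_zero_of_sum_ne_zero ha
    exact (h a b hb).1

variable {X Y : Scheme.{u}} (p : X ⟶ Y) {δX : X → ℤ} {δY : Y → ℤ} {L : Y.Modules}

theorem residue_stalkSpecializes_of_eq {a b : Y} (e : a = b) (h : a ⤳ b) (φ : Y.presheaf.stalk b) :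
    Y.residue a (Y.presheaf.stalkSpecializes h φ) =
      (Y.residueFieldCongr e.symm).hom (Y.residue b φ) := by
  subst e
  rw [TopCat.Presheaf.stalkSpecializes_refl, Scheme.residueFieldCongr_refl]
  rfl

/-- The pullback to `κ(ξ)` of a nonzero element of `κ(η)` has order `0` at the points over `η`. -/
theorem ordAt_rfMap_eq_zero {ξ x : X} {η : Y} (hξ : p ξ = η) (hx : p x = η) (h : ξ ⤳ x)
    (g : Y.residueField η) (hg : g ≠ 0) : ordAt x ξ h (rfMap p hξ g) = 0 := by
  subst hx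
  obtain ⟨φ, rfl⟩ := Y.residue_surjective _ g
  have hφ : IsUnit φ := by
    by_contra hcon
    exact hg (Ideal.Quotient.eq_zero_iff_mem.2 ((IsLocalRing.mem_maximalIdeal _).2 hcon))
  have h1 : p ξ ⤳ p x := h.map p.continuous
  have e1 : rfMap p hξ (Y.residue (p x) φ) = specMap x ξ h (p.stalkMap x φ) := by
    change p.residueFieldMap ξ ((Y.residueFieldCongr hξ.symm).hom (Y.residue (p x) φ)) = _
    rw [← residue_stalkSpecializes_of_eq hξ h1 φ, residueFieldMap_residue]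
    exact congrArg (X.residue ξ) (Scheme.Hom.stalkSpecializes_stalkMap_apply p ξ x h φ)
  rw [e1]
  exact OrdFrac.ordAt_specMap_of_isUnit h (hφ.map (p.stalkMap x).hom)

theorem normGen_rfMap (ξ : X) (g : Y.residueField (p ξ)) :
    normGen p ξ (rfMap p rfl g) = g ^ p.residueDegree ξ := by
  rw [rfMap_rfl]
  let _ := (p.residueFieldMap ξ).hom.toAlgebra
  exact Algebra.norm_algebraMap (S := X.residueField ξ) g

/-- Pointwise pushforward of the divisor of a pulled back rational section. -/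
theorem push_secDivFun [IsLocallyNoetherian Y] (hP : PushDiv p δX δY) (hδY : IsDimFun Y δY)
    (hδ : DeltaCompat p δX δY) (hL : PicF.IsInvertible L) (ξ : X)
    {t : secFibre L (p ξ)} (ht : t ≠ 0) (y : Y) :
    ∑ᶠ x ∈ {x : X | p x = y}, secDivFun δX ((Scheme.Modules.pullback p).obj L) ξ (fib p L ξ t) x *
      ((AlgebraicCycle.mapCoeff p δX δY x : ℕ) : ℤ) =
      ((AlgebraicCycle.mapCoeff p δX δY ξ : ℕ) : ℤ) * secDivFun δY L (p ξ) t y := by
  by_cases hξ : δX ξ = δY (p ξ)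
  · have hm : AlgebraicCycle.mapCoeff p δX δY ξ = p.residueDegree ξ := if_pos hξ
    rw [hm]
    by_cases hy : p ξ ⤳ y ∧ δY y + 1 = δY (p ξ)
    · obtain ⟨g, hg, e1, e2⟩ := exists_secOrdAt_fibMap p hL hy.1 ht
      rw [secDivFun_apply δY L hy.1 hy.2, e1]
      have h0 : rfMap p (rfl : p ξ = p ξ) g ≠ 0 := (map_ne_zero _).2 hg
      have h1 := hP ξ (rfMap p rfl g) h0 hξ y
      rw [normGen_rfMap, OrdFrac.divFun_pow, Pi.smul_apply, OrdFrac.divFun_apply δY hy.1 hy.2,
        nsmul_eq_mul] at h1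
      rw [← h1]
      refine finsum_mem_congr rfl fun x hx => ?_
      congr 1
      by_cases h2 : ξ ⤳ x ∧ δX x + 1 = δX ξ
      · rw [secDivFun_apply δX _ h2.1 h2.2, OrdFrac.divFun_apply δX h2.1 h2.2]
        exact e2 ξ x rfl hx h2.1
      · rw [secDivFun_eq_zero δX _ h2, OrdFrac.divFun_eq_zero δX h2]
    · rw [secDivFun_eq_zero δY L hy, mul_zero]
      refine finsum_mem_eq_zero_of_forall_eq_zero fun x hx => ?_
      by_contra hcon
      have h2 := secDivFun_ne_zero (left_ne_zero_of_mul hcon)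
      have h3 : δX x = δY (p x) := by
        by_contra h
        apply right_ne_zero_of_mul hcon
        rw [AlgebraicCycle.mapCoeff, if_neg h]
        rfl
      have hx' : p x = y := hx
      subst hx'
      refine hy ⟨h2.1.map p.continuous, ?_⟩
      have := h2.2
      omega
  · have hm : AlgebraicCycle.mapCoeff p δX δY ξ = 0 := if_neg hξ
    rw [hm, Nat.cast_zero, zero_mul]
    refine finsum_mem_eq_zero_of_forall_eq_zero fun x hx => ?_
    by_contra hcon
    have h2 := secDivFun_ne_zero (left_ne_zero_of_mul hcon)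
    have h3 : δX x = δY (p x) := by
      by_contra h
      apply right_ne_zero_of_mul hcon
      rw [AlgebraicCycle.mapCoeff, if_neg h]
      rfl
    have hx' : p x = y := hx
    have h4 : p ξ ⤳ p x := h2.1.map p.continuous
    have h5 : p ξ = p x := by
      refine LocQuot.eq_of_specializes_of_eq hδY h4 ?_
      have h6 := LocQuot.le_of_specializes hδY h4
      obtain ⟨n, -, hn⟩ := hδ ξ
      have := h2.2
      omega
    apply left_ne_zero_of_mul hcon
    obtain ⟨g, hg, -, e2⟩ := exists_secOrdAt_fibMap p hL (specializes_refl (p ξ)) ht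
    rw [secDivFun_apply δX _ h2.1 h2.2]
    have e3 := e2 ξ x rfl h5.symm h2.1
    rw [fibMap_rfl] at e3
    rw [e3]
    exact ordAt_rfMap_eq_zero p rfl h5.symm h2.1 g hg

/-- a quasi-compact open neighbourhood of a point -/
theorem exists_compact_nhd (y : Y) : ∃ U : Y.Opens, y ∈ U ∧ IsCompact (U : Set Y) := by
  obtain ⟨U, hU, hyU, -⟩ := exists_isAffineOpen_mem_and_subset (X := Y) (x := y) (U := ⊤) trivial
  exact ⟨U, hyU, hU.isCompact⟩

/-- Regrouping of sums over the points of the target. -/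
theorem finsum_map_mul [QuasiCompact p] (α : AlgebraicCycle X ℤ) (y : Y) (D : Y → ℤ)
    (hD : ∀ η, D η ≠ 0 → η ⤳ y) :
    ∑ᶠ η, AlgebraicCycle.map p δX δY α η * D η =
      ∑ᶠ ξ, α ξ * (((AlgebraicCycle.mapCoeff p δX δY ξ : ℕ) : ℤ) * D (p ξ)) := by
  classical
  obtain ⟨U, hyU, hU⟩ := exists_compact_nhd y
  let G : Y → X → ℤ := fun η ξ => if p ξ = η then
    α ξ * (((AlgebraicCycle.mapCoeff p δX δY ξ : ℕ) : ℤ) * D η) else 0
  have hfin : {x : X | p x ∈ U ∧ α x ≠ 0}.Finite := Push.finite_support_preimage p α U hU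
  have h1 : ∀ η, AlgebraicCycle.map p δX δY α η * D η = ∑ᶠ ξ, G η ξ := by
    intro η
    rw [Push.map_apply]
    rw [finsum_mem_mul]
    refine finsum_congr fun ξ => ?_
    by_cases h : p ξ = η
    · simp only [G]
      rw [finsum_eq_if, if_pos h]
      rw [if_pos (show ξ ∈ {x : X | p x = η} from h), mul_assoc]
    · simp only [G]
      rw [finsum_eq_if, if_neg h, if_neg (show ¬ ξ ∈ {x : X | p x = η} from h)]
  have h2 : ∀ ξ, α ξ * (((AlgebraicCycle.mapCoeff p δX δY ξ : ℕ) : ℤ) * D (p ξ)) = ∑ᶠ η, G η ξ := by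
    intro ξ
    rw [finsum_eq_single _ (p ξ) (fun η hη => if_neg (fun h => hη h.symm))]
    exact (if_pos rfl).symm
  rw [finsum_congr h1, finsum_congr h2]
  refine finsum_comm' G (p '' {x : X | p x ∈ U ∧ α x ≠ 0}) {x : X | p x ∈ U ∧ α x ≠ 0}
    (hfin.image _) hfin ?_
  intro η ξ h
  have h3 : p ξ = η := by
    by_contra hcon
    exact h (if_neg hcon)
  have h4 : α ξ * (((AlgebraicCycle.mapCoeff p δX δY ξ : ℕ) : ℤ) * D η) ≠ 0 := by
    have h5 := h
    simp only [G] at h5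
    rwa [if_pos h3] at h5
  have h6 : ξ ∈ {x : X | p x ∈ U ∧ α x ≠ 0} := by
    refine ⟨?_, left_ne_zero_of_mul h4⟩
    rw [h3]
    exact (hD η (right_ne_zero_of_mul (right_ne_zero_of_mul h4))).mem_open U.isOpen hyU
  exact ⟨⟨ξ, h6, h3⟩, h6⟩

/-- Pushforward of a locally finite sum. -/
theorem map_finsum [QuasiCompact p] (α : AlgebraicCycle X ℤ) (S : X → X → ℤ)
    (hS : ∀ ξ x, S ξ x ≠ 0 → ξ ⤳ x)
    (hfin : ∀ ξ, α ξ ≠ 0 → ∃ c : AlgebraicCycle X ℤ, ∀ x, c x = S ξ x)
    (γ : AlgebraicCycle X ℤ) (hγ : ∀ x, γ x = ∑ᶠ ξ, α ξ * S ξ x) (y : Y) :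
    AlgebraicCycle.map p δX δY γ y = ∑ᶠ ξ, α ξ * ∑ᶠ x ∈ {x : X | p x = y},
      S ξ x * ((AlgebraicCycle.mapCoeff p δX δY x : ℕ) : ℤ) := by
  classical
  obtain ⟨U, hyU, hU⟩ := exists_compact_nhd y
  let m : X → ℤ := fun x => ((AlgebraicCycle.mapCoeff p δX δY x : ℕ) : ℤ)
  let G : X → X → ℤ := fun x ξ => if p x = y then α ξ * (S ξ x * m x) else 0
  have hfinα : {x : X | p x ∈ U ∧ α x ≠ 0}.Finite := Push.finite_support_preimage p α U hU
  have hfinS : ∀ ξ, α ξ ≠ 0 → {x : X | p x ∈ U ∧ S ξ x ≠ 0}.Finite := by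
    intro ξ hξ
    obtain ⟨c, hc⟩ := hfin ξ hξ
    refine (Push.finite_support_preimage p c U hU).subset ?_
    rintro x ⟨h1, h2⟩
    exact ⟨h1, by rw [hc]; exact h2⟩
  have h1 : AlgebraicCycle.map p δX δY γ y = ∑ᶠ x, ∑ᶠ ξ, G x ξ := by
    rw [Push.map_apply]
    refine finsum_congr fun x => ?_
    by_cases h : p x = y
    · rw [finsum_eq_if, if_pos (show x ∈ {x : X | p x = y} from h), hγ, finsum_mul]
      refine finsum_congr fun ξ => ?_
      simp only [G]
      rw [if_pos h, mul_assoc]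
    · rw [finsum_eq_if, if_neg (show ¬ x ∈ {x : X | p x = y} from h)]
      symm
      exact finsum_eq_zero_of_forall_eq_zero fun ξ => if_neg h
  have h2 : ∀ ξ, α ξ * ∑ᶠ x ∈ {x : X | p x = y}, S ξ x * m x = ∑ᶠ x, G x ξ := by
    intro ξ
    rw [mul_finsum_mem]
    refine finsum_congr fun x => ?_
    by_cases h : p x = y
    · simp only [G]
      rw [finsum_eq_if, if_pos h, if_pos (show x ∈ {x : X | p x = y} from h)]
    · simp only [G]
      rw [finsum_eq_if, if_neg h, if_neg (show ¬ x ∈ {x : X | p x = y} from h)]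
  rw [h1, finsum_congr h2]
  refine finsum_comm' G (⋃ ξ ∈ {x : X | p x ∈ U ∧ α x ≠ 0}, {x : X | p x ∈ U ∧ S ξ x ≠ 0})
    {x : X | p x ∈ U ∧ α x ≠ 0} (hfinα.biUnion fun ξ hξ => hfinS ξ hξ.2) hfinα ?_
  intro x ξ h
  have h3 : p x = y := by
    by_contra hcon
    exact h (if_neg hcon)
  have h4 : α ξ * (S ξ x * m x) ≠ 0 := by
    have h5 := h
    simp only [G] at h5
    rwa [if_pos h3] at h5
  have h5 := left_ne_zero_of_mul (right_ne_zero_of_mul h4)
  have h6 : p x ∈ U := by rw [h3]; exact hyU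
  have h7 : ξ ∈ {x : X | p x ∈ U ∧ α x ≠ 0} :=
    ⟨(hS ξ x h5).mem_open (p ⁻¹ᵁ U).isOpen h6, left_ne_zero_of_mul h4⟩
  exact ⟨Set.mem_biUnion h7 ⟨h6, h5⟩, h7⟩

/-- The projection formula for pulled back rational sections holds on the level of cycles. -/
theorem map_c1Cap [QuasiCompact p] [IsLocallyNoetherian X] [IsLocallyNoetherian Y]
    (hP : PushDiv p δX δY) (hδX : IsDimFun X δX) (hδY : IsDimFun Y δY)
    (hδ : DeltaCompat p δX δY) (hL : PicF.IsInvertible L) (α : AlgebraicCycle X ℤ)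
    (t : (η : Y) → secFibre L η) (ht : ∀ η, t η ≠ 0) (γ : AlgebraicCycle X ℤ)
    (hγ : ⇑γ = c1CapFun δX ((Scheme.Modules.pullback p).obj L) ⇑α
      (fun ξ => fib p L ξ (t (p ξ)))) (y : Y) :
    AlgebraicCycle.map p δX δY γ y =
      c1CapFun δY L ⇑(AlgebraicCycle.map p δX δY α) t y := by
  have hM := isInvertible_pullback p hL
  rw [c1CapFun_apply, finsum_map_mul p α y _ (fun η h => (secDivFun_ne_zero h).1),
    map_finsum p α (fun ξ x => secDivFun δX ((Scheme.Modules.pullback p).obj L) ξ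
      (fib p L ξ (t (p ξ))) x) (fun ξ x h => (secDivFun_ne_zero h).1) ?_ γ
      (fun x => by rw [hγ]; rfl) y]
  · refine finsum_congr fun ξ => ?_
    congr 1
    exact push_secDivFun p hP hδY hδ hL ξ (ht _) y
  · intro ξ hξ
    obtain ⟨c, hc⟩ := exists_locallyFinsupp _
      (locallyFinite_secDivFun hδX hM ξ (fib_ne_zero p hL (ht (p ξ))))
    exact ⟨c, fun x => congrFun hc x⟩

end Groth.Agent.CycB.C1Push
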