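import Groth.Agent.CycB.KeyComm
import Groth.Agent.CycB.C1Cap
import Groth.Agent.CycB.GysinCl

/-!
# Function-level rational equivalence, local finiteness of caps, the commutation formula for
# iterated caps as an explicit locally finite family
-/

set_option autoImplicit false

universe u v w

open CategoryTheory CategoryTheory.Limits AlgebraicGeometry TopologicalSpace Opposite
open Groth.Agent.CycB.ModStalk Cyc

namespace Groth.Agent.CycB.CapComm

open C1Basic DivFun KeyLine KeySec KeySum C1Cap GysinCl TamePt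

variable {X : Scheme.{u}} {δ : X → ℤ} {k : ℤ}

/-- `F` is a locally finite sum of principal divisors of points of δ-dimension k + 1. -/
def RatZ (δ : X → ℤ) (k : ℤ) (F : X → ℤ) : Prop :=
  ∃ (ι : Type u) (ξ : ι → X) (f : (i : ι) → X.residueField (ξ i)),
    (∀ i, δ (ξ i) = k + 1) ∧ (∀ i, f i ≠ 0) ∧ LocFin ξ ∧
      ∀ x, F x = ∑ᶠ i, divFun δ (ξ i) (f i) x

theorem ratEquivZero_iff_ratZ (α : AlgebraicCycle X ℤ) :
    RatEquivZero δ k α ↔ RatZ δ k ⇑α := ratEquivZero_iff α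

theorem RatZ.congr {F G : X → ℤ} (h : RatZ δ k F) (e : ∀ x, G x = F x) : RatZ δ k G := by
  obtain ⟨ι, ξ, f, h1, h2, h3, h4⟩ := h
  exact ⟨ι, ξ, f, h1, h2, h3, fun x => (e x).trans (h4 x)⟩

theorem RatZ.add {F G : X → ℤ} (hF : RatZ δ k F) (hG : RatZ δ k G) :
    RatZ δ k (fun x => F x + G x) := by
  obtain ⟨ι, ξ, f, h1, h2, h3, h4⟩ := hF
  obtain ⟨κ, ζ, g, h1', h2', h3', h4'⟩ := hG
  refine ⟨ι ⊕ κ, Sum.elim ξ ζ, (fun i => match i with
      | .inl i => f i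
      | .inr i => g i), ?_, ?_, h3.sumElim h3', ?_⟩
  · rintro (i | i)
    · exact h1 i
    · exact h1' i
  · rintro (i | i)
    · exact h2 i
    · exact h2' i
  · intro x
    have e1 := finite_support_divFun h3 f x (δ := δ)
    have e2 := finite_support_divFun h3' g x (δ := δ)
    dsimp only
    rw [h4, h4', finsum_eq_sum_of_support_subset _ (s := e1.toFinset) (by simp),
      finsum_eq_sum_of_support_subset _ (s := e2.toFinset) (by simp),
      finsum_eq_sum_of_support_subset (s := e1.toFinset.disjSum e2.toFinset) _ ?_,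
      Finset.sum_disjSum]
    · rfl
    rintro (i | i) hi
    · simpa using hi
    · simpa using hi

theorem RatZ.neg {F : X → ℤ} (hF : RatZ δ k F) : RatZ δ k (fun x => - F x) := by
  obtain ⟨ι, ξ, f, h1, h2, h3, h4⟩ := hF
  refine ⟨ι, ξ, fun i => (f i)⁻¹, h1, fun i => inv_ne_zero (h2 i), h3, fun x => ?_⟩
  dsimp only
  rw [h4, ← finsum_neg_distrib]
  refine finsum_congr fun i => ?_
  rw [OrdFrac.divFun_inv]
  rfl

theorem RatZ.sub {F G : X → ℤ} (hF : RatZ δ k F) (hG : RatZ δ k G) :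
    RatZ δ k (fun x => F x - G x) :=
  (hF.add hG.neg).congr fun _ => sub_eq_add_neg _ _

/-- A locally finite family of principal divisors on X all of whose members with points outside
the closed subscheme W vanish on W gives a rational equivalence on W. -/
theorem ratZ_restrict {W : Scheme.{u}} (j : W ⟶ X) [IsPreimmersion j] {ι : Type u} {ξ : ι → X}
    {f : (i : ι) → X.residueField (ξ i)} (hδ : ∀ i, δ (ξ i) = k + 1) (hf : ∀ i, f i ≠ 0)
    (hξ : LocFin ξ)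
    (h0 : ∀ i, ξ i ∉ Set.range ⇑j → ∀ w, divFun δ (ξ i) (f i) (j w) = 0) :
    RatZ (fun w => δ (j w)) k (fun w => ∑ᶠ i, divFun δ (ξ i) (f i) (j w)) := by
  have key : ∀ i : {i : ι // ξ i ∈ Set.range ⇑j}, ∃ (ζ : W) (g : W.residueField ζ),
      j ζ = ξ i.1 ∧ g ≠ 0 ∧
        ∀ z, divFun (fun z => δ (j z)) ζ g z = divFun δ (ξ i.1) (f i.1) (j z) :=
    fun i => RatTransport.exists_lift j δ (ξ i.1) i.2 (f i.1) (hf i.1)
  choose ζ g hζ hg hd using key
  refine ⟨{i : ι // ξ i ∈ Set.range ⇑j}, ζ, g, fun i => by simp only [hζ i, hδ], hg, ?_, ?_⟩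
  · intro z
    obtain ⟨U, hU, hx, hfin⟩ := hξ (j z)
    refine ⟨⇑j ⁻¹' U, hU.preimage j.continuous, hx, ?_⟩
    refine (hfin.preimage Subtype.val_injective.injOn).subset ?_
    intro i hi
    change ξ i.1 ∈ U
    rw [← hζ i]
    exact hi
  · intro w
    dsimp only
    rw [finsum_congr fun i => hd i w]
    refine (RatTransport.finsum_subtype_eq (fun i => ξ i ∈ Set.range ⇑j)
      (fun i => divFun δ (ξ i) (f i) (j w)) ?_).symm
    intro i hi
    exact h0 i hi w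

variable {L N : X.Modules}

theorem exists_nonzero (hL : PicF.IsInvertible L) :
    ∃ v : (ζ : X) → secFibre L ζ, ∀ ζ, v ζ ≠ 0 := by
  choose t ht using fun ζ : X => exists_isGen hL ζ
  exact ⟨fun ζ => cl L ζ (t ζ), fun ζ => cl_ne_zero (ht ζ)⟩

/-- The divisor of a rational section is locally finite. -/
theorem locallyFinite_secDivFun [IsLocallyNoetherian X] (hδ : IsDimFun X δ)
    (hL : PicF.IsInvertible L) (ξ : X) {s : secFibre L ξ} (hs : s ≠ 0) (x : X) :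
    ∃ U : Set X, IsOpen U ∧ x ∈ U ∧ (U ∩ Function.support (secDivFun δ L ξ s)).Finite := by
  obtain ⟨v, hv⟩ := exists_nonzero hL
  have h := locallyFinite_ordS hδ (secData δ hL hs hv) x
  rwa [show (secData δ hL hs hv).ordS = secDivFun δ L ξ s from
    funext fun ζ => secData_ordS hL hs hv ζ] at h

theorem c1CapFun_eq_subtype (α : X → ℤ) (s : (ξ : X) → secFibre L ξ) (x : X) :
    c1CapFun δ L α s x = ∑ᶠ ξ : {ξ : X // α ξ ≠ 0}, α ξ.1 * secDivFun δ L ξ.1 (s ξ.1) x := by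
  refine (RatTransport.finsum_subtype_eq (fun ξ : X => α ξ ≠ 0)
    (fun ξ : X => α ξ * secDivFun δ L ξ (s ξ) x) ?_).symm
  intro ξ hξ
  rw [not_not] at hξ
  rw [hξ, zero_mul]

/-- `c₁(L) ∩ α` is a cycle. -/
theorem exists_cycle_c1CapFun [IsLocallyNoetherian X] (hδ : IsDimFun X δ)
    (hL : PicF.IsInvertible L) (α : AlgebraicCycle X ℤ) {s : (ξ : X) → secFibre L ξ}
    (hs : ∀ ξ, s ξ ≠ 0) : ∃ γ : AlgebraicCycle X ℤ, ⇑γ = c1CapFun δ L ⇑α s := by
  refine exists_locallyFinsupp _ ?_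
  have e : c1CapFun δ L ⇑α s = fun x =>
      ∑ᶠ ξ : {ξ : X // α ξ ≠ 0}, α ξ.1 * secDivFun δ L ξ.1 (s ξ.1) x :=
    funext fun x => c1CapFun_eq_subtype _ _ _
  rw [e]
  refine locallyFinite_finsum (locFin_support α)
    (fun (ξ : {ξ : X // α ξ ≠ 0}) x => α ξ.1 * secDivFun δ L ξ.1 (s ξ.1) x) ?_ ?_
  · intro i x h
    exact (secDivFun_ne_zero (right_ne_zero_of_mul h)).1
  · intro i x
    obtain ⟨U, hU, hx, hfin⟩ := locallyFinite_secDivFun hδ hL i.1 (hs i.1) x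
    exact ⟨U, hU, hx, hfin.subset fun y hy => ⟨hy.1, right_ne_zero_of_mul hy.2⟩⟩

theorem c1CapFun_eq_zero_of_ne (α : X → ℤ) (hα : ∀ x, δ x ≠ k + 1 → α x = 0)
    (s : (ξ : X) → secFibre L ξ) {x : X} (hx : δ x ≠ k) : c1CapFun δ L α s x = 0 := by
  refine finsum_eq_zero_of_forall_eq_zero fun ξ => ?_
  by_cases h : δ ξ = k + 1
  · rw [secDivFun_eq_zero δ L (fun h' => hx (by have := h'.2; omega)), mul_zero]
  · rw [hα ξ h, zero_mul]

/-- If α vanishes at the generizations... `c₁(L) ∩ α` at x only involves points ξ ⤳ x. -/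
theorem c1CapFun_eq_zero_of_forall (α : X → ℤ) (s : (ξ : X) → secFibre L ξ) {x : X}
    (h : ∀ ξ, ξ ⤳ x → α ξ ≠ 0 → secDivFun δ L ξ (s ξ) x = 0) : c1CapFun δ L α s x = 0 := by
  refine finsum_eq_zero_of_forall_eq_zero fun ξ => ?_
  by_cases h1 : α ξ = 0
  · rw [h1, zero_mul]
  by_cases h2 : ξ ⤳ x
  · rw [h ξ h2 h1, mul_zero]
  · rw [secDivFun_eq_zero δ L (fun h' => h2 h'.1), mul_zero]

/-- Iterated caps as a double sum. -/
theorem cap_cap [IsLocallyNoetherian X] (hδ : IsDimFun X δ) (hN : PicF.IsInvertible N)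
    (α : AlgebraicCycle X ℤ) {sN : (ξ : X) → secFibre N ξ} (hsN : ∀ ξ, sN ξ ≠ 0)
    (sL : (ξ : X) → secFibre L ξ) (x : X) :
    c1CapFun δ L (c1CapFun δ N ⇑α sN) sL x =
      ∑ᶠ ξ : {ξ : X // α ξ ≠ 0}, α ξ.1 *
        ∑ᶠ ζ : X, secDivFun δ N ξ.1 (sN ξ.1) ζ * secDivFun δ L ζ (sL ζ) x := by
  have hfin : ∀ i : {ξ : X // α ξ ≠ 0},
      (Function.support fun ζ => secDivFun δ N i.1 (sN i.1) ζ *
        secDivFun δ L ζ (sL ζ) x).Finite := by
    intro i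
    obtain ⟨v, hv⟩ := exists_nonzero hN
    have h := finite_ordS_mul hδ (secData δ hN (hsN i.1) hv)
      (fun ζ x => secDivFun δ L ζ (sL ζ) x) (fun ζ x h => (secDivFun_ne_zero h).1) x
    simpa only [secData_ordS] using h
  have h1 := finsum_mul_comm (locFin_support α)
    (fun i ζ => α i.1 * secDivFun δ N i.1 (sN i.1) ζ)
    (fun i ζ h => (secDivFun_ne_zero (right_ne_zero_of_mul h)).1)
    (fun ζ x => secDivFun δ L ζ (sL ζ) x) (fun ζ x h => (secDivFun_ne_zero h).1) x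
    (fun i => (hfin i).subset fun ζ hζ => by
      rw [Function.mem_support, mul_assoc] at hζ
      exact right_ne_zero_of_mul hζ)
  rw [c1CapFun_apply]
  simp only [c1CapFun_eq_subtype (δ := δ) (L := N) ⇑α sN]
  refine h1.trans (finsum_congr fun i => ?_)
  rw [mul_finsum]
  exact finsum_congr fun ζ => mul_assoc _ _ _

theorem LineData.sym_eq_one_right {ξ : X} [IsLocallyNoetherian X] (hδ : IsDimFun X δ)
    (D₁ D₂ : LineData δ ξ)
    (ζ : {ζ : X // ξ ⤳ ζ ∧ δ ζ + 1 = δ ξ}) (u : (X.presheaf.stalk ζ.1)ˣ)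
    (hu : specMap ζ.1 ξ ζ.2.1 (u : X.presheaf.stalk ζ.1) = D₂.ratio ζ.1)
    (hu' : X.residue ζ.1 (u : X.presheaf.stalk ζ.1) = 1) : D₁.sym D₂ ζ = 1 := by
  unfold LineData.sym
  rw [← hu, tamePt_unit_right hδ ζ.2.1 ζ.2.2 u (D₁.ratio_ne _), hu', one_zpow]

/-- the value v at ζ and the value s at ξ come from one element of the stalk at ζ. -/
def SameGerm (L : X.Modules) {ξ ζ : X} (h : ξ ⤳ ζ) (s : secFibre L ξ) (v : secFibre L ζ) : Prop :=
  ∃ m : L.presheaf.stalk ζ, cl L ζ m = v ∧ cl L ξ (L.presheaf.stalkSpecializes h m) = s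

theorem sameGerm_gysinChoice (hL : PicF.IsInvertible L) (s : L.presheaf.obj (op ⊤))
    (t : (ξ : X) → secFibre L ξ) {ξ ζ : X} (h : ξ ⤳ ζ) (h0 : val L s ζ ≠ 0) :
    SameGerm L h (gysinChoice L s t ξ) (gysinChoice L s t ζ) := by
  rw [gysinChoice_of_ne s t h0, gysinChoice_of_ne s t (val_ne_zero_of_specializes hL s h h0)]
  exact ⟨(L.presheaf.germ ⊤ ζ trivial) s, rfl, by rw [germ_spec]; rfl⟩

theorem exists_ne_zero_of_finsum {ι : Type*} {F : ι → ℤ} (h : ∑ᶠ i, F i ≠ 0) : ∃ i, F i ≠ 0 := by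
  by_contra hcon
  push Not at hcon
  exact h (finsum_eq_zero_of_forall_eq_zero hcon)

/-- **Commutation of caps**: an explicit family of principal divisors. -/
theorem exists_family [IsLocallyNoetherian X] (hδ : IsDimFun X δ) (hL : PicF.IsInvertible L)
    (hN : PicF.IsInvertible N) (α : AlgebraicCycle X ℤ)
    {sL sL' : (ξ : X) → secFibre L ξ} {sN sN' : (ξ : X) → secFibre N ξ}
    (hsL : ∀ ξ, sL ξ ≠ 0) (hsL' : ∀ ξ, sL' ξ ≠ 0) (hsN : ∀ ξ, sN ξ ≠ 0) (hsN' : ∀ ξ, sN' ξ ≠ 0) :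
    ∃ (ι : Type u) (ξ ζ : ι → X) (h : ∀ i, ξ i ⤳ ζ i) (f : (i : ι) → X.residueField (ζ i)),
      (∀ i, α (ξ i) ≠ 0) ∧ (∀ i, δ (ζ i) + 1 = δ (ξ i)) ∧ (∀ i, f i ≠ 0) ∧ LocFin ζ ∧
      (∀ i, SameGerm N (h i) (sN (ξ i)) (sN' (ζ i)) → f i = 1) ∧
      (∀ i, SameGerm L (h i) (sL' (ξ i)) (sL (ζ i)) → f i = 1) ∧
      ∀ x, c1CapFun δ L (c1CapFun δ N ⇑α sN) sL x - c1CapFun δ N (c1CapFun δ L ⇑α sL') sN' x =
        ∑ᶠ i, divFun δ (ζ i) (f i) x := by
  let D₁ := fun ξ : {ξ : X // α ξ ≠ 0} => secData δ hN (hsN ξ.1) hsN'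
  let D₂ := fun ξ : {ξ : X // α ξ ≠ 0} => secData δ hL (hsL' ξ.1) hsL
  have hlf : LocFin (fun p : Σ ξ : {ξ : X // α ξ ≠ 0}, (D₁ ξ).bad (D₂ ξ) => p.2.1) :=
    locFin_sigma (locFin_support α) (ζ := fun ξ (ζ : (D₁ ξ).bad (D₂ ξ)) => ζ.1)
      (fun ξ => (D₁ ξ).locFin_bad hδ (D₂ ξ)) (fun ξ ζ => ζ.2.1.1)
  refine ⟨Σ ξ : {ξ : X // α ξ ≠ 0}, (D₁ ξ).bad (D₂ ξ), fun p => p.1.1, fun p => p.2.1,
    fun p => p.2.2.1.1, fun p => ((D₁ p.1).sym (D₂ p.1) ⟨p.2.1, p.2.2.1⟩) ^ (α p.1.1),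
    fun p => p.1.2, fun p => p.2.2.1.2, fun p => zpow_ne_zero _
      ((D₁ p.1).sym_ne_zero hδ (D₂ p.1) _), hlf, ?_, ?_, ?_⟩
  · rintro ⟨ξ, ζ⟩ ⟨m, hm, hm'⟩
    dsimp only at hm hm' ⊢
    obtain ⟨u, hu, hu'⟩ := exists_ratio_eq_unit hN hsN' ζ.1 ζ.2.1.1 m hm hm'
    rw [LineData.sym_eq_one_of_residue hδ (D₁ ξ) (D₂ ξ) ⟨ζ.1, ζ.2.1⟩ u hu hu', one_zpow]
  · rintro ⟨ξ, ζ⟩ ⟨m, hm, hm'⟩
    dsimp only at hm hm' ⊢
    obtain ⟨u, hu, hu'⟩ := exists_ratio_eq_unit hL hsL ζ.1 ζ.2.1.1 m hm hm'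
    rw [LineData.sym_eq_one_right hδ (D₁ ξ) (D₂ ξ) ⟨ζ.1, ζ.2.1⟩ u hu hu', one_zpow]
  · intro x
    rw [finsum_sigma_of_finite _ (finite_support_divFun hlf _ x), cap_cap hδ hN α hsN sL x,
      cap_cap hδ hL α hsL' sN' x, ← finsum_sub_distrib]
    · refine finsum_congr fun ξ => ?_
      dsimp only
      simp only [OrdFrac.divFun_zpow, Pi.smul_apply, smul_eq_mul]
      rw [← mul_finsum, key_bad hδ, ← mul_sub]
      congr 2
      · exact finsum_congr fun ζ => by rw [secData_ordS, secData_div]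
      · exact finsum_congr fun ζ => by rw [secData_ordS, secData_div]
    · refine (((locFin_support α).finite_specializes x)).subset fun i hi => ?_
      obtain ⟨ζ, hζ⟩ := exists_ne_zero_of_finsum (right_ne_zero_of_mul hi)
      exact (secDivFun_ne_zero (left_ne_zero_of_mul hζ)).1.trans
        (secDivFun_ne_zero (right_ne_zero_of_mul hζ)).1
    · refine (((locFin_support α).finite_specializes x)).subset fun i hi => ?_
      obtain ⟨ζ, hζ⟩ := exists_ne_zero_of_finsum (right_ne_zero_of_mul hi)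
      exact (secDivFun_ne_zero (left_ne_zero_of_mul hζ)).1.trans
        (secDivFun_ne_zero (right_ne_zero_of_mul hζ)).1

end Groth.Agent.CycB.CapComm
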