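import Groth.Prelude.Def_ChowK
import Groth.Agent.CycB.GenPts
import Groth.Agent.CycB.LFCoprod2
import Groth.Agent.CycB.ClosSheaf

/-!
# The cycle of a locally finite coproduct, and of `cycleSheafPos α`
-/

set_option autoImplicit false
universe u

open CategoryTheory CategoryTheory.Limits AlgebraicGeometry TopologicalSpace Opposite

namespace Groth.Agent.CycB.CycleSheaf

open Groth.Agent.CycB.StalkExact Groth.Agent.CycB.GenPts
  Groth.Agent.CycB.LFCoprod Groth.Agent.CycB.LFCoprod2 Groth.Agent.CycB.ClosSheaf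

variable {X : Scheme.{u}} {δ : X → ℤ} {k : ℤ}

theorem cohLe_sigma [IsLocallyNoetherian X] {J : Type u} (M : J → X.Modules) (hM : LF M)
    (h : ∀ j, Cyc.CohLe δ k (M j)) : Cyc.CohLe δ k (∐ M) := by
  refine ⟨isCoh_sigma M hM fun j => (h j).1, fun x hx => ?_⟩
  have h1 : x ∈ supp (∐ M) := hx
  rw [supp_sigma, Set.mem_iUnion] at h1
  obtain ⟨j, hj⟩ := h1
  exact (h j).2 x hj

theorem cohLe_sigma_nat [IsLocallyNoetherian X] (M : ℕ → X.Modules) (hM : LF M)
    (h : ∀ j, Cyc.CohLe δ k (M j)) : Cyc.CohLe δ k (∐ M) := by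
  refine ⟨isCoh_sigma M hM fun j => (h j).1, fun x hx => ?_⟩
  have h1 : x ∈ supp (∐ M) := hx
  rw [supp_sigma, Set.mem_iUnion] at h1
  obtain ⟨j, hj⟩ := h1
  exact (h j).2 x hj

theorem LF.finite_mem {J : Type u} {M : J → X.Modules} (hM : LF M) (x : X) :
    {j | x ∈ supp (M j)}.Finite := by
  obtain ⟨t, ht, hfin⟩ := hM x
  exact hfin.subset fun j hj => ⟨x, hj, mem_of_mem_nhds ht⟩

theorem sheafFun_nonneg (F : X.Modules) (x : X) : 0 ≤ Cyc.sheafFun δ k F x := by
  unfold Cyc.sheafFun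
  split_ifs
  · exact Int.natCast_nonneg _
  · exact le_rfl

theorem sheafFun_of_ne (F : X.Modules) {x : X} (hx : δ x ≠ k) : Cyc.sheafFun δ k F x = 0 :=
  if_neg hx

theorem sheafFun_eq_zero_of_subsingleton (F : X.Modules) (x : X)
    (h : Subsingleton (F.presheaf.stalk x)) : Cyc.sheafFun δ k F x = 0 := by
  unfold Cyc.sheafFun
  split_ifs
  · rw [Module.length_eq_zero, ENat.toNat_zero, Nat.cast_zero]
  · rfl

theorem sheafFun_sigma (hX : Cyc.IsSetup X δ) {J : Type u} (M : J → X.Modules) (hM : LF M)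
    (h : ∀ j, Cyc.CohLe δ k (M j)) (x : X) :
    Cyc.sheafFun δ k (∐ M) x = ∑ᶠ j, Cyc.sheafFun δ k (M j) x := by
  classical
  by_cases hx : δ x = k
  swap
  · rw [sheafFun_of_ne _ hx]
    exact (finsum_eq_zero_of_forall_eq_zero fun j => sheafFun_of_ne _ hx).symm
  let S : Finset J := (LF.finite_mem hM x).toFinset
  have hS : ∀ j, j ∉ S → Subsingleton ((M j).presheaf.stalk x) := fun j hj => by
    rw [Set.Finite.mem_toFinset] at hj
    exact notMem_supp.1 hj
  have h1 := length_stalk_sigma M x S hS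
  have h2 : ∀ j, Cyc.sheafFun δ k (M j) x =
      ((Module.length (X.presheaf.stalk x) ((M j).presheaf.stalk x)).toNat : ℤ) := fun j =>
    if_pos hx
  rw [finsum_eq_sum_of_support_subset (s := S)]
  · rw [Finset.sum_congr rfl fun j _ => h2 j, ← Nat.cast_sum]
    have h3 : ∀ j, Module.length (X.presheaf.stalk x) ((M j).presheaf.stalk x) =
        ((Module.length (X.presheaf.stalk x) ((M j).presheaf.stalk x)).toNat : ℕ∞) := fun j =>
      (ENat.natCast_toNat (length_stalk_ne_top hX (h j).1 (h j).2 hx)).symm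
    rw [Finset.sum_congr rfl fun j _ => h3 j, ← Nat.cast_sum] at h1
    refine (if_pos hx).trans ?_
    rw [h1, ENat.toNat_natCast]
  · intro j hj
    rw [Function.mem_support] at hj
    by_contra hjS
    exact hj (sheafFun_eq_zero_of_subsingleton _ _ (hS j hjS))

/-- The cycle of a module in `Coh_{≤ k}`. -/
noncomputable def sheafCycle (hX : Cyc.IsSetup X δ) {F : X.Modules} (hF : Cyc.CohLe δ k F) :
    AlgebraicCycle X ℤ where
  toFun := Cyc.sheafFun δ k F
  supportWithinDomain' := fun _ _ => trivial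
  supportLocallyFiniteWithinDomain' := fun x _ => by
    obtain ⟨U, hxU, hfin⟩ := exists_finite_genPts hX hF.1 hF.2 x
    refine ⟨U, U.isOpen.mem_nhds hxU, hfin.subset ?_⟩
    rintro y ⟨hy, hy'⟩
    rw [Function.mem_support] at hy'
    refine ⟨hy, ?_, ?_⟩
    · by_contra hne
      exact hy' (sheafFun_of_ne _ hne)
    · by_contra hne
      rw [not_nontrivial_iff_subsingleton] at hne
      exact hy' (sheafFun_eq_zero_of_subsingleton _ _ hne)

theorem sheafCycle_coe (hX : Cyc.IsSetup X δ) {F : X.Modules} (hF : Cyc.CohLe δ k F) :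
    ⇑(sheafCycle hX hF) = Cyc.sheafFun δ k F := rfl

theorem sheafCycle_mem (hX : Cyc.IsSetup X δ) {F : X.Modules} (hF : Cyc.CohLe δ k F) :
    sheafCycle hX hF ∈ Cyc.Zk X δ k := fun _ hx => sheafFun_of_ne F hx

/-! ### `cycleSheafPos` -/

theorem supp_closureStructureSheaf (ζ : X) : supp (Cyc.closureStructureSheaf ζ) = closure {ζ} := by
  ext x
  rw [mem_supp, nontrivial_stalk_iff, specializes_iff_mem_closure]

theorem finite_index (α : X → ℤ) (t : Set X) (ht : (t ∩ Function.support α).Finite) :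
    {i : (Σ ζ : {ζ : X // 0 < α ζ}, Fin (α ζ.1).toNat) | i.1.1 ∈ t}.Finite := by
  have h1 : {ζ : {ζ : X // 0 < α ζ} | ζ.1 ∈ t}.Finite := by
    refine Set.Finite.of_finite_image (f := Subtype.val) (ht.subset ?_)
      Subtype.val_injective.injOn
    rintro _ ⟨i, hi, rfl⟩
    exact ⟨hi, fun h0 => by have := i.2; rw [h0] at this; exact lt_irrefl _ this⟩
  have h2 := Set.Finite.biUnion h1 fun ζ _ => Set.finite_range
    fun n : Fin (α ζ.1).toNat => (⟨ζ, n⟩ : (Σ ζ : {ζ : X // 0 < α ζ}, Fin (α ζ.1).toNat))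
  refine h2.subset ?_
  rintro ⟨ζ, n⟩ h
  exact Set.mem_iUnion₂.2 ⟨ζ, h, n, rfl⟩

theorem lf_cycleSheafPos (α : X → ℤ) (hα : ∀ z, ∃ t ∈ nhds z, (t ∩ Function.support α).Finite) :
    LF (fun i : (Σ ζ : {ζ : X // 0 < α ζ}, Fin (α ζ.1).toNat) =>
      Cyc.closureStructureSheaf i.1.1) := by
  intro x
  obtain ⟨t, ht, hfin⟩ := hα x
  obtain ⟨V, hVt, hV, hxV⟩ := mem_nhds_iff.1 ht
  refine ⟨V, hV.mem_nhds hxV, ?_⟩
  refine (finite_index α V (hfin.subset (Set.inter_subset_inter_left _ hVt))).subset ?_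
  rintro i ⟨y, hy, hyV⟩
  change y ∈ supp (Cyc.closureStructureSheaf i.1.1) at hy
  rw [supp_closureStructureSheaf] at hy
  exact (specializes_iff_mem_closure.2 hy).mem_open hV hyV

theorem cohLe_cycleSheafPos (hX : Cyc.IsSetup X δ) (α : X → ℤ)
    (hα : ∀ z, ∃ t ∈ nhds z, (t ∩ Function.support α).Finite)
    (hk : ∀ x, δ x ≠ k → α x = 0) : Cyc.CohLe δ k (Cyc.cycleSheafPos α) := by
  have := hX.1
  refine cohLe_sigma _ (lf_cycleSheafPos α hα) fun i => ?_
  refine cohLe_closureStructureSheaf_of_le hX.2.2 (le_of_eq ?_)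
  by_contra hne
  have := i.1.2
  rw [hk _ hne] at this
  exact lt_irrefl _ this

theorem sheafFun_cycleSheafPos (hX : Cyc.IsSetup X δ) (α : X → ℤ)
    (hα : ∀ z, ∃ t ∈ nhds z, (t ∩ Function.support α).Finite)
    (hk : ∀ x, δ x ≠ k → α x = 0) (x : X) :
    Cyc.sheafFun δ k (Cyc.cycleSheafPos α) x = ((α x).toNat : ℤ) := by
  classical
  have := hX.1
  have hik : ∀ i : (Σ ζ : {ζ : X // 0 < α ζ}, Fin (α ζ.1).toNat), δ i.1.1 = k := by
    intro i
    by_contra hne
    have := i.1.2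
    rw [hk _ hne] at this
    exact lt_irrefl _ this
  unfold Cyc.cycleSheafPos
  rw [sheafFun_sigma hX _ (lf_cycleSheafPos α hα) fun i =>
    cohLe_closureStructureSheaf_of_le hX.2.2 (hik i).le]
  have h1 : ∀ i : (Σ ζ : {ζ : X // 0 < α ζ}, Fin (α ζ.1).toNat),
      Cyc.sheafFun δ k (Cyc.closureStructureSheaf i.1.1) x = if x = i.1.1 then 1 else 0 := by
    intro i
    have h2 := congrFun (sheafFun_closureStructureSheaf hX.2.2 i.1.1) x
    rw [hik i] at h2
    rw [h2]
  rw [finsum_congr h1]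
  by_cases hx : 0 < α x
  · let g : Fin (α x).toNat → (Σ ζ : {ζ : X // 0 < α ζ}, Fin (α ζ.1).toNat) := fun n => ⟨⟨x, hx⟩, n⟩
    have hg : Function.Injective g := fun a b hab => by
      simpa [g] using hab
    have h3 : (∑ᶠ i : (Σ ζ : {ζ : X // 0 < α ζ}, Fin (α ζ.1).toNat),
        if x = i.1.1 then (1 : ℤ) else 0) = ∑ i ∈ Finset.univ.map ⟨g, hg⟩,
          if x = i.1.1 then (1 : ℤ) else 0 := by
      refine finsum_eq_sum_of_support_subset _ ?_
      rintro ⟨⟨ζ, hζ⟩, n⟩ hi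
      rw [Function.mem_support] at hi
      have hxζ : x = ζ := by
        by_contra hne
        exact hi (if_neg hne)
      subst hxζ
      simp [g]
    rw [h3, Finset.sum_map]
    simp [g]
  · have h0 : (α x).toNat = 0 := by omega
    rw [h0, Nat.cast_zero]
    refine finsum_eq_zero_of_forall_eq_zero fun i => if_neg ?_
    intro h
    exact hx (h ▸ i.1.2)

/-- The class of the positive part minus that of the negative part is the cycle. -/
theorem sheafFun_pos_sub_neg (hX : Cyc.IsSetup X δ) (α : AlgebraicCycle X ℤ)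
    (hk : α ∈ Cyc.Zk X δ k) :
    Cyc.sheafFun δ k (Cyc.cycleSheafPos ⇑α) - Cyc.sheafFun δ k (Cyc.cycleSheafNeg ⇑α) = ⇑α := by
  funext x
  have hα : ∀ z, ∃ t ∈ nhds z, (t ∩ Function.support ⇑α).Finite := fun z =>
    α.supportLocallyFiniteWithinDomain' z trivial
  have hα' : ∀ z, ∃ t ∈ nhds z, (t ∩ Function.support (-⇑α)).Finite := fun z => by
    rw [Function.support_neg]
    exact hα z
  unfold Cyc.cycleSheafNeg
  rw [Pi.sub_apply, sheafFun_cycleSheafPos hX _ hα hk, sheafFun_cycleSheafPos hX _ hα' fun y hy => by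
    rw [Pi.neg_apply, hk y hy, neg_zero]]
  rw [Pi.neg_apply]
  omega

end Groth.Agent.CycB.CycleSheaf
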