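import Groth.Agent.S1833
import Mathlib.RingTheory.KrullDimension.Module
import Mathlib.RingTheory.KrullDimension.Regular
import Mathlib.RingTheory.OrderOfVanishing.Basic
import Mathlib.RingTheory.Ideal.AssociatedPrime.Localization
import Mathlib.RingTheory.Regular.RegularSequence
import Mathlib.RingTheory.HopkinsLevitzki
import Mathlib.RingTheory.Spectrum.Prime.Module
import Mathlib.Data.ENat.BigOperators

/-!
# Length of `M/tM` over a Noetherian local ring, for `M` with one-dimensional support away from `t`
-/

set_option autoImplicit false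
universe u

open IsLocalRing Pointwise

namespace Groth.Agent.CycB.SpAlg

variable {A : Type u} [CommRing A] [IsNoetherianRing A]
  {M : Type u} [AddCommGroup M] [Module A M] [Module.Finite A M]

/-- A finite module with support of dimension `≤ 0` has finite length. -/
theorem length_ne_top_of_supportDim_le_zero (h : Module.supportDim A M ≤ 0) :
    Module.length A M ≠ ⊤ := by
  rw [Module.supportDim_eq_ringKrullDim_quotient_annihilator] at h
  have h1 : IsArtinianRing (A ⧸ Module.annihilator A M) := by
    rw [isArtinianRing_iff_krullDimLE_zero, Ring.KrullDimLE, Order.krullDimLE_iff]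
    exact h
  rw [Module.length_ne_top_iff, isFiniteLength_iff_isNoetherian_isArtinian]
  refine ⟨inferInstance, ?_⟩
  let : Module (A ⧸ Module.annihilator A M) M :=
    Module.IsTorsionBySet.module (Module.isTorsionBySet_annihilator A M)
  have : IsScalarTower A (A ⧸ Module.annihilator A M) M :=
    Module.IsTorsionBySet.isScalarTower (Module.isTorsionBySet_annihilator A M)
  have : Module.Finite (A ⧸ Module.annihilator A M) M := Module.Finite.of_restrictScalars_finite A _ _
  have h2 : IsArtinian (A ⧸ Module.annihilator A M) M := inferInstance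
  have hs : Function.Surjective (algebraMap A (A ⧸ Module.annihilator A M)) :=
    Ideal.Quotient.mk_surjective
  exact isArtinian_of_surjective_algebraMap hs

/-- Below every prime of the support there is an associated prime in the support. -/
theorem exists_assoc_le (p : PrimeSpectrum A) (hp : p ∈ Module.support A M) :
    ∃ q : PrimeSpectrum A, q ∈ Module.support A M ∧ q ≤ p ∧ q.asIdeal ∈ associatedPrimes A M := by
  rw [Module.mem_support_iff_of_finite] at hp
  obtain ⟨q, hq, hqp⟩ := Ideal.exists_minimalPrimes_le hp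
  refine ⟨⟨q, hq.1.1⟩, ?_, hqp, Module.associatedPrimes.minimalPrimes_annihilator_subset_associatedPrimes A M hq⟩
  rw [Module.mem_support_iff_of_finite]
  exact hq.1.2

omit [Module.Finite A M] in
theorem notMem_of_assoc {t : A} (hreg : IsSMulRegular M t) (q : Ideal A)
    (hq : q ∈ associatedPrimes A M) : t ∉ q := by
  intro ht
  have h1 : t ∈ ⋃ p ∈ associatedPrimes A M, (p : Set A) := Set.mem_biUnion hq ht
  rw [biUnion_associatedPrimes_eq_zero_divisors] at h1
  obtain ⟨m, hm, hm'⟩ := h1
  exact hm (hreg (by simpa using hm'))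

theorem supportDim_le_one {t : A} (hreg : IsSMulRegular M t)
    (hdim : ∀ p : PrimeSpectrum A, p ∈ Module.support A M → t ∉ p.asIdeal →
      ringKrullDim (A ⧸ p.asIdeal) ≤ 1) : Module.supportDim A M ≤ 1 := by
  refine iSup_le fun s => ?_
  obtain ⟨q, hq, hqs, hqa⟩ := exists_assoc_le s.head.1 s.head.2
  have h1 := hdim q hq (notMem_of_assoc hreg _ hqa)
  rw [ringKrullDim_quotient] at h1
  refine le_trans ?_ h1
  let s' : LTSeries ↥(PrimeSpectrum.zeroLocus (q.asIdeal : Set A)) :=
    { length := s.length
      toFun := fun i => ⟨(s i).1, hqs.trans (s.monotone (Fin.zero_le i))⟩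
      step := fun i => s.step i }
  exact le_iSup (fun p : LTSeries _ => (p.length : WithBot ℕ∞)) s'

variable [IsLocalRing A]

theorem supportDim_quot_le_zero {t : A} (ht : t ∈ maximalIdeal A) (hreg : IsSMulRegular M t)
    (hdim : ∀ p : PrimeSpectrum A, p ∈ Module.support A M → t ∉ p.asIdeal →
      ringKrullDim (A ⧸ p.asIdeal) ≤ 1) :
    Module.supportDim A (M ⧸ t • (⊤ : Submodule A M)) ≤ 0 := by
  have h1 := supportDim_le_one hreg hdim
  have h2 := Module.supportDim_quotSMulTop_succ_eq_supportDim hreg ht
  rw [← h2] at h1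
  exact ENat.WithBot.add_le_add_one_right_iff.1 (h1.trans (zero_add (1 : WithBot ℕ∞)).ge)

omit [IsNoetherianRing A] [Module.Finite A M] [IsLocalRing A] in
/-- no chains of length two in a one-dimensional support -/
theorem not_lt_lt (h : Module.supportDim A M ≤ 1) (p q r : PrimeSpectrum A)
    (hp : p ∈ Module.support A M) (hq : q ∈ Module.support A M) (hr : r ∈ Module.support A M)
    (h1 : p < q) (h2 : q < r) : False := by
  let s : LTSeries (Module.support A M) := RelSeries.fromListIsChain
    [⟨p, hp⟩, ⟨q, hq⟩, ⟨r, hr⟩] (by simp) (by simp [h1, h2])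
  have h3 : (s.length : WithBot ℕ∞) ≤ Module.supportDim A M :=
    le_iSup (fun p : LTSeries _ => (p.length : WithBot ℕ∞)) s
  have h4 : s.length = 2 := rfl
  rw [h4] at h3
  have h5 := h3.trans h
  exact absurd (by exact_mod_cast h5 : (2 : ℕ) ≤ 1) (by norm_num)

omit [IsNoetherianRing A] in
theorem lt_closedPoint (p : PrimeSpectrum A) (hp : p.asIdeal ≠ maximalIdeal A) :
    p < closedPoint A :=
  lt_of_le_of_ne (IsLocalRing.le_maximalIdeal p.2.ne_top) (fun h => hp (by rw [h]; rfl))

omit [IsNoetherianRing A] [Module.Finite A M] in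
theorem closedPoint_mem (p : PrimeSpectrum A) (hp : p ∈ Module.support A M) :
    closedPoint A ∈ Module.support A M :=
  Module.mem_support_mono (IsLocalRing.le_maximalIdeal p.2.ne_top : p ≤ closedPoint A) hp

theorem notMem_of_ne_maximal {t : A} (hreg : IsSMulRegular M t)
    (h1 : Module.supportDim A M ≤ 1) (p : PrimeSpectrum A) (hp : p ∈ Module.support A M)
    (hpm : p.asIdeal ≠ maximalIdeal A) : t ∉ p.asIdeal := by
  intro htp
  obtain ⟨q, hq, hqp, hqa⟩ := exists_assoc_le p hp
  have hqt := notMem_of_assoc hreg _ hqa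
  have hlt : q < p := lt_of_le_of_ne hqp (by rintro rfl; exact hqt htp)
  exact not_lt_lt h1 q p (closedPoint A) hq hp (closedPoint_mem p hp) hlt (lt_closedPoint p hpm)

theorem finite_support_ne_maximal (h1 : Module.supportDim A M ≤ 1) :
    {p : PrimeSpectrum A | p ∈ Module.support A M ∧ p.asIdeal ≠ maximalIdeal A}.Finite := by
  refine Set.Finite.subset (s := PrimeSpectrum.asIdeal ⁻¹' (Module.annihilator A M).minimalPrimes)
    (Set.Finite.preimage (fun a _ b _ h => PrimeSpectrum.ext h)
      (Ideal.finite_minimalPrimes_of_isNoetherianRing A _)) ?_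
  rintro p ⟨hp, hpm⟩
  have hp' := hp
  rw [Module.mem_support_iff_of_finite] at hp'
  obtain ⟨q, hq, hqp⟩ := Ideal.exists_minimalPrimes_le hp'
  let q' : PrimeSpectrum A := ⟨q, hq.1.1⟩
  have hq' : q' ∈ Module.support A M := by
    rw [Module.mem_support_iff_of_finite]; exact hq.1.2
  by_cases h : q' = p
  · rw [← h]; exact hq
  · exact (not_lt_lt h1 q' p (closedPoint A) hq' hp (closedPoint_mem p hp)
      (lt_of_le_of_ne hqp h) (lt_closedPoint p hpm)).elim

/-- The length formula `ℓ(M/tM) = Σ_p ord_{A/p}(t) ℓ(M_p)` in natural numbers. -/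
theorem length_toNat_eq {t : A} (ht : t ∈ maximalIdeal A) (hreg : IsSMulRegular M t)
    (hdim : ∀ p : PrimeSpectrum A, p ∈ Module.support A M → t ∉ p.asIdeal →
      ringKrullDim (A ⧸ p.asIdeal) ≤ 1) :
    ((Module.length A (M ⧸ t • (⊤ : Submodule A M))).toNat : ℤ) =
      ∑ᶠ (p : PrimeSpectrum A) (_ : p ∈ {p : PrimeSpectrum A | p ∈ Module.support A M ∧
          p.asIdeal ≠ maximalIdeal A}),
        ((Module.length (Localization.AtPrime p.asIdeal)
          (LocalizedModule p.asIdeal.primeCompl M)).toNat : ℤ) *
        ((Ring.ord (A ⧸ p.asIdeal) (Ideal.Quotient.mk p.asIdeal t)).toNat : ℤ) := by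
  have h1 := supportDim_le_one hreg hdim
  have h0 := supportDim_quot_le_zero ht hreg hdim
  have hfin := finite_support_ne_maximal h1
  have key := Groth.Agent.S1833.result A M t h1 h0
  have hker : Module.length A (LinearMap.ker (LinearMap.lsmul A M t)) = 0 := by
    rw [Module.length_eq_zero_iff, Submodule.subsingleton_iff_eq_bot]
    exact LinearMap.ker_eq_bot.2 hreg
  rw [hker, zero_add] at key
  have hne : Module.length A (M ⧸ t • (⊤ : Submodule A M)) ≠ ⊤ :=
    length_ne_top_of_supportDim_le_zero h0
  have key' : Module.length A (M ⧸ t • (⊤ : Submodule A M)) =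
      ∑ p ∈ hfin.toFinset, Ring.ord (A ⧸ p.asIdeal) (Ideal.Quotient.mk p.asIdeal t) *
        Module.length (Localization.AtPrime p.asIdeal)
          (LocalizedModule p.asIdeal.primeCompl M) := by
    rw [key]
    exact finsum_mem_eq_finite_toFinset_sum _ hfin
  rw [key'] at hne
  rw [key', ENat.toNat_sum (ENat.sum_ne_top.1 hne), finsum_mem_eq_finite_toFinset_sum _ hfin]
  push_cast
  refine Finset.sum_congr rfl fun p _ => ?_
  rw [ENat.toNat_mul]
  push_cast
  ring

end Groth.Agent.CycB.SpAlg
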