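import Groth.Agent.CycB.SpDVR
import Groth.Agent.CycB.SpAlg

/-!
# The specialization map and lengths of modules flat over a DVR
-/

set_option autoImplicit false
universe u

open AlgebraicGeometry CategoryTheory TopologicalSpace CategoryTheory.Limits Pointwise
open Groth.Agent.CycB.DimIneq Groth.Agent.CycB.SpDVR

namespace Groth.Agent.CycB.SpCore

theorem one_le_ringKrullDim_locQuot {X : Scheme.{u}} {x z : X} (h : z ⤳ x) (hne : z ≠ x) :
    1 ≤ ringKrullDim (Cyc.LocQuot x z h) := by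
  by_contra hcon
  have h1 : ringKrullDim (Cyc.LocQuot x z h) ≤ 0 := by
    by_contra h2
    apply hcon
    rw [not_le] at h2
    exact ENat.WithBot.add_one_le_iff.2 h2
  have h2 : Ring.KrullDimLE 0 (Cyc.LocQuot x z h) := by
    rw [Ring.KrullDimLE, Order.krullDimLE_iff]; exact h1
  have h3 : IsField (Cyc.LocQuot x z h) := Ring.KrullDimLE.isField_of_isDomain
  have h4 : (RingHom.ker (Cyc.specMap x z h)).IsMaximal := Ideal.Quotient.maximal_of_isField _ h3
  have h5 := IsLocalRing.eq_maximalIdeal h4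
  apply hne
  exact (LocQuot.ker_inj h (specializes_refl _)).1 (h5.trans (LocQuot.ker_refl x).symm)

section

variable {R : Type u} [CommRing R] [IsDomain R] [IsDiscreteValuationRing R]
  {X : Scheme.{u}} (a : X ⟶ Spec (CommRingCat.of R))

theorem exists_fiber_point {z : X}
    (hne : a z ≠ IsLocalRing.closedPoint R) :
    ∃ ζ : ↥(a.fiber (genericPoint ↥(Spec (CommRingCat.of R)))), a.fiberι _ ζ = z := by
  have h1 := eq_genericPoint_of_ne R (a z) hne
  exact ⟨(a.fiberHomeo _).symm ⟨z, h1⟩, a.fiberι_fiberHomeo_symm _ _⟩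

end

section Alg

theorem length_quot_eq_ord {A S : Type u} [CommRing A] [CommRing S] (φ : S →+* A) (J : Ideal S)
    (π : S) (hπ : J = Ideal.span {π}) (I : Ideal A) :
    Module.length A ((A ⧸ I) ⧸ J.map ((Ideal.Quotient.mk I).comp φ)) =
      Ring.ord (A ⧸ I) (Ideal.Quotient.mk I (φ π)) := by
  have h1 : J.map ((Ideal.Quotient.mk I).comp φ) =
      Ideal.span {Ideal.Quotient.mk I (φ π)} := by
    rw [hπ, Ideal.map_span, Set.image_singleton]; rfl
  rw [h1, Ring.ord]
  refine DivNat.length_eq_of_semilinear (Ideal.Quotient.mk I) Ideal.Quotient.mk_surjective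
    { toFun := id, map_add' := fun _ _ => rfl, map_smul' := ?_ } Function.bijective_id
  intro r m
  rfl

theorem ord_congr {A : Type u} [CommRing A] {I J : Ideal A} (h : I = J) (t : A) :
    Ring.ord (A ⧸ I) (Ideal.Quotient.mk I t) = Ring.ord (A ⧸ J) (Ideal.Quotient.mk J t) := by
  subst h; rfl

end Alg

section Core

variable {R : Type u} [CommRing R] [IsDomain R] [IsDiscreteValuationRing R]
  {X : Scheme.{u}} (a : X ⟶ Spec (CommRingCat.of R))

theorem exists_primeOf_eq (x : ↥(a.fiber (IsLocalRing.closedPoint R)))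
    (π : (Spec (CommRingCat.of R)).presheaf.stalk (a (a.fiberι _ x)))
    (hπ : IsLocalRing.maximalIdeal ((Spec (CommRingCat.of R)).presheaf.stalk (a (a.fiberι _ x))) =
      Ideal.span {π})
    (p : PrimeSpectrum (X.presheaf.stalk (a.fiberι _ x)))
    (hp : (a.stalkMap (a.fiberι _ x)).hom π ∉ p.asIdeal) :
    ∃ (ζ : ↥(a.fiber (genericPoint ↥(Spec (CommRingCat.of R)))))
      (h : a.fiberι _ ζ ⤳ a.fiberι _ x), LocQuot.primeOf h = p := by
  have h1 : a (LocQuot.ptOf p) ≠ IsLocalRing.closedPoint R := by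
    intro h2
    apply hp
    have h3 := (mem_ker_iff a (LocQuot.ptOf_specializes p) π hπ).2
      (h2.trans (apply_fiberι a _ x).symm)
    rwa [← LocQuot.primeOf_asIdeal, LocQuot.primeOf_ptOf] at h3
  obtain ⟨ζ, hζ⟩ := exists_fiber_point a h1
  refine ⟨ζ, hζ ▸ LocQuot.ptOf_specializes p, ?_⟩
  have h4 : ∀ (z : X) (h : z ⤳ a.fiberι _ x), z = LocQuot.ptOf p → LocQuot.primeOf h = p := by
    rintro z h rfl
    exact LocQuot.primeOf_ptOf p
  exact h4 _ _ hζ

variable [LocallyOfFiniteType a]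
  {δη : ↥(a.fiber (genericPoint ↥(Spec (CommRingCat.of R)))) → ℤ}
  {δs : ↥(a.fiber (IsLocalRing.closedPoint R)) → ℤ}
  (hδη : Cyc.DeltaCompat
    (a.fiberToSpecResidueField (genericPoint ↥(Spec (CommRingCat.of R)))) δη (fun _ => 0))
  (hδs : Cyc.DeltaCompat
    (a.fiberToSpecResidueField (IsLocalRing.closedPoint R)) δs (fun _ => 0))
  {r : ℤ} {x : ↥(a.fiber (IsLocalRing.closedPoint R))}
  {M : Type u} [AddCommGroup M] [Module (X.presheaf.stalk (a.fiberι _ x)) M]
  [Module.Finite (X.presheaf.stalk (a.fiberι _ x)) M]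
  (π : (Spec (CommRingCat.of R)).presheaf.stalk (a (a.fiberι _ x)))
  (hπ : IsLocalRing.maximalIdeal ((Spec (CommRingCat.of R)).presheaf.stalk (a (a.fiberι _ x))) =
      Ideal.span {π})
  (hreg : IsSMulRegular M ((a.stalkMap (a.fiberι _ x)).hom π))
  (hsupp : ∀ (ζ : ↥(a.fiber (genericPoint ↥(Spec (CommRingCat.of R)))))
    (h : a.fiberι _ ζ ⤳ a.fiberι _ x),
    LocQuot.primeOf h ∈ Module.support (X.presheaf.stalk (a.fiberι _ x)) M → δη ζ ≤ r)

omit [LocallyOfFiniteType a] in
theorem fiberι_ne (ζ : ↥(a.fiber (genericPoint ↥(Spec (CommRingCat.of R)))))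
    (x : ↥(a.fiber (IsLocalRing.closedPoint R))) :
    a.fiberι _ ζ ≠ a.fiberι _ x := by
  intro h
  have h1 := congrArg a h
  rw [apply_fiberι, apply_fiberι] at h1
  exact genericPoint_ne_closedPoint R h1

include hδη hδs in
/-- `δs x ≤ δη ζ` along a specialization from the generic to the closed fibre -/
theorem delta_le (ζ : ↥(a.fiber (genericPoint ↥(Spec (CommRingCat.of R)))))
    (h : a.fiberι _ ζ ⤳ a.fiberι _ x) : δs x ≤ δη ζ := by
  obtain ⟨d, hd, hle⟩ := dim_fiber a δη δs hδη hδs ζ x h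
  have h1 := one_le_ringKrullDim_locQuot h (fiberι_ne a ζ x)
  rw [hd] at h1
  have h2 : 1 ≤ d := by exact_mod_cast h1
  omega

include hδη hδs hπ hreg hsupp in
theorem delta_le_of_nontrivial [Nontrivial M] : δs x ≤ r := by
  have : IsLocallyNoetherian X := LocallyOfFiniteType.isLocallyNoetherian a
  obtain ⟨p, hp⟩ := Module.nonempty_support_of_nontrivial
    (R := X.presheaf.stalk (a.fiberι _ x)) (M := M)
  obtain ⟨q, hq, -, hqa⟩ := SpAlg.exists_assoc_le p hp
  have hqt := SpAlg.notMem_of_assoc hreg _ hqa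
  obtain ⟨ζ, h, rfl⟩ := exists_primeOf_eq a x π hπ q hqt
  exact (delta_le a hδη hδs ζ h).trans (hsupp ζ h hq)

include hδη hδs hπ hsupp in
omit [Module.Finite (X.presheaf.stalk (a.fiberι _ x)) M] in
theorem ringKrullDim_le_one (hx : δs x = r) (p : PrimeSpectrum (X.presheaf.stalk (a.fiberι _ x)))
    (hp : p ∈ Module.support (X.presheaf.stalk (a.fiberι _ x)) M)
    (ht : (a.stalkMap (a.fiberι _ x)).hom π ∉ p.asIdeal) :
    ringKrullDim (X.presheaf.stalk (a.fiberι _ x) ⧸ p.asIdeal) ≤ 1 := by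
  obtain ⟨ζ, h, rfl⟩ := exists_primeOf_eq a x π hπ p ht
  obtain ⟨d, hd, hle⟩ := dim_fiber a δη δs hδη hδs ζ x h
  have h1 := hsupp ζ h hp
  rw [LocQuot.primeOf_asIdeal]
  refine hd.le.trans ?_
  have h2 : d ≤ 1 := by omega
  exact_mod_cast h2

omit [LocallyOfFiniteType a] in
theorem stalkMap_mem (hπ : IsLocalRing.maximalIdeal
    ((Spec (CommRingCat.of R)).presheaf.stalk (a (a.fiberι _ x))) = Ideal.span {π}) :
    (a.stalkMap (a.fiberι _ x)).hom π ∈
      IsLocalRing.maximalIdeal (X.presheaf.stalk (a.fiberι _ x)) := by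
  have h1 : π ∈ IsLocalRing.maximalIdeal
      ((Spec (CommRingCat.of R)).presheaf.stalk (a (a.fiberι _ x))) := by
    rw [hπ]; exact Ideal.mem_span_singleton_self π
  exact IsLocalRing.map_maximalIdeal_le (a.stalkMap (a.fiberι _ x)).hom
    (Ideal.mem_map_of_mem _ h1)

include hδη hδs hπ hreg hsupp in
/-- The specialization map computes the length of `M/πM`. -/
theorem spFun_eq (hx : δs x = r)
    (L : ↥(a.fiber (genericPoint ↥(Spec (CommRingCat.of R)))) → ℤ)
    (hL : ∀ (ζ : ↥(a.fiber (genericPoint ↥(Spec (CommRingCat.of R)))))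
      (h : a.fiberι _ ζ ⤳ a.fiberι _ x), δη ζ = r →
      L ζ = ((Module.length (Localization.AtPrime (LocQuot.primeOf h).asIdeal)
        (LocalizedModule (LocQuot.primeOf h).asIdeal.primeCompl M)).toNat : ℤ)) :
    Cyc.spFun a (genericPoint ↥(Spec (CommRingCat.of R))) (IsLocalRing.closedPoint R) δη δs r L x =
      ((Module.length (X.presheaf.stalk (a.fiberι _ x))
        (M ⧸ (a.stalkMap (a.fiberι _ x)).hom π •
          (⊤ : Submodule (X.presheaf.stalk (a.fiberι _ x)) M))).toNat : ℤ) := by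
  have hnoeth : IsLocallyNoetherian X := LocallyOfFiniteType.isLocallyNoetherian a
  rw [SpAlg.length_toNat_eq (stalkMap_mem a π hπ) hreg
    (ringKrullDim_le_one a hδη hδs π hπ hsupp hx)]
  unfold Cyc.spFun
  rw [if_pos hx]
  let e : {ζ : ↥(a.fiber (genericPoint ↥(Spec (CommRingCat.of R)))) //
      δη ζ = r ∧ (a.fiberι _ ζ) ⤳ (a.fiberι _ x)} →
      PrimeSpectrum (X.presheaf.stalk (a.fiberι _ x)) := fun i => LocQuot.primeOf i.2.2
  have he : Function.Injective e := by
    intro i j hij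
    apply Subtype.ext
    exact (a.fiberι _).isEmbedding.injective ((LocQuot.primeOf_inj i.2.2 j.2.2).1 hij)
  have h1 : ∀ i, (L i.1 * ((Module.length (X.presheaf.stalk (a.fiberι _ x))
        (Cyc.LocQuot (a.fiberι _ x) (a.fiberι _ i.1) i.2.2 ⧸
          (IsLocalRing.maximalIdeal ((Spec (CommRingCat.of R)).presheaf.stalk
            (a (a.fiberι _ x)))).map
            ((Ideal.Quotient.mk (RingHom.ker (Cyc.specMap (a.fiberι _ x) (a.fiberι _ i.1)
              i.2.2))).comp (a.stalkMap (a.fiberι _ x)).hom))).toNat : ℤ)) =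
      ((Module.length (Localization.AtPrime (e i).asIdeal)
          (LocalizedModule (e i).asIdeal.primeCompl M)).toNat : ℤ) *
        ((Ring.ord (X.presheaf.stalk (a.fiberι _ x) ⧸ (e i).asIdeal) (Ideal.Quotient.mk _
          ((a.stalkMap (a.fiberι _ x)).hom π))).toNat : ℤ) := by
    intro i
    rw [hL i.1 i.2.2 i.2.1, length_quot_eq_ord _ _ π hπ]
    congr 3
    exact ord_congr (LocQuot.primeOf_asIdeal i.2.2).symm _
  rw [finsum_congr h1]
  rw [← finsum_mem_range (f := fun p : PrimeSpectrum (X.presheaf.stalk (a.fiberι _ x)) =>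
      ((Module.length (Localization.AtPrime p.asIdeal)
          (LocalizedModule p.asIdeal.primeCompl M)).toNat : ℤ) *
        ((Ring.ord (X.presheaf.stalk (a.fiberι _ x) ⧸ p.asIdeal) (Ideal.Quotient.mk _
          ((a.stalkMap (a.fiberι _ x)).hom π))).toNat : ℤ)) he]
  apply finsum_mem_inter_support_eq
  ext p
  simp only [Set.mem_inter_iff, Set.mem_range, Function.mem_support, Set.mem_ofPred_eq]
  refine and_congr_left fun hp0 => ?_
  have hpM : p ∈ Module.support (X.presheaf.stalk (a.fiberι _ x)) M := by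
    rw [Module.mem_support_iff]
    by_contra hcon
    rw [not_nontrivial_iff_subsingleton] at hcon
    apply hp0
    rw [Module.length_eq_zero_iff.2 hcon]
    simp
  constructor
  · rintro ⟨i, rfl⟩
    refine ⟨hpM, ?_⟩
    rw [LocQuot.primeOf_asIdeal, ← LocQuot.ker_refl, Ne, LocQuot.ker_inj]
    exact fiberι_ne a i.1 x
  · rintro ⟨-, hpm⟩
    have hpt : (a.stalkMap (a.fiberι _ x)).hom π ∉ p.asIdeal :=
      SpAlg.notMem_of_ne_maximal hreg (SpAlg.supportDim_le_one hreg
        (ringKrullDim_le_one a hδη hδs π hπ hsupp hx)) p hpM hpm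
    obtain ⟨ζ, h, rfl⟩ := exists_primeOf_eq a x π hπ p hpt
    refine ⟨⟨ζ, le_antisymm (hsupp ζ h hpM) ?_, h⟩, rfl⟩
    rw [← hx]
    exact delta_le a hδη hδs ζ h

end Core

end Groth.Agent.CycB.SpCore
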