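import Groth.Agent.CycB.FiberKer
import Groth.Agent.CycB.FiberStalk
import Groth.Agent.CycB.FlatDiv
import Groth.Agent.CycB.RelDim3
import Groth.Agent.CycB.SpCore
import Groth.Agent.CycB.Push

/-!
# The map on fibres induced by a morphism over a base

For `f : X' ⟶ X`, `b : X ⟶ S`, `y : S` the map `(f ≫ b).fiber y ⟶ b.fiber y`: compatibility with
points, flatness, dimension functions, multiplicities.
-/

set_option autoImplicit false
set_option linter.style.haveILetI false
universe u
open CategoryTheory AlgebraicGeometry CategoryTheory.Limits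

namespace Groth.Agent.CycB.FiberMap

variable {X' X S : Scheme.{u}} (f : X' ⟶ X) (b : X ⟶ S) (y : S)

/-- The map on fibres over `y`. -/
noncomputable abbrev fmap : (f ≫ b).fiber y ⟶ b.fiber y :=
  pullback.map (f ≫ b) (S.fromSpecResidueField y) b (S.fromSpecResidueField y) f (𝟙 _) (𝟙 _)
    (Category.comp_id _) ((Category.comp_id _).trans (Category.id_comp _).symm)

theorem fmap_comp_fiberι : fmap f b y ≫ b.fiberι y = (f ≫ b).fiberι y ≫ f :=
  pullback.lift_fst _ _ _

theorem fmap_comp_toSpec :
    fmap f b y ≫ b.fiberToSpecResidueField y = (f ≫ b).fiberToSpecResidueField y :=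
  (pullback.lift_snd _ _ _).trans (Category.comp_id _)

theorem fiberι_fmap (z : (f ≫ b).fiber y) :
    b.fiberι y (fmap f b y z) = f ((f ≫ b).fiberι y z) := by
  rw [← Scheme.Hom.comp_apply, fmap_comp_fiberι, Scheme.Hom.comp_apply]

theorem isPullback_fmap :
    IsPullback ((f ≫ b).fiberι y) (fmap f b y) f (b.fiberι y) := by
  have h1 : IsPullback (b.fiberι y) (b.fiberToSpecResidueField y) b (S.fromSpecResidueField y) :=
    IsPullback.of_hasPullback _ _
  have h2 : IsPullback ((f ≫ b).fiberι y) ((f ≫ b).fiberToSpecResidueField y) (f ≫ b)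
      (S.fromSpecResidueField y) := IsPullback.of_hasPullback _ _
  rw [← fmap_comp_toSpec] at h2
  exact (IsPullback.of_right h2.flip (fmap_comp_fiberι f b y) h1.flip).flip

instance [Flat f] : Flat (fmap f b y) :=
  MorphismProperty.of_isPullback (P := @Flat) (isPullback_fmap f b y) ‹_›

instance [LocallyOfFiniteType f] : LocallyOfFiniteType (fmap f b y) :=
  MorphismProperty.of_isPullback (P := @LocallyOfFiniteType) (isPullback_fmap f b y) ‹_›

open RelDim in
theorem rtd_fmap (z : (f ≫ b).fiber y) :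
    rtd (fmap f b y) z = rtd f ((f ≫ b).fiberι y z) := by
  have h1 := rtd_comp (fmap f b y) (b.fiberι y) z
  have h2 := rtd_comp ((f ≫ b).fiberι y) f z
  rw [rtd_eq_zero_of_isPreimmersion (b.fiberι y), zero_add] at h1
  rw [rtd_eq_zero_of_isPreimmersion ((f ≫ b).fiberι y), add_zero] at h2
  rw [← h1, ← h2, fmap_comp_fiberι]

section Mult

theorem length_quot_map_of_surjective {A B : Type u} [CommRing A] [CommRing B] (φ : A →+* B)
    (hφ : Function.Surjective φ) (J : Ideal A) (hK : RingHom.ker φ ≤ J) :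
    Module.length A (A ⧸ J) = Module.length B (B ⧸ J.map φ) := by
  have hs : Function.Surjective ((Ideal.Quotient.mk (J.map φ)).comp φ) :=
    Ideal.Quotient.mk_surjective.comp hφ
  rw [FiberStalk.length_quotient_eq ((Ideal.Quotient.mk (J.map φ)).comp φ) hs J,
    ← Module.length_eq_of_surjective (S := B) (R := B ⧸ J.map φ) Ideal.Quotient.mk_surjective]
  rw [← RingHom.comap_ker, Ideal.mk_ker, Ideal.comap_map_of_surjective φ hφ,
    ← RingHom.ker_eq_comap_bot, sup_eq_left]
  exact hK

theorem map_maximalIdeal_congr {Z Y : Scheme.{u}} {g₁ g₂ : Z ⟶ Y} (h : g₁ = g₂) (z : Z) :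
    (IsLocalRing.maximalIdeal (Y.presheaf.stalk (g₁ z))).map (g₁.stalkMap z).hom =
      (IsLocalRing.maximalIdeal (Y.presheaf.stalk (g₂ z))).map (g₂.stalkMap z).hom := by
  subst h; rfl

theorem map_maximalIdeal_comp {Z Y W : Scheme.{u}} (g : Z ⟶ Y) (i : Y ⟶ W) (z : Z) :
    (IsLocalRing.maximalIdeal (W.presheaf.stalk ((g ≫ i) z))).map ((g ≫ i).stalkMap z).hom =
      ((IsLocalRing.maximalIdeal (W.presheaf.stalk (i (g z)))).map (i.stalkMap (g z)).hom).map
        (g.stalkMap z).hom := by
  rw [Scheme.Hom.stalkMap_comp]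
  exact (Ideal.map_map (i.stalkMap (g z)).hom (g.stalkMap z).hom).symm

theorem map_maximalIdeal_of_surjective {A B : Type u} [CommRing A] [CommRing B] [IsLocalRing A]
    [IsLocalRing B] (φ : A →+* B) [IsLocalHom φ] (hφ : Function.Surjective φ) :
    (IsLocalRing.maximalIdeal A).map φ = IsLocalRing.maximalIdeal B := by
  refine le_antisymm (((IsLocalRing.local_hom_TFAE φ).out 0 2 rfl rfl).mp inferInstance) ?_
  intro x hx
  obtain ⟨a, rfl⟩ := hφ x
  refine Ideal.mem_map_of_mem _ ?_
  rw [IsLocalRing.mem_maximalIdeal, mem_nonunits_iff] at hx ⊢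
  exact fun h => hx (h.map φ)

/-- The multiplicity of the map on fibres is the multiplicity of the map. -/
theorem mult_fmap (z : (f ≫ b).fiber y) :
    FlatDiv.mult (fmap f b y) z = FlatDiv.mult f ((f ≫ b).fiberι y z) := by
  unfold FlatDiv.mult
  have h1 : (IsLocalRing.maximalIdeal ((b.fiber y).presheaf.stalk (fmap f b y z))).map
      ((fmap f b y).stalkMap z).hom =
      ((IsLocalRing.maximalIdeal (X.presheaf.stalk (f ((f ≫ b).fiberι y z)))).map
        (f.stalkMap ((f ≫ b).fiberι y z)).hom).map (((f ≫ b).fiberι y).stalkMap z).hom := by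
    rw [← map_maximalIdeal_comp, ← map_maximalIdeal_congr (fmap_comp_fiberι f b y) z,
      map_maximalIdeal_comp, map_maximalIdeal_of_surjective (A := X.presheaf.stalk _)
        ((b.fiberι y).stalkMap (fmap f b y z)).hom
        ((b.fiberι y).stalkMap_surjective (fmap f b y z))]
  rw [h1]
  refine (length_quot_map_of_surjective _ (((f ≫ b).fiberι y).stalkMap_surjective z) _ ?_).symm
  rw [FiberKer.ker_stalkMap_fiberι (f ≫ b) y z, map_maximalIdeal_comp]
  refine Ideal.map_mono ?_
  exact FiberKer.map_maximalIdeal_le b _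

end Mult

end Groth.Agent.CycB.FiberMap
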