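import Groth.Agent.CycB.DivFun
import Groth.Agent.CycB.DivNat

/-!
# Finite sums of principal divisors, and schemes all of whose non-generic points are trivial
-/

set_option autoImplicit false
universe u v

open AlgebraicGeometry CategoryTheory TopologicalSpace

namespace Groth.Agent.CycB.FinRat

open DivFun

variable {X : Scheme.{u}}

/-- The group of finite sums of principal divisors of `(k+1)`-dimensional points. -/
def finRat (δ : X → ℤ) (k : ℤ) : AddSubgroup (X → ℤ) :=
  AddSubgroup.closure {c | ∃ (ξ : X) (g : X.residueField ξ), δ ξ = k + 1 ∧ g ≠ 0 ∧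
    c = Cyc.divFun δ ξ g}

theorem divFun_mem (δ : X → ℤ) {k : ℤ} {ξ : X} (hξ : δ ξ = k + 1) {g : X.residueField ξ}
    (hg : g ≠ 0) : Cyc.divFun δ ξ g ∈ finRat δ k :=
  AddSubgroup.subset_closure ⟨ξ, g, hξ, hg, rfl⟩

/-- A function is a finite sum of principal divisors iff it is the sum of a finite family. -/
theorem mem_finRat_iff (δ : X → ℤ) (k : ℤ) (c : X → ℤ) :
    c ∈ finRat δ k ↔ ∃ (ι : Type u) (_ : Finite ι) (ξ : ι → X)
      (g : (i : ι) → X.residueField (ξ i)), (∀ i, δ (ξ i) = k + 1) ∧ (∀ i, g i ≠ 0) ∧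
      ∀ x, c x = ∑ᶠ i, Cyc.divFun δ (ξ i) (g i) x := by
  constructor
  · intro hc
    induction hc using AddSubgroup.closure_induction with
    | mem c hc =>
      obtain ⟨ξ, g, h1, h2, rfl⟩ := hc
      exact ⟨PUnit, inferInstance, fun _ => ξ, fun _ => g, fun _ => h1, fun _ => h2, fun x => by
        rw [finsum_unique]⟩
    | zero =>
      exact ⟨PEmpty, inferInstance, fun i => i.elim, fun i => i.elim, fun i => i.elim,
        fun i => i.elim, fun x => by rw [finsum_of_isEmpty]; rfl⟩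
    | add a b _ _ ha hb =>
      obtain ⟨ι, hι, ξ, g, h1, h2, h3⟩ := ha
      obtain ⟨κ, hκ, ζ, h, h1', h2', h3'⟩ := hb
      refine ⟨ι ⊕ κ, inferInstance, Sum.elim ξ ζ, fun i => match i with
        | .inl i => g i
        | .inr i => h i, ?_, ?_, ?_⟩
      · rintro (i | i)
        · exact h1 i
        · exact h1' i
      · rintro (i | i)
        · exact h2 i
        · exact h2' i
      · intro x
        have := Fintype.ofFinite ι
        have := Fintype.ofFinite κ
        rw [Pi.add_apply, h3, h3', finsum_eq_sum_of_fintype, finsum_eq_sum_of_fintype,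
          finsum_eq_sum_of_fintype, Fintype.sum_sum_type]
        rfl
    | neg a _ ha =>
      obtain ⟨ι, hι, ξ, g, h1, h2, h3⟩ := ha
      refine ⟨ι, hι, ξ, fun i => (g i)⁻¹, h1, fun i => inv_ne_zero (h2 i), fun x => ?_⟩
      rw [Pi.neg_apply, h3, ← finsum_neg_distrib]
      refine finsum_congr fun i => ?_
      rw [OrdFrac.divFun_inv]
      rfl
  · rintro ⟨ι, hι, ξ, g, h1, h2, h3⟩
    have := Fintype.ofFinite ι
    have h4 : c = ∑ i, Cyc.divFun δ (ξ i) (g i) := by
      funext x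
      rw [h3, finsum_eq_sum_of_fintype, Finset.sum_apply]
    rw [h4]
    exact AddSubgroup.sum_mem _ fun i _ => divFun_mem δ (h1 i) (h2 i)

/-- The indicator function of a point. -/
noncomputable def pt (w : X) : X → ℤ := fun x => by classical exact if x = w then 1 else 0

@[simp] theorem pt_self (w : X) : pt w w = 1 := by simp [pt]

theorem pt_of_ne {w x : X} (h : x ≠ w) : pt w x = 0 := by simp [pt, h]

/-- every non-generic point is a finite sum of principal divisors. -/
def RT (X : Scheme.{u}) : Prop :=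
  ∀ δ : X → ℤ, Cyc.IsDimFun X δ → ∀ w : X, (∃ w' : X, w' ⤳ w ∧ w' ≠ w) → pt w ∈ finRat δ (δ w)

section Imm

variable {F : Scheme.{u}} (i : F ⟶ X) [IsPreimmersion i]

/-- restriction of a dimension function to a convex preimmersion -/
theorem isDimFun_comp {δ : X → ℤ} (hδ : Cyc.IsDimFun X δ)
    (hconv : ∀ (x y : F) (z : X), i x ⤳ z → z ⤳ i y → z ∈ Set.range i) :
    Cyc.IsDimFun F (fun z => δ (i z)) := by
  intro x y hxy hne
  have h1 : i x ⤳ i y := hxy.map i.continuous
  have h2 : i x ≠ i y := fun h => hne (i.isEmbedding.injective h)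
  refine ⟨(hδ _ _ h1 h2).1, fun him => (hδ _ _ h1 h2).2 fun z hz hz' => ?_⟩
  obtain ⟨z, rfl⟩ := hconv x y z hz hz'
  rcases him z ((DivNat.specializes_iff i z x).1 hz) ((DivNat.specializes_iff i y z).1 hz') with
    rfl | rfl
  · exact Or.inl rfl
  · exact Or.inr rfl

theorem exists_family_of_mem (δ : X → ℤ) {k : ℤ} {c : F → ℤ}
    (hc : c ∈ finRat (fun z => δ (i z)) k) :
    ∃ (ι : Type u) (_ : Finite ι) (ξ : ι → F) (g : (j : ι) → X.residueField (i (ξ j))),
      (∀ j, δ (i (ξ j)) = k + 1) ∧ (∀ j, g j ≠ 0) ∧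
      ∀ x, ∑ᶠ j, Cyc.divFun δ (i (ξ j)) (g j) (i x) = c x := by
  obtain ⟨ι, hι, ξ, g, h1, h2, h3⟩ := (mem_finRat_iff _ _ _).1 hc
  refine ⟨ι, hι, ξ, fun j => (DivNat.resEquiv i (ξ j)).symm (g j), h1, fun j h0 => h2 j ?_, ?_⟩
  · exact (map_eq_zero_iff _ (DivNat.resEquiv i (ξ j)).symm.injective).1 h0
  · intro x
    rw [h3]
    refine finsum_congr fun j => ?_
    rw [DivNat.divFun_eq_divFun_resEquiv_symm i δ (ξ j) x (g j)]

end Imm

theorem RT.of_iso {F : Scheme.{u}} (e : F ≅ X) (hF : RT F) : RT X := by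
  intro δ hδ w hw
  have hsurj : Function.Surjective e.hom := e.hom.surjective
  have hδ' := isDimFun_comp e.hom hδ (fun x y z _ _ => hsurj z)
  obtain ⟨w, rfl⟩ := hsurj w
  obtain ⟨w', hw', hne⟩ := hw
  obtain ⟨w', rfl⟩ := hsurj w'
  have h1 := hF _ hδ' w ⟨w', (DivNat.specializes_iff e.hom w w').1 hw', fun h => hne (by rw [h])⟩
  obtain ⟨ι, hι, ξ, g, h2, h3, h4⟩ := exists_family_of_mem e.hom δ h1
  rw [mem_finRat_iff]
  refine ⟨ι, hι, fun j => e.hom (ξ j), g, h2, h3, fun x => ?_⟩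
  obtain ⟨x, rfl⟩ := hsurj x
  rw [h4]
  by_cases h : x = w
  · subst h; simp
  · rw [pt_of_ne h, pt_of_ne fun h' => h (e.hom.isEmbedding.injective h')]

end Groth.Agent.CycB.FinRat
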