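import Groth.Agent.CycB.LenSum
import Mathlib.RingTheory.Ideal.KrullsHeightTheorem
import Mathlib.RingTheory.Flat.Localization
import Mathlib.RingTheory.Flat.Basic
import Mathlib.RingTheory.Localization.Algebra

/-!
# Flat local homomorphisms with zero dimensional closed fibre and order of vanishing

`A → B` a flat local homomorphism of Noetherian local rings, `A` a domain of dimension at most one
and `B/𝔪_A B` of dimension zero. Then for `a ≠ 0` in `A`
`ord_A(a) · ℓ(B/𝔪_A B) = ord_B(a) = ∑_q ℓ(B_q) ord_{B/q}(a)`.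
-/

universe u v w

namespace Groth.Agent.CycB.FlatAlg

open Module IsLocalRing LenSum

section Domain

variable (A : Type u) (B : Type u) [CommRing A] [CommRing B] [IsLocalRing A] [IsLocalRing B]
  [Algebra A B] [IsLocalHom (algebraMap A B)]

theorem krullDimLE_one [IsNoetherianRing B] [IsNoetherianRing A] [Ring.KrullDimLE 1 A]
    (hfib : ∀ Q : Ideal B, Q.IsPrime → (maximalIdeal A).map (algebraMap A B) ≤ Q →
      Q = maximalIdeal B) : Ring.KrullDimLE 1 B := by
  have hlies : (maximalIdeal B).LiesOver (maximalIdeal A) :=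
    ⟨(((local_hom_TFAE (algebraMap A B)).out 0 4 rfl rfl).mp inferInstance).symm⟩
  have h := Ideal.height_le_height_add_of_liesOver (maximalIdeal A) (maximalIdeal B)
  have h0 : ((maximalIdeal B).map
      (Ideal.Quotient.mk ((maximalIdeal A).map (algebraMap A B)))).height = 0 := by
    have hle : (maximalIdeal A).map (algebraMap A B) ≤ maximalIdeal B :=
      ((local_hom_TFAE (algebraMap A B)).out 0 2 rfl rfl).mp inferInstance
    have hmax : ((maximalIdeal B).map
      (Ideal.Quotient.mk ((maximalIdeal A).map (algebraMap A B)))).IsPrime := by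
      refine Ideal.map_isPrime_of_surjective Ideal.Quotient.mk_surjective ?_
      rw [Ideal.mk_ker]; exact hle
    rw [Ideal.height_eq_zero_iff]
    refine ⟨⟨hmax, bot_le⟩, ?_⟩
    rintro Q ⟨hQ, -⟩ hQle
    have h1 : (Q.comap (Ideal.Quotient.mk ((maximalIdeal A).map (algebraMap A B)))).IsPrime :=
      Ideal.IsPrime.comap _
    have h2 := hfib _ h1 (by
      intro x hx
      rw [Ideal.mem_comap, Ideal.Quotient.eq_zero_iff_mem.2 hx]
      exact Q.zero_mem)
    rw [← h2, Ideal.map_comap_of_surjective _ Ideal.Quotient.mk_surjective]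
  rw [h0, add_zero] at h
  have h1 : (maximalIdeal A).height ≤ 1 := by
    have := (Ring.krullDimLE_iff (n := 1) (R := A)).1 inferInstance
    rw [← maximalIdeal_height_eq_ringKrullDim] at this
    exact_mod_cast this
  rw [Ring.krullDimLE_iff, ← maximalIdeal_height_eq_ringKrullDim]
  exact_mod_cast h.trans h1

variable [Module.Flat A B]

omit [IsLocalRing A] [IsLocalRing B] [IsLocalHom (algebraMap A B)] in
theorem algebraMap_mem_nonZeroDivisors [IsDomain A] {a : A} (ha : a ≠ 0) :
    algebraMap A B a ∈ nonZeroDivisors B := by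
  have h1 : IsSMulRegular A a := (IsRegular.of_ne_zero ha).left.isSMulRegular
  have h2 : IsSMulRegular B (algebraMap A B a) := IsSMulRegular.of_flat h1
  rw [mem_nonZeroDivisors_iff_right]
  intro z hz
  apply h2
  simp only [smul_eq_mul, mul_zero]
  rw [mul_comm]; exact hz

theorem ord_mul_length (a : A) :
    Ring.ord A a * length B (B ⧸ (maximalIdeal A).map (algebraMap A B)) =
      Ring.ord B (algebraMap A B a) := by
  unfold Ring.ord
  rw [← length_baseChange A B (A ⧸ Ideal.span {a})]
  have e := (Algebra.TensorProduct.quotIdealMapEquivTensorQuot B (Ideal.span {a})).toLinearEquiv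
  rw [← e.length_eq, Ideal.map_span, Set.image_singleton]

theorem ord_mul_length_eq_finsum [IsNoetherianRing B] [IsNoetherianRing A] [IsDomain A]
    [Ring.KrullDimLE 1 A]
    (hfib : ∀ Q : Ideal B, Q.IsPrime → (maximalIdeal A).map (algebraMap A B) ≤ Q →
      Q = maximalIdeal B) {a : A} (ha : a ≠ 0) :
    Ring.ord A a * length B (B ⧸ (maximalIdeal A).map (algebraMap A B)) =
      ∑ᶠ q : NMin B, locLen q.1.asIdeal B *
        Ring.ord (B ⧸ q.1.asIdeal) (Ideal.Quotient.mk _ (algebraMap A B a)) := by
  have := krullDimLE_one A B hfib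
  rw [ord_mul_length, ord_eq_finsum _ (algebraMap_mem_nonZeroDivisors A B ha)]

omit [IsLocalRing A] [IsLocalRing B] [IsLocalHom (algebraMap A B)] in
/-- minimal primes of a flat algebra over a domain lie over zero. -/
theorem comap_eq_bot_of_mem_minimalPrimes [IsDomain A] {q : Ideal B} (hq : q ∈ minimalPrimes B) :
    q.comap (algebraMap A B) = ⊥ := by
  rw [eq_bot_iff]
  intro a ha
  by_contra h0
  exact notMem_nonZeroDivisors_of_mem_mem_minimalPrimes (x := algebraMap A B a) ha hq
    (algebraMap_mem_nonZeroDivisors A B h0)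

end Domain

section Loc

/-- the localized length of `B/I` at a prime computed on the localization of `B`. -/
theorem locLen_quotient {B : Type u} [CommRing B] (I : Ideal B) (q : Ideal (B ⧸ I)) [q.IsPrime]
    (Q : Ideal B) [Q.IsPrime] (hQ : Q = q.comap (Ideal.Quotient.mk I))
    (Bq : Type v) [CommRing Bq] [Algebra B Bq] [IsLocalization.AtPrime Bq Q] :
    locLen q (B ⧸ I) = length Bq (Bq ⧸ I.map (algebraMap B Bq)) := by
  subst hQ
  have hT : Submonoid.map (Ideal.Quotient.mk I) (q.comap (Ideal.Quotient.mk I)).primeCompl =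
      q.primeCompl := by
    ext x
    constructor
    · rintro ⟨y, hy, rfl⟩
      exact hy
    · intro hx
      obtain ⟨y, rfl⟩ := Ideal.Quotient.mk_surjective x
      exact ⟨y, hx, rfl⟩
  have hle : (q.comap (Ideal.Quotient.mk I)).primeCompl ≤
      q.primeCompl.comap (Ideal.Quotient.mk I) := hT.symm ▸ Submonoid.le_comap_map _
  let φ : Bq →+* Localization.AtPrime q :=
    IsLocalization.map (M := (q.comap (Ideal.Quotient.mk I)).primeCompl) (T := q.primeCompl)
      (Localization.AtPrime q) (Ideal.Quotient.mk I) hle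
  have hker : RingHom.ker φ = I.map (algebraMap B Bq) := by
    have := IsLocalization.ker_map (S := Bq) (Localization.AtPrime q) (Ideal.Quotient.mk I) hT
    rw [Ideal.mk_ker] at this
    exact this
  have hsurj : Function.Surjective φ := by
    intro z
    obtain ⟨x, s, rfl⟩ := IsLocalization.exists_mk'_eq q.primeCompl z
    obtain ⟨x, rfl⟩ := Ideal.Quotient.mk_surjective x
    obtain ⟨s, hs⟩ := s
    obtain ⟨s, rfl⟩ := Ideal.Quotient.mk_surjective s
    refine ⟨IsLocalization.mk' Bq x (⟨s, hs⟩ : (q.comap (Ideal.Quotient.mk I)).primeCompl), ?_⟩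
    exact IsLocalization.map_mk' hle x _
  have h1 : locLen q (B ⧸ I) = length (Localization.AtPrime q) (Localization.AtPrime q) := by
    have e : LocalizedModule q.primeCompl (B ⧸ I) ≃ₗ[Localization.AtPrime q]
        Localization.AtPrime q :=
      LinearEquiv.extendScalarsOfIsLocalization q.primeCompl (Localization.AtPrime q)
        (IsLocalizedModule.iso q.primeCompl
          (Algebra.linearMap (B ⧸ I) (Localization.AtPrime q)))
    exact e.length_eq
  rw [h1]
  algebraize [φ]
  have e : (Bq ⧸ I.map (algebraMap B Bq)) ≃ₗ[Bq] Localization.AtPrime q :=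
    (Submodule.quotEquivOfEq _ _ (by
      ext a
      rw [← hker, RingHom.mem_ker, LinearMap.mem_ker]
      rfl)).trans
      ((Algebra.linearMap Bq (Localization.AtPrime q)).quotKerEquivOfSurjective hsurj)
  rw [e.length_eq]
  exact (Module.length_eq_of_surjective (R := Localization.AtPrime q) (S := Bq)
    (M := Localization.AtPrime q) hsurj).symm

/-- orders of vanishing on a double quotient -/
theorem ord_double_quotient {B : Type u} [CommRing B] (I : Ideal B) (q : Ideal (B ⧸ I))
    (Q : Ideal B) (hQ : Q = q.comap (Ideal.Quotient.mk I)) (b : B) :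
    Ring.ord ((B ⧸ I) ⧸ q) (Ideal.Quotient.mk q (Ideal.Quotient.mk I b)) =
      Ring.ord (B ⧸ Q) (Ideal.Quotient.mk Q b) := by
  rw [← length_quot_sup_eq_ord, ← length_quot_sup_eq_ord]
  have hsurj : Function.Surjective (Ideal.Quotient.mk I) := Ideal.Quotient.mk_surjective
  rw [← Module.length_eq_of_surjective (S := B) (R := B ⧸ I) hsurj]
  have hle : I ≤ Q := by
    rw [hQ]
    intro x hx
    rw [Ideal.mem_comap, Ideal.Quotient.eq_zero_iff_mem.2 hx]
    exact q.zero_mem
  have h1 : (q ⊔ Ideal.span {Ideal.Quotient.mk I b} : Ideal (B ⧸ I)) =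
      (Q ⊔ Ideal.span {b}).map (Ideal.Quotient.mk I) := by
    rw [Ideal.map_sup, hQ, Ideal.map_comap_of_surjective _ hsurj, Ideal.map_span,
      Set.image_singleton]
  rw [h1]
  exact (DoubleQuot.quotQuotEquivQuotOfLEₐ B (hle.trans le_sup_left)).toLinearEquiv.length_eq

end Loc

section Relative

variable {A B : Type u} [CommRing A] [CommRing B] [IsLocalRing A] [IsLocalRing B]
  [Algebra A B] [IsLocalHom (algebraMap A B)]

omit [IsLocalRing A] [IsLocalRing B] [IsLocalHom (algebraMap A B)] in
theorem flat_quotient [Module.Flat A B] (P : Ideal A) : Module.Flat (A ⧸ P) (B ⧸ P.map (algebraMap A B)) :=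
  Module.Flat.of_linearEquiv
    (Algebra.TensorProduct.quotIdealMapEquivQuotTensor B P).toLinearEquiv

theorem map_le_maximalIdeal (P : Ideal A) [P.IsPrime] :
    P.map (algebraMap A B) ≤ maximalIdeal B :=
  (Ideal.map_mono (le_maximalIdeal (Ideal.IsPrime.ne_top ‹_›))).trans
    (((local_hom_TFAE (algebraMap A B)).out 0 2 rfl rfl).mp inferInstance)

theorem isLocalRing_quotient (P : Ideal A) [P.IsPrime] :
    IsLocalRing (B ⧸ P.map (algebraMap A B)) :=
  have : Nontrivial (B ⧸ P.map (algebraMap A B)) := Ideal.Quotient.nontrivial_iff.2 fun h =>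
    (maximalIdeal.isMaximal B).ne_top (top_le_iff.1 (h ▸ map_le_maximalIdeal P))
  .of_surjective' (Ideal.Quotient.mk _) Ideal.Quotient.mk_surjective

theorem isLocalRing_quotient' (P : Ideal A) [P.IsPrime] : IsLocalRing (A ⧸ P) :=
  .of_surjective' (Ideal.Quotient.mk _) Ideal.Quotient.mk_surjective

theorem map_mk_maximalIdeal (P : Ideal A) [P.IsPrime] [IsLocalRing (A ⧸ P)] :
    (maximalIdeal A).map (Ideal.Quotient.mk P) = maximalIdeal (A ⧸ P) := by
  have := Ideal.map_eq_top_or_isMaximal_of_surjective (Ideal.Quotient.mk P)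
    Ideal.Quotient.mk_surjective (maximalIdeal.isMaximal A)
  refine eq_maximalIdeal (this.resolve_left fun h => ?_)
  have h4 := congrArg (Ideal.comap (Ideal.Quotient.mk P)) h
  rw [Ideal.comap_map_of_surjective _ Ideal.Quotient.mk_surjective, Ideal.comap_top] at h4
  have h5 : Ideal.comap (Ideal.Quotient.mk P) ⊥ = P := by
    rw [← RingHom.ker_eq_comap_bot, Ideal.mk_ker]
  rw [h5, sup_eq_left.2 (le_maximalIdeal (Ideal.IsPrime.ne_top ‹_›))] at h4
  exact (maximalIdeal.isMaximal A).ne_top h4

theorem map_maximalIdeal_rel (P : Ideal A) [P.IsPrime] [IsLocalRing (A ⧸ P)] :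
    (maximalIdeal (A ⧸ P)).map (algebraMap (A ⧸ P) (B ⧸ P.map (algebraMap A B))) =
      ((maximalIdeal A).map (algebraMap A B)).map
        (Ideal.Quotient.mk (P.map (algebraMap A B))) := by
  have hcomp : (algebraMap (A ⧸ P) (B ⧸ P.map (algebraMap A B))).comp (Ideal.Quotient.mk P) =
      (Ideal.Quotient.mk (P.map (algebraMap A B))).comp (algebraMap A B) := rfl
  rw [← map_mk_maximalIdeal, Ideal.map_map, hcomp, ← Ideal.map_map]

theorem isLocalHom_rel (P : Ideal A) [P.IsPrime] [IsLocalRing (A ⧸ P)]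
    [IsLocalRing (B ⧸ P.map (algebraMap A B))] :
    IsLocalHom (algebraMap (A ⧸ P) (B ⧸ P.map (algebraMap A B))) := by
  refine ((local_hom_TFAE _).out 0 2 rfl rfl).mpr ?_
  rw [map_maximalIdeal_rel]
  have h6 : IsLocalHom (Ideal.Quotient.mk (P.map (algebraMap A B))) :=
    IsLocalHom.of_surjective _ Ideal.Quotient.mk_surjective
  refine (Ideal.map_mono (((local_hom_TFAE (algebraMap A B)).out 0 2 rfl rfl).mp
    inferInstance)).trans ?_
  exact ((local_hom_TFAE (Ideal.Quotient.mk (P.map (algebraMap A B)))).out 0 2 rfl rfl).mp h6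

theorem fib_rel (P : Ideal A) [P.IsPrime] [IsLocalRing (A ⧸ P)]
    [IsLocalRing (B ⧸ P.map (algebraMap A B))]
    (hfib : ∀ Q : Ideal B, Q.IsPrime → (maximalIdeal A).map (algebraMap A B) ≤ Q →
      Q = maximalIdeal B) (Q : Ideal (B ⧸ P.map (algebraMap A B))) (hQ : Q.IsPrime)
    (hle : (maximalIdeal (A ⧸ P)).map (algebraMap (A ⧸ P) (B ⧸ P.map (algebraMap A B))) ≤ Q) :
    Q = maximalIdeal (B ⧸ P.map (algebraMap A B)) := by
  have h7 : (Q.comap (Ideal.Quotient.mk (P.map (algebraMap A B)))).IsPrime :=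
    Ideal.IsPrime.comap _
  have h8 := hfib _ h7 (by
    rw [map_maximalIdeal_rel] at hle
    exact Ideal.map_le_iff_le_comap.1 hle)
  have h9 : Q.comap (Ideal.Quotient.mk (P.map (algebraMap A B))) =
    (maximalIdeal (B ⧸ P.map (algebraMap A B))).comap
      (Ideal.Quotient.mk (P.map (algebraMap A B))) := by
    rw [h8]
    have h6 : IsLocalHom (Ideal.Quotient.mk (P.map (algebraMap A B))) :=
      IsLocalHom.of_surjective _ Ideal.Quotient.mk_surjective
    exact (((local_hom_TFAE (Ideal.Quotient.mk (P.map (algebraMap A B)))).out 0 4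
      rfl rfl).mp h6).symm
  exact Ideal.comap_injective_of_surjective _ Ideal.Quotient.mk_surjective h9

theorem krullDimLE_one_rel [IsNoetherianRing A] [IsNoetherianRing B] (P : Ideal A)
    [P.IsPrime] [Ring.KrullDimLE 1 (A ⧸ P)]
    (hfib : ∀ Q : Ideal B, Q.IsPrime → (maximalIdeal A).map (algebraMap A B) ≤ Q →
      Q = maximalIdeal B) : Ring.KrullDimLE 1 (B ⧸ P.map (algebraMap A B)) := by
  have h2 := isLocalRing_quotient (B := B) P
  have h3 := isLocalRing_quotient' P
  have := isLocalHom_rel (B := B) P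
  exact krullDimLE_one (A ⧸ P) (B ⧸ P.map (algebraMap A B)) (fib_rel P hfib)

/-- The relative version of the multiplicity formula. -/
theorem ord_mul_length_eq_finsum_rel [Module.Flat A B] [IsNoetherianRing A] [IsNoetherianRing B] (P : Ideal A)
    [P.IsPrime] [Ring.KrullDimLE 1 (A ⧸ P)]
    (hfib : ∀ Q : Ideal B, Q.IsPrime → (maximalIdeal A).map (algebraMap A B) ≤ Q →
      Q = maximalIdeal B) {a : A} (ha : a ∉ P) :
    Ring.ord (A ⧸ P) (Ideal.Quotient.mk P a) *
        length B (B ⧸ (maximalIdeal A).map (algebraMap A B)) =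
      ∑ᶠ q : NMin (B ⧸ P.map (algebraMap A B)),
        locLen q.1.asIdeal (B ⧸ P.map (algebraMap A B)) *
        Ring.ord ((B ⧸ P.map (algebraMap A B)) ⧸ q.1.asIdeal)
          (Ideal.Quotient.mk _ (Ideal.Quotient.mk _ (algebraMap A B a))) := by
  have h1 := flat_quotient (B := B) P
  have h2 := isLocalRing_quotient (B := B) P
  have h3 := isLocalRing_quotient' P
  have := isLocalHom_rel (B := B) P
  have key := ord_mul_length_eq_finsum (A ⧸ P) (B ⧸ P.map (algebraMap A B)) (fib_rel P hfib)
    (a := Ideal.Quotient.mk P a) (fun h => ha (Ideal.Quotient.eq_zero_iff_mem.1 h))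
  have hlen : length (B ⧸ P.map (algebraMap A B)) ((B ⧸ P.map (algebraMap A B)) ⧸
      (maximalIdeal (A ⧸ P)).map (algebraMap (A ⧸ P) (B ⧸ P.map (algebraMap A B)))) =
      length B (B ⧸ (maximalIdeal A).map (algebraMap A B)) := by
    rw [map_maximalIdeal_rel, ← Module.length_eq_of_surjective (S := B) (R := B ⧸ P.map (algebraMap A B))
      Ideal.Quotient.mk_surjective]
    exact (DoubleQuot.quotQuotEquivQuotOfLEₐ B (Ideal.map_mono
      (le_maximalIdeal (Ideal.IsPrime.ne_top ‹P.IsPrime›)))).toLinearEquiv.length_eq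
  rw [hlen] at key
  exact key

end Relative

end Groth.Agent.CycB.FlatAlg
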