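import Groth.Agent.CycB.FlatDiv
import Groth.Agent.CycB.RelDim3
import Groth.Agent.CycB.DivFun
import Mathlib.AlgebraicGeometry.FunctionField

/-!
# Flat pullback of principal divisors: relative dimension and integral versions
-/

set_option autoImplicit false
universe u

open AlgebraicGeometry CategoryTheory TopologicalSpace

namespace Groth.Agent.CycB.FlatDiv

variable {X Y : Scheme.{u}} (f : X ⟶ Y)

theorem delta_of_fibGen [LocallyOfFiniteType f] {r : ℕ}
    (hr : Cyc.HasRelDim f r) {δX : X → ℤ} {δY : Y → ℤ} (hδ : Cyc.DeltaCompat f δX δY) (x : X)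
    (hx : FibGen f x) : δX x = δY (f x) + r :=
  (Groth.Agent.CycB.RelDim.fibGeneric_iff_delta hr hδ x).mp hx

theorem maximalIdeal_eq_bot_of_eq_genericPoint [IsIntegral Y] {y : Y} (h : y = genericPoint Y) :
    IsLocalRing.maximalIdeal (Y.presheaf.stalk y) = ⊥ := by
  subst h
  exact IsLocalRing.isField_iff_maximalIdeal_eq.1
    (Field.toIsField (Y.functionField))

theorem mult_of_eq_genericPoint [IsIntegral Y] (x : X) (h : f x = genericPoint Y) :
    mult f x = Module.length (X.presheaf.stalk x) (X.presheaf.stalk x) := by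
  rw [mult, maximalIdeal_eq_bot_of_eq_genericPoint h, Ideal.map_bot]
  exact (AlgEquiv.quotientBot (X.presheaf.stalk x) (X.presheaf.stalk x)).toLinearEquiv.length_eq

theorem eq_genericPoint_of_specializes [IsIntegral Y] {y : Y} (h : y ⤳ genericPoint Y) :
    y = genericPoint Y :=
  (h.antisymm (genericPoint_specializes y)).eq

theorem eq_of_specializes_of_fibGen [IsIntegral Y] {ξ : X} (hξ : f ξ = genericPoint Y)
    (hgen : FibGen f ξ) {x' : X} (hx' : x' ⤳ ξ) : x' = ξ := by
  refine hgen x' ?_ hx'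
  rw [hξ]
  refine eq_genericPoint_of_specializes ?_
  rw [← hξ]
  exact hx'.map f.continuous

/-- S1907 -/
theorem pullFun_divFun_eq_sum_components [IsIntegral Y] (δX : X → ℤ) (δY : Y → ℤ)
    (hX : Cyc.IsSetup X δX) (hY : Cyc.IsSetup Y δY) [Flat f] [LocallyOfFiniteType f] (r : ℕ)
    (hr : Cyc.HasRelDim f r) (hδ : Cyc.DeltaCompat f δX δY)
    (g : Y.residueField (genericPoint Y)) (hg : g ≠ 0) (x : X) :
    Cyc.pullFun f δX δY r (Cyc.divFun δY (genericPoint Y) g) x =
      ∑ᶠ ξ : {ξ : X // (∀ x' : X, x' ⤳ ξ → x' = ξ) ∧ f ξ = genericPoint Y},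
        ((Module.length (X.presheaf.stalk ξ.1) (X.presheaf.stalk ξ.1)).toNat : ℤ) *
          Cyc.divFun δX ξ.1 (f.residueFieldMap ξ.1 ((Y.residueFieldCongr ξ.2.2.symm).hom g)) x := by
  have h1 := hX.1
  have h2 := hY.1
  have hc : ∀ x' : X, FibGen f x' → δX x' = δY (f x') + (r : ℤ) := delta_of_fibGen f hr hδ
  rw [pullFun_divFun f r hY.2.2 hX.2.2 hc (genericPoint Y) g hg x]
  refine finsum_eq_of_bijective (fun ξ' : AllGenPts f (genericPoint Y) =>
    (⟨ξ'.1, fun x' => eq_of_specializes_of_fibGen f ξ'.2.1 ξ'.2.2, ξ'.2.1⟩ :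
      {ξ : X // (∀ x' : X, x' ⤳ ξ → x' = ξ) ∧ f ξ = genericPoint Y})) ⟨?_, ?_⟩ ?_
  · intro a b hab
    exact Subtype.ext (congrArg (fun z : {ξ : X // (∀ x' : X, x' ⤳ ξ → x' = ξ) ∧
      f ξ = genericPoint Y} => z.1) hab)
  · rintro ⟨ξ, h3, h4⟩
    exact ⟨⟨ξ, h4, fun y _ hy => h3 y hy⟩, rfl⟩
  · intro ξ
    rw [mult_of_eq_genericPoint f ξ.1 ξ.2.1]
    rfl

/-- S1905 -/
theorem pullFun_divFun_eq_divFun [IsIntegral X] [IsIntegral Y] (δX : X → ℤ) (δY : Y → ℤ)
    (hX : Cyc.IsSetup X δX) (hY : Cyc.IsSetup Y δY) [Flat f] [LocallyOfFiniteType f] (r : ℕ)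
    (hr : Cyc.HasRelDim f r) (hδ : Cyc.DeltaCompat f δX δY)
    (g : Y.residueField (f (genericPoint X))) (hg : g ≠ 0) :
    Cyc.pullFun f δX δY r (Cyc.divFun δY (f (genericPoint X)) g) =
      Cyc.divFun δX (genericPoint X) (f.residueFieldMap (genericPoint X) g) := by
  have h1 := hX.1
  have h2 := hY.1
  have hc : ∀ x' : X, FibGen f x' → δX x' = δY (f x') + (r : ℤ) := delta_of_fibGen f hr hδ
  have hgX : FibGen f (genericPoint X) := fun y _ hy =>
    (hy.antisymm (genericPoint_specializes y)).eq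
  have hdom : f (genericPoint X) = genericPoint Y := by
    obtain ⟨x', h3, h4⟩ := Groth.Agent.CycB.RelDim.exists_specializes_of_flat f
      (genericPoint_specializes (f (genericPoint X)))
    rw [(h3.antisymm (genericPoint_specializes x')).eq] at h4
    exact h4
  funext x
  rw [pullFun_divFun f r hY.2.2 hX.2.2 hc (f (genericPoint X)) g hg x]
  have huniq : ∀ ξ : AllGenPts f (f (genericPoint X)), ξ = ⟨genericPoint X, rfl, hgX⟩ := by
    rintro ⟨ξ, h3, h4⟩
    exact Subtype.ext (h4 (genericPoint X) h3.symm (genericPoint_specializes ξ)).symm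
  rw [finsum_eq_single _ (⟨genericPoint X, rfl, hgX⟩ : AllGenPts f (f (genericPoint X)))
    (fun ξ hξ => absurd (huniq ξ) hξ)]
  have hm : mult f (genericPoint X) = 1 := by
    rw [mult_of_eq_genericPoint f _ hdom]
    have hF : IsField (X.presheaf.stalk (genericPoint X)) := Field.toIsField (X.functionField)
    have : IsSimpleModule (X.presheaf.stalk (genericPoint X))
        (X.presheaf.stalk (genericPoint X)) := by
      let := hF.toField
      infer_instance
    exact Module.length_eq_one _ _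
  simp only [hm, pullRes_rfl]
  simp

end Groth.Agent.CycB.FlatDiv
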