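import Groth.Prelude.Def_Cyc
import Mathlib.RingTheory.LocalRing.Length
import Mathlib.AlgebraicGeometry.Morphisms.Flat

/-!
# Lengths in towers of flat local homomorphisms, and the length factor in `Cyc.pullFun`
-/

set_option autoImplicit false

universe u

namespace Groth.Agent.CycB.FlatLength

open AlgebraicGeometry CategoryTheory

/-- Multiplicativity of `length_C (C / 𝔪_A C)` in towers `A → B → C` of local rings with `B → C`
flat. -/
theorem length_quot_map_comp {A B C : Type u} [CommRing A] [CommRing B] [CommRing C]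
    [IsLocalRing A] [IsLocalRing B] [IsLocalRing C] (φ : A →+* B) (ψ : B →+* C)
    [hψ : IsLocalHom ψ] (hflat : ψ.Flat) :
    Module.length C (C ⧸ (IsLocalRing.maximalIdeal A).map (ψ.comp φ)) =
      Module.length B (B ⧸ (IsLocalRing.maximalIdeal A).map φ) *
        Module.length C (C ⧸ (IsLocalRing.maximalIdeal B).map ψ) := by
  let _ := ψ.toAlgebra
  have : Module.Flat B C := hflat
  have : IsLocalHom (algebraMap B C) := hψ
  have h1 := IsLocalRing.length_baseChange B C (B ⧸ (IsLocalRing.maximalIdeal A).map φ)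
  rw [← (Algebra.TensorProduct.quotIdealMapEquivTensorQuot C
    ((IsLocalRing.maximalIdeal A).map φ)).toLinearEquiv.length_eq] at h1
  rw [← Ideal.map_map]
  exact h1

/-- The multiplicity `length (O_{X,x} / 𝔪_{f x} O_{X,x})` in `Cyc.pullFun`, in `ℕ∞`. -/
noncomputable def mult {X Y : Scheme.{u}} (f : X ⟶ Y) (x : X) : ℕ∞ :=
  Module.length (X.presheaf.stalk x)
    (X.presheaf.stalk x ⧸ Ideal.map (f.stalkMap x).hom
      (IsLocalRing.maximalIdeal (Y.presheaf.stalk (f x))))

theorem pullFun_apply {X Y : Scheme.{u}} (f : X ⟶ Y) (δX : X → ℤ) (δY : Y → ℤ) (r : ℤ)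
    (α : Y → ℤ) (x : X) :
    Cyc.pullFun f δX δY r α x =
      if δX x = δY (f x) + r then α (f x) * ((mult f x).toNat : ℤ) else 0 := rfl

theorem mult_comp {X Y Z : Scheme.{u}} (f : X ⟶ Y) (g : Y ⟶ Z) [Flat f] (x : X) :
    mult (f ≫ g) x = mult g (f x) * mult f x := by
  unfold mult
  have h := length_quot_map_comp (g.stalkMap (f x)).hom (f.stalkMap x).hom
    (Flat.stalkMap f x)
  rw [← h, ← CommRingCat.hom_comp, ← Scheme.Hom.stalkMap_comp]
  rfl

end Groth.Agent.CycB.FlatLength
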