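import Groth.Agent.CycB.FiniteFlat
import Groth.Agent.CycB.LocQuot
import Groth.Agent.CycB.FlatLength

/-!
# Fibres of a base change: multiplicities and residue degrees

For a cartesian square `f' : Y' ⟶ X'`, `q : Y' ⟶ Y`, `p : X' ⟶ X`, `f : Y ⟶ X`, a point `y` of `Y`
with `κ(y)/κ(f y)` finite and a point `x'` of `X'` with `p x' = f y`, the sum over the points `y'`
of `Y'` with `q y' = y`, `f' y' = x'` of `mult q y' * [κ(y') : κ(x')]` is
`mult p x' * [κ(y) : κ(f y)]`.
-/

set_option autoImplicit false
universe u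
open CategoryTheory AlgebraicGeometry Limits

namespace Groth.Agent.CycB.FlatProper

open Groth.Agent.CycB.FiberStalk Groth.Agent.CycB.Push Groth.Agent.CycB.FiniteFlat
  Groth.Agent.CycB.LocQuot

variable {X Y : Scheme.{u}}

theorem eq_of_specializes_of_length_ne_top {x ξ : X} (h : ξ ⤳ x)
    (hA : Module.length (X.presheaf.stalk x) (X.presheaf.stalk x) ≠ ⊤) : ξ = x := by
  have h1 : IsArtinianRing (X.presheaf.stalk x) := by
    rw [Module.length_ne_top_iff, ← isArtinianRing_iff_isFiniteLength] at hA
    exact hA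
  have h2 : (primeOf h).asIdeal = (primeOf (specializes_refl x)).asIdeal := by
    rw [IsLocalRing.eq_maximalIdeal
      (IsArtinianRing.isMaximal_of_isPrime (primeOf h).asIdeal),
      IsLocalRing.eq_maximalIdeal
      (IsArtinianRing.isMaximal_of_isPrime (primeOf (specializes_refl x)).asIdeal)]
  exact (primeOf_inj h (specializes_refl x)).mp (PrimeSpectrum.ext h2)

/-- points at which the local ring of the fibre has finite length are generic in their fibre -/
theorem fibGeneric_of_length_ne_top (f : X ⟶ Y) (x : X)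
    (h : Module.length (X.presheaf.stalk x) (X.presheaf.stalk x ⧸ fibIdeal f x) ≠ ⊤)
    (x' : X) (hx' : f x' = f x) (hs : x' ⤳ x) : x' = x := by
  rw [length_stalk_asFiber] at h
  obtain ⟨z', hz'⟩ : ∃ z' : f.fiber (f x), f.fiberι (f x) z' = x' := by
    have : x' ∈ Set.range (f.fiberι (f x)) := by
      rw [f.range_fiberι]; exact hx'
    exact this
  have h1 : z' ⤳ f.asFiber x := by
    rw [← (f.fiberι (f x)).isEmbedding.isInducing.specializes_iff, hz', f.fiberι_asFiber]
    exact hs
  have h2 := eq_of_specializes_of_length_ne_top h1 h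
  rw [← hz', h2, f.fiberι_asFiber]

/-- multiplicativity of lengths of local rings along flat morphisms -/
theorem length_stalk_of_flat (π : X ⟶ Y) [Flat π] (z : X) :
    Module.length (X.presheaf.stalk z) (X.presheaf.stalk z) =
      Module.length (Y.presheaf.stalk (π z)) (Y.presheaf.stalk (π z)) *
        Module.length (X.presheaf.stalk z) (X.presheaf.stalk z ⧸ fibIdeal π z) := by
  have hfl : (π.stalkMap z).hom.Flat := Flat.stalkMap π z
  let i : Algebra (Y.presheaf.stalk (π z)) (X.presheaf.stalk z) := (π.stalkMap z).hom.toAlgebra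
  have : Module.Flat (Y.presheaf.stalk (π z)) (X.presheaf.stalk z) := hfl
  have : IsLocalHom (algebraMap (Y.presheaf.stalk (π z)) (X.presheaf.stalk z)) :=
    inferInstanceAs (IsLocalHom (π.stalkMap z).hom)
  have h := IsLocalRing.length_baseChange (Y.presheaf.stalk (π z)) (X.presheaf.stalk z)
    (Y.presheaf.stalk (π z))
  rw [← (TensorProduct.AlgebraTensorModule.rid (Y.presheaf.stalk (π z)) (X.presheaf.stalk z)
    (X.presheaf.stalk z)).length_eq]
  exact h

section Square

variable {X' Y' : Scheme.{u}} {f' : Y' ⟶ X'} {q : Y' ⟶ Y} {p : X' ⟶ X} {f : Y ⟶ X}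

/-- the base change map on fibres -/
noncomputable def fibMap (h : IsPullback f' q p f) (y : Y) : q.fiber y ⟶ p.fiber (f y) :=
  pullback.map _ _ _ _ f' (Spec.map (f.residueFieldMap y)) f h.w.symm (by simp)

theorem isPullback_fibMap (h : IsPullback f' q p f) (y : Y) :
    IsPullback (fibMap h y) (q.fiberToSpecResidueField y) (p.fiberToSpecResidueField (f y))
      (Spec.map (f.residueFieldMap y)) :=
  isPullback_fiberToSpecResidueField_of_isPullback h y

theorem fibMap_fiberι (h : IsPullback f' q p f) (y : Y) :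
    fibMap h y ≫ p.fiberι (f y) = q.fiberι y ≫ f' :=
  pullback.lift_fst _ _ _

theorem fiberι_fibMap_apply (h : IsPullback f' q p f) (y : Y) (z : q.fiber y) :
    p.fiberι (f y) (fibMap h y z) = f' (q.fiberι y z) := by
  rw [← Scheme.Hom.comp_apply, fibMap_fiberι, Scheme.Hom.comp_apply]

instance flat_SpecMap_residueFieldMap (f : Y ⟶ X) (y : Y) :
    Flat (Spec.map (f.residueFieldMap y)) := by
  rw [Flat.SpecMap_iff]
  let i : Algebra (X.residueField (f y)) (Y.residueField y) := (f.residueFieldMap y).hom.toAlgebra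
  exact (inferInstance : Module.Flat (X.residueField (f y)) (Y.residueField y))

instance flat_fibMap (h : IsPullback f' q p f) (y : Y) : Flat (fibMap h y) :=
  MorphismProperty.of_isPullback (isPullback_fibMap h y).flip inferInstance

theorem residueDegree_fibMap (h : IsPullback f' q p f) (y : Y) (z : q.fiber y) :
    (fibMap h y).residueDegree z = f'.residueDegree (q.fiberι y z) := by
  have h1 : (fibMap h y ≫ p.fiberι (f y)).residueDegree z = (fibMap h y).residueDegree z := by
    rw [residueDegree_comp, residueDegree_of_surjectiveOnStalks (p.fiberι (f y)), one_mul]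
  have h2 : (q.fiberι y ≫ f').residueDegree z = f'.residueDegree (q.fiberι y z) := by
    rw [residueDegree_comp, residueDegree_of_surjectiveOnStalks (q.fiberι y), mul_one]
  rw [← h1, ← h2, fibMap_fiberι]

theorem isFinite_fibMap (h : IsPullback f' q p f) (y : Y)
    (hfin : (f.residueFieldMap y).hom.Finite) : IsFinite (fibMap h y) := by
  have : IsFinite (Spec.map (f.residueFieldMap y)) := (IsFinite.SpecMap_iff _).mpr hfin
  exact MorphismProperty.of_isPullback (isPullback_fibMap h y).flip inferInstance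

set_option backward.isDefEq.respectTransparency.types false in
theorem finrank_SpecMap_residueFieldMap (f : Y ⟶ X) (y : Y)
    (hfin : (f.residueFieldMap y).hom.Finite) (t : Spec (X.residueField (f y))) :
    (Spec.map (f.residueFieldMap y)).finrank t = f.residueDegree y := by
  have hflat : (f.residueFieldMap y).hom.Flat :=
    Flat.SpecMap_iff.mp (flat_SpecMap_residueFieldMap f y)
  rw [Scheme.Hom.finrank_SpecMap_eq_finrank hfin hflat]
  let i : Algebra (X.residueField (f y)) (Y.residueField y) := (f.residueFieldMap y).hom.toAlgebra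
  have : Module.Finite (X.residueField (f y)) (Y.residueField y) := hfin
  change Module.rankAtStalk (R := X.residueField (f y)) (Y.residueField y) t = _
  rw [Module.rankAtStalk_eq_finrank_of_free]
  rfl

theorem finrank_fibMap (h : IsPullback f' q p f) (y : Y)
    (hfin : (f.residueFieldMap y).hom.Finite) (w : p.fiber (f y)) :
    (fibMap h y).finrank w = f.residueDegree y := by
  have : IsFinite (Spec.map (f.residueFieldMap y)) := (IsFinite.SpecMap_iff _).mpr hfin
  rw [Scheme.Hom.finrank_of_isPullback _ _ _ _ (isPullback_fibMap h y).flip w,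
    finrank_SpecMap_residueFieldMap f y hfin]

/-- the length of the local ring of the fibre upstairs is a multiple of the one downstairs -/
theorem length_fibMap (h : IsPullback f' q p f) (y : Y) (z : q.fiber y) :
    Module.length (Y'.presheaf.stalk (q.fiberι y z))
      (Y'.presheaf.stalk (q.fiberι y z) ⧸ fibIdeal q (q.fiberι y z)) =
    Module.length (X'.presheaf.stalk (f' (q.fiberι y z)))
      (X'.presheaf.stalk (f' (q.fiberι y z)) ⧸ fibIdeal p (f' (q.fiberι y z))) *
    Module.length ((q.fiber y).presheaf.stalk z)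
      ((q.fiber y).presheaf.stalk z ⧸ fibIdeal (fibMap h y) z) := by
  rw [length_stalk_fiber, length_stalk_of_flat (fibMap h y) z,
    length_stalk_fiber' p (f y) (fibMap h y z) _ (fiberι_fibMap_apply h y z)]

/-- the core formula -/
theorem finsum_mult (h : IsPullback f' q p f) (y : Y)
    (hfin : (f.residueFieldMap y).hom.Finite) (x' : X') (hx' : p x' = f y) :
    ∑ᶠ y' ∈ {y' : Y' | q y' = y ∧ f' y' = x'},
      ((Module.length (Y'.presheaf.stalk y') (Y'.presheaf.stalk y' ⧸ fibIdeal q y')).toNat *
        f'.residueDegree y') =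
    (Module.length (X'.presheaf.stalk x') (X'.presheaf.stalk x' ⧸ fibIdeal p x')).toNat *
      f.residueDegree y := by
  obtain ⟨w, hw⟩ : ∃ w : p.fiber (f y), p.fiberι (f y) w = x' := by
    have : x' ∈ Set.range (p.fiberι (f y)) := by
      rw [p.range_fiberι]; exact hx'
    exact this
  have hset : {y' : Y' | q y' = y ∧ f' y' = x'} = q.fiberι y '' {z | fibMap h y z = w} := by
    ext y'
    constructor
    · rintro ⟨h1, h2⟩
      obtain ⟨z, rfl⟩ : ∃ z : q.fiber y, q.fiberι y z = y' := by
        have : y' ∈ Set.range (q.fiberι y) := by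
          rw [q.range_fiberι]; exact h1
        exact this
      refine ⟨z, ?_, rfl⟩
      apply (p.fiberι (f y)).isEmbedding.injective
      rw [fiberι_fibMap_apply, hw, h2]
    · rintro ⟨z, hz, rfl⟩
      refine ⟨fiberι_mem q y z, ?_⟩
      rw [← fiberι_fibMap_apply h, hz, hw]
  rw [hset, finsum_mem_image (q.fiberι y).isEmbedding.injective.injOn]
  have hterm : ∀ z ∈ {z | fibMap h y z = w},
      (Module.length (Y'.presheaf.stalk (q.fiberι y z))
        (Y'.presheaf.stalk (q.fiberι y z) ⧸ fibIdeal q (q.fiberι y z))).toNat *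
          f'.residueDegree (q.fiberι y z) =
      (Module.length (X'.presheaf.stalk x') (X'.presheaf.stalk x' ⧸ fibIdeal p x')).toNat *
        ((Module.length ((q.fiber y).presheaf.stalk z)
          ((q.fiber y).presheaf.stalk z ⧸ fibIdeal (fibMap h y) z)).toNat *
            (fibMap h y).residueDegree z) := by
    intro z hz
    have hz' : f' (q.fiberι y z) = x' := by
      rw [← fiberι_fibMap_apply h, hz, hw]
    rw [length_fibMap h y z, hz', ENat.toNat_mul, residueDegree_fibMap, mul_assoc]
  rw [finsum_mem_congr rfl hterm, ← mul_finsum_mem]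
  have : IsFinite (fibMap h y) := isFinite_fibMap h y hfin
  rw [finsum_finite_flat (fibMap h y) w, finrank_fibMap h y hfin w]

end Square

theorem delta_eq_of_residueDegree_pos (f : X ⟶ Y) {δX : X → ℤ} {δY : Y → ℤ}
    (hδ : Cyc.DeltaCompat f δX δY) (x : X) (h : 0 < f.residueDegree x) : δX x = δY (f x) := by
  obtain ⟨n, hn, hx⟩ := hδ x
  let i : Algebra (Y.residueField (f x)) (X.residueField x) := (f.residueFieldMap x).hom.toAlgebra
  have hfin : Module.Finite (Y.residueField (f x)) (X.residueField x) :=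
    Module.finite_of_finrank_pos h
  have h0 : Algebra.trdeg (Y.residueField (f x)) (X.residueField x) = 0 :=
    trdeg_eq_zero_iff.mpr inferInstance
  have h1 : (n : Cardinal) = 0 := by rw [← hn]; exact h0
  have h2 : n = 0 := by exact_mod_cast h1
  rw [hx, h2]; simp

theorem residueFieldMap_finite_of_delta_eq (f : X ⟶ Y) [LocallyOfFiniteType f] {δX : X → ℤ}
    {δY : Y → ℤ} (hδ : Cyc.DeltaCompat f δX δY) (x : X) (h : δX x = δY (f x)) :
    (f.residueFieldMap x).hom.Finite := by
  obtain ⟨n, hn, hx⟩ := hδ x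
  have hn0 : n = 0 := by omega
  subst hn0
  let i : Algebra (Y.residueField (f x)) (X.residueField x) := (f.residueFieldMap x).hom.toAlgebra
  have htr : Algebra.trdeg (Y.residueField (f x)) (X.residueField x) = 0 := by simpa using hn
  have halg : Algebra.IsAlgebraic (Y.residueField (f x)) (X.residueField x) :=
    trdeg_eq_zero_iff.mp htr
  have hess : (f.residueFieldMap x).hom.EssFiniteType := by
    have h1 : (f.stalkMap x).hom.EssFiniteType := LocallyOfFiniteType.stalkMap f x
    have h2 : (X.residue x).hom.EssFiniteType :=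
      (RingHom.FiniteType.of_surjective _ (X.residue_surjective _)).essFiniteType
    have h3 := h1.comp h2
    rw [← CommRingCat.hom_comp, ← Scheme.residue_residueFieldMap, CommRingCat.hom_comp] at h3
    exact RingHom.EssFiniteType.of_comp _ h3
  have : Algebra.EssFiniteType (Y.residueField (f x)) (X.residueField x) := hess
  have : Module.Finite (Y.residueField (f x)) (X.residueField x) :=
    Algebra.finite_of_essFiniteType_of_isAlgebraic
  exact this

section Square

variable {X' Y' : Scheme.{u}} {f' : Y' ⟶ X'} {q : Y' ⟶ Y} {p : X' ⟶ X} {f : Y ⟶ X}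

theorem residueDegree_pos (h : IsPullback f' q p f) (y : Y)
    (hfin : (f.residueFieldMap y).hom.Finite) (y' : Y') (hy' : q y' = y) :
    0 < f'.residueDegree y' := by
  obtain ⟨z, rfl⟩ : ∃ z : q.fiber y, q.fiberι y z = y' := by
    have : y' ∈ Set.range (q.fiberι y) := by
      rw [q.range_fiberι]; exact hy'
    exact this
  rw [← residueDegree_fibMap h]
  have := isFinite_fibMap h y hfin
  have h1 := residueFieldMap_finite (fibMap h y) z
  let i : Algebra ((p.fiber (f y)).residueField (fibMap h y z)) ((q.fiber y).residueField z) :=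
    ((fibMap h y).residueFieldMap z).hom.toAlgebra
  have : Module.Finite ((p.fiber (f y)).residueField (fibMap h y z))
    ((q.fiber y).residueField z) := h1
  exact Module.finrank_pos

theorem finite_square (h : IsPullback f' q p f) (y : Y)
    (hfin : (f.residueFieldMap y).hom.Finite) (x' : X') :
    {y' : Y' | q y' = y ∧ f' y' = x'}.Finite := by
  have := isFinite_fibMap h y hfin
  have h1 : {w : p.fiber (f y) | p.fiberι (f y) w = x'}.Finite := by
    apply Set.Subsingleton.finite
    intro a ha b hb
    exact (p.fiberι (f y)).isEmbedding.injective (ha.trans hb.symm)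
  have h2 := (fibMap h y).finite_preimage h1
  refine (h2.image (q.fiberι y)).subset ?_
  rintro y' ⟨hy1, hy2⟩
  obtain ⟨z, rfl⟩ : ∃ z : q.fiber y, q.fiberι y z = y' := by
    have : y' ∈ Set.range (q.fiberι y) := by
      rw [q.range_fiberι]; exact hy1
    exact this
  refine ⟨z, ?_, rfl⟩
  change p.fiberι (f y) (fibMap h y z) = x'
  rw [fiberι_fibMap_apply, hy2]

/-- multiplicities of the base change are multiples of the multiplicities below -/
theorem exists_mult_eq (h : IsPullback f' q p f) (y' : Y') :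
    ∃ m : ℕ∞, Module.length (Y'.presheaf.stalk y') (Y'.presheaf.stalk y' ⧸ fibIdeal q y') =
      Module.length (X'.presheaf.stalk (f' y')) (X'.presheaf.stalk (f' y') ⧸ fibIdeal p (f' y')) *
        m := by
  have h1 := length_fibMap h (q y') (q.asFiber y')
  rw [q.fiberι_asFiber] at h1
  exact ⟨_, h1⟩

/-- flat pullback commutes with proper pushforward (coefficientwise) -/
theorem pullFun_map_apply (h : IsPullback f' q p f) [LocallyOfFiniteType f]
    (δ : X → ℤ) (δ' : X' → ℤ) (δY : Y → ℤ) (δY' : Y' → ℤ)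
    (hf : Cyc.DeltaCompat f δY δ) (hf' : Cyc.DeltaCompat f' δY' δ') (c : ℤ)
    (hc : ∀ x' : X', (∀ y, p y = p x' → y ⤳ x' → y = x') → δ' x' = δ (p x') + c)
    (α : Y → ℤ) (x' : X') (y : Y) (hy : f y = p x') :
    ∑ᶠ y' ∈ {y' : Y' | q y' = y ∧ f' y' = x'},
      Cyc.pullFun q δY' δY c α y' * (AlgebraicCycle.mapCoeff f' δY' δ' y' : ℤ) =
    if δ' x' = δ (p x') + c then α y * (AlgebraicCycle.mapCoeff f δY δ y : ℤ) *
      ((Module.length (X'.presheaf.stalk x') (X'.presheaf.stalk x' ⧸ fibIdeal p x')).toNat : ℤ)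
    else 0 := by
  by_cases hA : (Module.length (X'.presheaf.stalk x')
      (X'.presheaf.stalk x' ⧸ fibIdeal p x')).toNat = 0
  · rw [hA]
    simp only [Nat.cast_zero, mul_zero, ite_self]
    apply finsum_mem_eq_zero_of_forall_eq_zero
    rintro y' ⟨hy1, hy2⟩
    obtain ⟨m, hm⟩ := exists_mult_eq h y'
    have h0 : (Module.length (Y'.presheaf.stalk y')
        (Y'.presheaf.stalk y' ⧸ fibIdeal q y')).toNat = 0 := by
      rw [hm, ENat.toNat_mul, hy2, hA, zero_mul]
    have h1 : Cyc.pullFun q δY' δY c α y' = 0 := by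
      unfold Cyc.pullFun
      split_ifs
      · erw [h0]; simp
      · rfl
    rw [h1, zero_mul]
  · have hgen := hc x' (fibGeneric_of_length_ne_top p x' (fun e => hA (by rw [e]; rfl)))
    rw [if_pos hgen]
    by_cases hB : δY y = δ (f y)
    · have hfin := residueFieldMap_finite_of_delta_eq f hf y hB
      have hterm : ∀ y' ∈ {y' : Y' | q y' = y ∧ f' y' = x'},
          Cyc.pullFun q δY' δY c α y' * (AlgebraicCycle.mapCoeff f' δY' δ' y' : ℤ) =
          α y * (((Module.length (Y'.presheaf.stalk y')
            (Y'.presheaf.stalk y' ⧸ fibIdeal q y')).toNat * f'.residueDegree y' : ℕ) : ℤ) := by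
        rintro y' ⟨rfl, hy2⟩
        have h1 : δY' y' = δ' (f' y') :=
          delta_eq_of_residueDegree_pos f' hf' y' (residueDegree_pos h _ hfin y' rfl)
        have h2 : δY' y' = δY (q y') + c := by
          rw [h1, hy2, hgen, hB, hy]
        unfold Cyc.pullFun AlgebraicCycle.mapCoeff
        rw [if_pos h2, if_pos h1]
        push_cast
        ring
      rw [finsum_mem_congr rfl hterm, ← mul_finsum_mem]
      have hfinset : {y' : Y' | q y' = y ∧ f' y' = x'}.Finite :=
        finite_square h y hfin x'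
      have h3 : (∑ᶠ y' ∈ {y' : Y' | q y' = y ∧ f' y' = x'}, (((Module.length (Y'.presheaf.stalk y')
            (Y'.presheaf.stalk y' ⧸ fibIdeal q y')).toNat * f'.residueDegree y' : ℕ) : ℤ)) =
            (((Module.length (X'.presheaf.stalk x')
              (X'.presheaf.stalk x' ⧸ fibIdeal p x')).toNat * f.residueDegree y : ℕ) : ℤ) := by
        rw [← finsum_mult h y hfin x' hy.symm]
        exact ((Nat.castAddMonoidHom ℤ).map_finsum_mem _ hfinset).symm
      rw [h3]
      unfold AlgebraicCycle.mapCoeff
      rw [if_pos hB]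
      push_cast
      ring
    · have h1 : AlgebraicCycle.mapCoeff f δY δ y = 0 := by
        unfold AlgebraicCycle.mapCoeff
        exact if_neg hB
      rw [h1]
      simp only [Nat.cast_zero, mul_zero, zero_mul]
      apply finsum_mem_eq_zero_of_forall_eq_zero
      rintro y' ⟨rfl, hy2⟩
      unfold Cyc.pullFun AlgebraicCycle.mapCoeff
      split_ifs with h2 h3
      · exfalso
        apply hB
        have h4 : δY' y' = δ' (f' y') := h3
        rw [hy2, hgen, ← hy] at h4
        omega
      · simp
      · simp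
      · simp

/-- flat pullback commutes with proper pushforward -/
theorem pullFun_map_eq (h : IsPullback f' q p f) [LocallyOfFiniteType f] [QuasiCompact f]
    [QuasiCompact f']
    (δ : X → ℤ) (δ' : X' → ℤ) (δY : Y → ℤ) (δY' : Y' → ℤ)
    (hf : Cyc.DeltaCompat f δY δ) (hf' : Cyc.DeltaCompat f' δY' δ') (c : ℤ)
    (hc : ∀ x' : X', (∀ y, p y = p x' → y ⤳ x' → y = x') → δ' x' = δ (p x') + c)
    (α : AlgebraicCycle Y ℤ) (α' : AlgebraicCycle Y' ℤ)
    (hα' : ⇑α' = Cyc.pullFun q δY' δY c ⇑α) :
    Cyc.pullFun p δ' δ c ⇑(AlgebraicCycle.map f δY δ α) =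
      ⇑(AlgebraicCycle.map f' δY' δ' α') := by
  funext x'
  classical
  have hS : {y : Y | f y = p x' ∧ α y ≠ 0}.Finite := finite_support_fiber f α (p x')
  have hT : {y' : Y' | f' y' = x' ∧ α' y' ≠ 0}.Finite := finite_support_fiber f' α' x'
  have hcomm : ∀ y' : Y', f (q y') = p (f' y') := by
    intro y'
    rw [← Scheme.Hom.comp_apply, ← Scheme.Hom.comp_apply, h.w]
  have hsupp : ∀ y' : Y', α' y' ≠ 0 → α (q y') ≠ 0 := by
    intro y' hy' h0
    apply hy'
    rw [hα']
    unfold Cyc.pullFun
    rw [h0, zero_mul, ite_self]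
  -- right-hand side
  have hR : AlgebraicCycle.map f' δY' δ' α' x' =
      ∑ y ∈ hS.toFinset, ∑ᶠ y' ∈ {y' : Y' | q y' = y ∧ f' y' = x'},
        α' y' * (AlgebraicCycle.mapCoeff f' δY' δ' y' : ℤ) := by
    rw [map_apply]
    have h1 : (∑ᶠ y' ∈ {y' : Y' | f' y' = x'}, α' y' * (AlgebraicCycle.mapCoeff f' δY' δ' y' : ℤ)) =
        ∑ y' ∈ hT.toFinset, α' y' * (AlgebraicCycle.mapCoeff f' δY' δ' y' : ℤ) := by
      apply finsum_mem_eq_sum_of_inter_support_eq
      ext y'
      simp only [Set.mem_inter_iff, Set.mem_ofPred_eq, Function.mem_support,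
        Set.Finite.coe_toFinset]
      constructor
      · rintro ⟨h1, h2⟩; exact ⟨⟨h1, left_ne_zero_of_mul h2⟩, h2⟩
      · rintro ⟨⟨h1, h2⟩, h3⟩; exact ⟨h1, h3⟩
    rw [h1, ← Finset.sum_fiberwise_of_maps_to (s := hT.toFinset) (t := hS.toFinset) (g := q)]
    · refine Finset.sum_congr rfl (fun y hy => ?_)
      symm
      apply finsum_mem_eq_sum_of_inter_support_eq
      ext y'
      simp only [Set.mem_inter_iff, Set.mem_ofPred_eq, Function.mem_support, Finset.coe_filter,
        Set.Finite.mem_toFinset]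
      constructor
      · rintro ⟨⟨h1, h2⟩, h3⟩; exact ⟨⟨⟨h2, left_ne_zero_of_mul h3⟩, h1⟩, h3⟩
      · rintro ⟨⟨⟨h1, h2⟩, h3⟩, h4⟩; exact ⟨⟨h3, h1⟩, h4⟩
    · intro y' hy'
      rw [Set.Finite.mem_toFinset] at hy' ⊢
      refine ⟨?_, hsupp y' hy'.2⟩
      rw [hcomm, hy'.1]
  -- left-hand side
  have hL : AlgebraicCycle.map f δY δ α (p x') =
      ∑ y ∈ hS.toFinset, α y * (AlgebraicCycle.mapCoeff f δY δ y : ℤ) := by
    rw [map_apply]
    apply finsum_mem_eq_sum_of_inter_support_eq
    ext y
    simp only [Set.mem_inter_iff, Set.mem_ofPred_eq, Function.mem_support,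
      Set.Finite.coe_toFinset]
    constructor
    · rintro ⟨h1, h2⟩; exact ⟨⟨h1, left_ne_zero_of_mul h2⟩, h2⟩
    · rintro ⟨⟨h1, h2⟩, h3⟩; exact ⟨h1, h3⟩
  rw [hR]
  have key : ∀ y ∈ hS.toFinset, (∑ᶠ y' ∈ {y' : Y' | q y' = y ∧ f' y' = x'},
        α' y' * (AlgebraicCycle.mapCoeff f' δY' δ' y' : ℤ)) =
      if δ' x' = δ (p x') + c then α y * (AlgebraicCycle.mapCoeff f δY δ y : ℤ) *
      ((Module.length (X'.presheaf.stalk x') (X'.presheaf.stalk x' ⧸ fibIdeal p x')).toNat : ℤ)
      else 0 := by
    intro y hy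
    rw [Set.Finite.mem_toFinset] at hy
    rw [← pullFun_map_apply h δ δ' δY δY' hf hf' c hc α x' y hy.1, hα']
  rw [Finset.sum_congr rfl key]
  unfold Cyc.pullFun
  split_ifs
  · rw [hL, Finset.sum_mul]
  · simp

end Square

end Groth.Agent.CycB.FlatProper
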