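import Groth.Agent.CycB.GraphFac
import Groth.Agent.CycB.LocQuot
import Groth.Agent.CycB.OrdFrac

/-!
# Multiplicities of the fibres over `0` and `∞` and orders of vanishing
-/

universe u

open CategoryTheory AlgebraicGeometry CategoryTheory.Limits

namespace Groth.Agent.CycB.GraphMult

open P1 Groth.Agent.CycB.P1Chart Groth.Agent.CycB.ClosedFac Groth.Agent.CycB.GraphOrd
  Groth.Agent.CycB.GraphFac

section Algebra

variable {R A : Type*} [CommRing R] [CommRing A]

theorem length_quotient_comap (q : R →+* A) (hq : Function.Surjective q) (I : Ideal A) :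
    Module.length R (R ⧸ I.comap q) = Module.length A (A ⧸ I) := by
  let := q.toAlgebra
  rw [← Module.length_eq_of_surjective (S := R) (R := A) (M := A ⧸ I) hq]
  let f : R →ₗ[R] (A ⧸ I) := (I.mkQ.restrictScalars R) ∘ₗ (Algebra.linearMap R A)
  have hf : Function.Surjective f := (Submodule.mkQ_surjective I).comp hq
  have hk : LinearMap.ker f = I.comap q := by
    ext a
    rw [LinearMap.mem_ker, Ideal.mem_comap]
    exact Submodule.Quotient.mk_eq_zero I
  rw [← hk]
  exact (f.quotKerEquivOfSurjective hf).length_eq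

theorem constIdeal_comap {L : Type*} [Field L] (q : R →+* A) (hq : Function.Surjective q)
    (φ : A →+* L) (t : L) :
    constIdeal (φ.comp q) t = (constIdeal φ t).comap q := by
  ext a
  rw [Ideal.mem_comap, mem_constIdeal, mem_constIdeal]
  constructor
  · rintro ⟨u, hu, rfl⟩
    exact ⟨u.map q, by rw [Polynomial.eval₂_map, hu], Polynomial.coeff_map _ _⟩
  · rintro ⟨u, hu, hua⟩
    obtain ⟨v, rfl⟩ := Polynomial.map_surjective q hq u
    rw [Polynomial.coeff_map] at hua
    rw [Polynomial.eval₂_map] at hu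
    refine ⟨v + Polynomial.C (a - v.coeff 0), ?_, ?_⟩
    · rw [Polynomial.eval₂_add, hu, Polynomial.eval₂_C, RingHom.comp_apply, map_sub, hua, sub_self,
        map_zero, add_zero]
    · rw [Polynomial.coeff_add, Polynomial.coeff_C_zero]
      ring

theorem length_constIdeal {L : Type*} [Field L] (q : R →+* A) (hq : Function.Surjective q)
    (φ : A →+* L) (t : L) :
    Module.length R (R ⧸ constIdeal (φ.comp q) t) = Module.length A (A ⧸ constIdeal φ t) := by
  rw [constIdeal_comap q hq, length_quotient_comap q hq]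

end Algebra

variable {X : Scheme.{u}} {δ : X → ℤ}

/-- Multiplicity at `x` of the fibre over the section `i` of an integral closed subscheme. -/
theorem subschemeFun_eq {W : Scheme.{u}} [IsIntegral W] (ι : W ⟶ CohB1.ProjSpaceOver 1 X)
    [IsClosedImmersion ι] {K : Type u} [Field K] (w : Spec (CommRingCat.of K) ⟶ W)
    (hw : w (IsLocalRing.closedPoint K) = genericPoint W) (i : Fin (1 + 1)) {x : X}
    (φ : X.presheaf.stalk x ⟶ CommRingCat.of K) (t : K)
    (hwt : w ≫ ι = pt i (Spec.map φ ≫ X.fromSpecStalk x) t) (k : ℤ) (hk : δ x = k) :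
    Cyc.subschemeFun δ k (pullback.snd ι (P1.sect X i)) x =
      ((Module.length (X.presheaf.stalk x)
        (X.presheaf.stalk x ⧸ constIdeal φ.hom t)).toNat : ℤ) := by
  unfold Cyc.subschemeFun
  rw [if_pos hk]
  exact (fac_sect ι w hw i x φ t hwt).finsum_length

theorem fromSpecResidueField_eq {x ξ : X} (h : ξ ⤳ x) :
    X.fromSpecResidueField ξ = Spec.map (CommRingCat.ofHom (Cyc.specMap x ξ h)) ≫
      X.fromSpecStalk x := by
  unfold Cyc.specMap
  rw [CommRingCat.ofHom_hom, Spec.map_comp, Category.assoc,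
    Scheme.SpecMap_stalkSpecializes_fromSpecStalk]
  rfl

/-- **Difference of the multiplicities of the fibres over `0` and `∞`.** -/
theorem subschemeFun_sub_subschemeFun [IsLocallyNoetherian X] (hδ : Cyc.IsDimFun X δ)
    {W : Scheme.{u}} [IsIntegral W] (ι : W ⟶ CohB1.ProjSpaceOver 1 X)
    [IsClosedImmersion ι] {K : Type u} [Field K] (w : Spec (CommRingCat.of K) ⟶ W)
    (hw : w (IsLocalRing.closedPoint K) = genericPoint W) {x ξ : X} (h : ξ ⤳ x)
    (hd : δ x + 1 = δ ξ) [Algebra (X.residueField ξ) K] (t : K) (ht0 : t ≠ 0)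
    (halg : IsIntegral (X.residueField ξ) t)
    (hwt : w ≫ ι = pt 0 (Spec.map (CommRingCat.ofHom (algebraMap (X.residueField ξ) K)) ≫
      X.fromSpecResidueField ξ) t) (k : ℤ) (hk : δ x = k) :
    Cyc.subschemeFun δ k (pullback.snd ι (P1.sect X 0)) x -
      Cyc.subschemeFun δ k (pullback.snd ι (P1.sect X 1)) x =
    Cyc.divFun δ ξ ((minpoly (X.residueField ξ) t).coeff 0) x := by
  let ψ : CommRingCat.of (X.residueField ξ) ⟶ CommRingCat.of K :=
    CommRingCat.ofHom (algebraMap (X.residueField ξ) K)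
  let φ : X.presheaf.stalk x ⟶ CommRingCat.of K := CommRingCat.ofHom (Cyc.specMap x ξ h) ≫ ψ
  have hφ : Spec.map φ ≫ X.fromSpecStalk x = Spec.map ψ ≫ X.fromSpecResidueField ξ := by
    rw [fromSpecResidueField_eq h, Spec.map_comp, Category.assoc]
    rfl
  have h0 : w ≫ ι = pt 0 (Spec.map φ ≫ X.fromSpecStalk x) t := by
    rw [hφ]; exact hwt
  have h1 : w ≫ ι = pt 1 (Spec.map φ ≫ X.fromSpecStalk x) t⁻¹ := by
    rw [h0]
    exact pt_inv 0 _ (mul_inv_cancel₀ ht0)
  rw [subschemeFun_eq ι w hw 0 φ t h0 k hk, subschemeFun_eq ι w hw 1 φ t⁻¹ h1 k hk,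
    OrdFrac.divFun_apply δ h hd]
  let A := Cyc.LocQuot x ξ h
  let q : X.presheaf.stalk x →+* A := Ideal.Quotient.mk _
  have hq : Function.Surjective q := Ideal.Quotient.mk_surjective
  let algAK : Algebra A K := ((algebraMap (X.residueField ξ) K).comp
    (algebraMap A (X.residueField ξ))).toAlgebra
  have : IsScalarTower A (X.residueField ξ) K := IsScalarTower.of_algebraMap_eq' rfl
  have hφq : φ.hom = (algebraMap A K).comp q := rfl
  rw [hφq, length_constIdeal q hq, length_constIdeal q hq]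
  have : Ring.KrullDimLE 1 A := LocQuot.krullDimLE_one_locQuot hδ h hd
  have key := ordFrac_minpoly_coeff_zero (A := A) (K := X.residueField ξ) (L := K) halg ht0
  rw [← key.2.2]
  rfl

/-- The fibres over `0`, `∞` lie over the closure of the image of the generic point. -/
theorem specializes_of_mem_range {W : Scheme.{u}} [IsIntegral W]
    (ι : W ⟶ CohB1.ProjSpaceOver 1 X) (i : Fin (1 + 1)) {x : X}
    (hx : x ∈ Set.range (pullback.snd ι (P1.sect X i))) :
    (CohB1.ProjSpaceOver.toBase 1 X) (ι (genericPoint W)) ⤳ x := by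
  obtain ⟨z, rfl⟩ := hx
  have h1 : genericPoint W ⤳ (pullback.fst ι (P1.sect X i)) z := genericPoint_specializes _
  have h2 := h1.map (ι ≫ CohB1.ProjSpaceOver.toBase 1 X).continuous
  have h3 : (ι ≫ CohB1.ProjSpaceOver.toBase 1 X) ((pullback.fst ι (P1.sect X i)) z) =
      (pullback.snd ι (P1.sect X i)) z := by
    rw [← Scheme.Hom.comp_apply, ← Category.assoc, pullback.condition, Category.assoc]
    have : P1.sect X i ≫ CohB1.ProjSpaceOver.toBase 1 X = 𝟙 X := by
      rw [sect_eq, lift_toBase]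
    rw [this, Category.comp_id]
  rw [h3, Scheme.Hom.comp_apply] at h2
  exact h2

theorem subschemeFun_eq_zero_of_notMem {Z : Scheme.{u}} (i : Z ⟶ X) {x : X}
    (hx : x ∉ Set.range i) (k : ℤ) : Cyc.subschemeFun δ k i x = 0 := by
  unfold Cyc.subschemeFun
  split_ifs with h
  · have hset : {z' : Z | i z' = x} = ∅ := by
      ext z'
      simp only [Set.mem_ofPred_eq, Set.mem_empty_iff_false, iff_false]
      intro h
      exact hx ⟨z', h⟩
    rw [hset, finsum_mem_empty]
  · rfl

theorem toBase_genericPoint {W : Scheme.{u}} [IsIntegral W] (ι : W ⟶ CohB1.ProjSpaceOver 1 X)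
    {K : Type u} [Field K] (w : Spec (CommRingCat.of K) ⟶ W)
    (hw : w (IsLocalRing.closedPoint K) = genericPoint W) {ξ : X} [Algebra (X.residueField ξ) K]
    {i : Fin (1 + 1)} (t : K)
    (hwt : w ≫ ι = pt i (Spec.map (CommRingCat.ofHom (algebraMap (X.residueField ξ) K)) ≫
      X.fromSpecResidueField ξ) t) :
    (CohB1.ProjSpaceOver.toBase 1 X) (ι (genericPoint W)) = ξ := by
  rw [← hw, ← Scheme.Hom.comp_apply, ← Scheme.Hom.comp_apply, ← Category.assoc, hwt, pt_toBase,
    Scheme.Hom.comp_apply]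
  exact Scheme.fromSpecResidueField_apply _ _

/-- The principal divisor as difference of the fibres over `0` and `∞`. -/
theorem divFun_eq_sub [IsLocallyNoetherian X] (hδ : Cyc.IsDimFun X δ)
    {W : Scheme.{u}} [IsIntegral W] (ι : W ⟶ CohB1.ProjSpaceOver 1 X)
    [IsClosedImmersion ι] {K : Type u} [Field K] (w : Spec (CommRingCat.of K) ⟶ W)
    (hw : w (IsLocalRing.closedPoint K) = genericPoint W) {ξ : X}
    [Algebra (X.residueField ξ) K] (t : K) (ht0 : t ≠ 0)
    (halg : IsIntegral (X.residueField ξ) t)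
    (hwt : w ≫ ι = pt 0 (Spec.map (CommRingCat.ofHom (algebraMap (X.residueField ξ) K)) ≫
      X.fromSpecResidueField ξ) t) (k : ℤ) (hk : δ ξ = k + 1) (x : X) :
    Cyc.divFun δ ξ ((minpoly (X.residueField ξ) t).coeff 0) x =
    Cyc.subschemeFun δ k (pullback.snd ι (P1.sect X 0)) x -
      Cyc.subschemeFun δ k (pullback.snd ι (P1.sect X 1)) x := by
  by_cases hx : δ x = k
  · by_cases h : ξ ⤳ x
    · exact (subschemeFun_sub_subschemeFun hδ ι w hw h (by omega) t ht0 halg hwt k hx).symm
    · rw [OrdFrac.divFun_eq_zero δ (fun h' => h h'.1)]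
      have hξ := toBase_genericPoint ι w hw t hwt
      rw [subschemeFun_eq_zero_of_notMem _ (fun h' => h (hξ ▸ specializes_of_mem_range ι 0 h')),
        subschemeFun_eq_zero_of_notMem _ (fun h' => h (hξ ▸ specializes_of_mem_range ι 1 h'))]
      rfl
  · rw [OrdFrac.divFun_eq_zero δ (fun h' => hx (by omega))]
    unfold Cyc.subschemeFun
    rw [if_neg hx, if_neg hx]
    rfl

end Groth.Agent.CycB.GraphMult
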