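import Groth.Agent.CycB.GraphMult
import Groth.Agent.CycB.ImageInt
import Groth.Agent.CycB.P1Sep
import Mathlib.AlgebraicGeometry.Noetherian

/-!
# Closures of `K`-points of `P^1_X` and principal divisors
-/

universe u

open CategoryTheory AlgebraicGeometry CategoryTheory.Limits

namespace Groth.Agent.CycB.GraphPt

open P1 Groth.Agent.CycB.P1Chart Groth.Agent.CycB.ClosedFac Groth.Agent.CycB.GraphOrd
  Groth.Agent.CycB.GraphFac Groth.Agent.CycB.GraphMult

variable {X : Scheme.{u}} {δ : X → ℤ}

theorem divFun_neg (δ : X → ℤ) {ξ : X} (f : X.residueField ξ) :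
    Cyc.divFun δ ξ (-f) = Cyc.divFun δ ξ f := by
  have h1 : Cyc.divFun δ ξ (-1) = 0 := by
    have h2 := OrdFrac.divFun_mul δ (ξ := ξ) (f := -1) (g := -1) (by simp) (by simp)
    rw [neg_mul_neg, one_mul, OrdFrac.divFun_one] at h2
    ext x
    have h3 := congrFun h2 x
    simp only [Pi.zero_apply, Pi.add_apply] at h3 ⊢
    omega
  by_cases hf : f = 0
  · rw [hf, neg_zero]
  · have h2 := OrdFrac.divFun_mul δ (ξ := ξ) (f := -1) (g := f) (by simp) hf
    rw [neg_one_mul, h1, zero_add] at h2
    exact h2

theorem specMap_algebraMap_self_comp (R : CommRingCat.{u}) (g : Spec R ⟶ X) :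
    Spec.map (CommRingCat.ofHom (algebraMap R R)) ≫ g = g :=
  (congrArg (· ≫ g) (Spec.map_id R)).trans (Category.id_comp g)

/-- The principal divisor of `f ∈ κ(ξ)` as difference of the fibres over `0` and `∞` of an
integral closed subscheme of `P^1_X` with generic point given by `f`. -/
theorem divFun_eq_sub_of_pt [IsLocallyNoetherian X] (hδ : Cyc.IsDimFun X δ)
    {W : Scheme.{u}} [IsIntegral W] (ι : W ⟶ CohB1.ProjSpaceOver 1 X)
    [IsClosedImmersion ι] {ξ : X} (w : Spec (X.residueField ξ) ⟶ W)
    (hw : w (IsLocalRing.closedPoint (X.residueField ξ)) = genericPoint W)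
    (t : X.residueField ξ) (ht0 : t ≠ 0)
    (hwt : w ≫ ι = pt 0 (X.fromSpecResidueField ξ) t) (k : ℤ) (hk : δ ξ = k + 1) :
    Cyc.divFun δ ξ t = fun x =>
    Cyc.subschemeFun δ k (pullback.snd ι (P1.sect X 0)) x -
      Cyc.subschemeFun δ k (pullback.snd ι (P1.sect X 1)) x := by
  funext x
  have halg : _root_.IsIntegral (X.residueField ξ) t := isIntegral_algebraMap (x := t)
  have h1 := divFun_eq_sub hδ ι (K := X.residueField ξ) w hw (ξ := ξ) t ht0 halg (by
    rw [hwt]
    congr 1
    exact (specMap_algebraMap_self_comp (X.residueField ξ) (X.fromSpecResidueField ξ)).symm)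
    k hk x
  rw [← h1, minpoly.eq_X_sub_C']
  simp only [Polynomial.coeff_sub, Polynomial.coeff_X_zero, Polynomial.coeff_C_zero, zero_sub]
  rw [divFun_neg]

/-- The graph on the local ring at `x`. -/
theorem fromSpecStalkOfMem_graph (U : X.Opens) (x : X) (hx : x ∈ U) (f : Γ(X, U)) :
    U.fromSpecStalkOfMem x hx ≫ P1.graph X U f =
      pt 0 (X.fromSpecStalk x) ((X.presheaf.germ U x hx).hom f) := by
  apply P1Chart.hom_ext
  · rw [graph_eq, Category.assoc, lift_toZ, pt_toZ, ← Category.assoc,
      Scheme.Opens.fromSpecStalkOfMem_toSpecΓ, ← Category.assoc, ← Spec.map_comp]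
    congr 2
    ext a
    have h := comp_chartMap 0 (X.presheaf.germ U x hx).hom f
    exact RingHom.congr_fun h a
  · rw [graph_eq, Category.assoc, lift_toBase, pt_toBase, Scheme.Opens.fromSpecStalkOfMem_ι]

theorem quasiCompact_graph [IsLocallyNoetherian X] (U : X.Opens) (f : Γ(X, U)) :
    QuasiCompact (P1.graph X U f) := by
  have h1 : QuasiCompact (P1.graph X U f ≫ CohB1.ProjSpaceOver.toBase 1 X) := by
    rw [graph_eq, lift_toBase]
    infer_instance
  have h2 := P1Sep.isSeparated_toBase 1 X
  exact QuasiCompact.of_comp _ (CohB1.ProjSpaceOver.toBase 1 X)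

/-- **Stacks 02RQ (6).** -/
theorem divFun_eq_graphClosure [IsIntegral X] [IsLocallyNoetherian X] (hδ : Cyc.IsDimFun X δ)
    (k : ℤ) (hk : δ (genericPoint X) = k + 1) (U : X.Opens) (hη : genericPoint X ∈ U)
    (f : Γ(X, U)) (hf : IsUnit f) :
    Cyc.divFun δ (genericPoint X) (X.evaluation U (genericPoint X) hη f) =
      fun x => Cyc.subschemeFun δ k (pullback.snd (P1.graphClosureι X U f) (P1.sect X 0)) x -
        Cyc.subschemeFun δ k (pullback.snd (P1.graphClosureι X U f) (P1.sect X 1)) x := by
  have hqc : QuasiCompact (P1.graph X U f) := quasiCompact_graph U f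
  have hne : Nonempty U := ⟨⟨_, hη⟩⟩
  have hint : IsIntegral (P1.graph X U f).image := ImageInt.isIntegral_image _
  let η := genericPoint X
  let u : Spec (X.residueField η) ⟶ (↑U : Scheme.{u}) :=
    Spec.map (X.residue η) ≫ U.fromSpecStalkOfMem η hη
  have hu : u ≫ U.ι = X.fromSpecResidueField η := by
    rw [Category.assoc, Scheme.Opens.fromSpecStalkOfMem_ι]
    rfl
  have hgen : u (IsLocalRing.closedPoint (X.residueField η)) = genericPoint (↑U : Scheme.{u}) := by
    apply U.ι.isOpenEmbedding.injective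
    rw [← Scheme.Hom.comp_apply, hu, genericPoint_eq_of_isOpenImmersion]
    exact Scheme.fromSpecResidueField_apply _ _
  let w : Spec (X.residueField η) ⟶ (P1.graph X U f).image := u ≫ (P1.graph X U f).toImage
  have hw : w (IsLocalRing.closedPoint (X.residueField η)) =
      genericPoint (P1.graph X U f).image := by
    rw [Scheme.Hom.comp_apply, hgen, ImageInt.toImage_genericPoint]
  have hwt : w ≫ P1.graphClosureι X U f =
      pt 0 (X.fromSpecResidueField η) ((X.evaluation U η hη).hom f) := by
    have h1 : (P1.graph X U f).toImage ≫ P1.graphClosureι X U f = P1.graph X U f :=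
      Scheme.Hom.toImage_imageι _
    rw [Category.assoc, h1, Category.assoc, fromSpecStalkOfMem_graph, map_pt]
    rfl
  have ht : (X.evaluation U η hη).hom f ≠ 0 := (hf.map (X.evaluation U η hη).hom).ne_zero
  have hcl : IsClosedImmersion (P1.graphClosureι X U f) := by
    unfold P1.graphClosureι
    infer_instance
  exact divFun_eq_sub_of_pt hδ (P1.graphClosureι X U f) w hw _ ht hwt k hk

end Groth.Agent.CycB.GraphPt
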