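import Groth.Agent.CycB.CapComm

/-!
# Caps on a closed subscheme versus caps on the ambient scheme
-/

set_option autoImplicit false

universe u v w

open CategoryTheory CategoryTheory.Limits AlgebraicGeometry TopologicalSpace Opposite
open Groth.Agent.CycB.ModStalk Cyc

namespace Groth.Agent.CycB.GysinCap

open C1Basic C1Pull DivFun C1Cap GysinCl CapComm

variable {X D W : Scheme.{u}} {δ : X → ℤ} {k : ℤ}

/-- A sum over X supported on the range of an injective map. -/
theorem finsum_eq_comp {α β : Type*} (i : α → β) (hi : Function.Injective i) (F : β → ℤ)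
    (hF : ∀ x, x ∉ Set.range i → F x = 0) : ∑ᶠ x, F x = ∑ᶠ d, F (i d) := by
  rw [← RatTransport.finsum_subtype_eq (fun x => x ∈ Set.range i) F hF,
    ← finsum_comp_equiv (Equiv.ofInjective i hi) (f := fun x : Set.range i => F x.1)]
  rfl

/-- The cap on D with sections u agrees on the closed subscheme W of D with the cap on X with
sections v up to rational equivalence on W, if the sections have the same divisors at the points
outside W. -/
theorem ratZ_cap_sub_cap (i : D ⟶ X) [IsClosedImmersion i] (j : W ⟶ D) [IsPreimmersion j]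
    {N : X.Modules} (hN : PicF.IsInvertible N) (G : X → ℤ) (hG0 : ∀ x, x ∉ Set.range ⇑i → G x = 0)
    (g : AlgebraicCycle D ℤ) (hg : ∀ d, g d = G (i d)) (hGk : ∀ d, g d ≠ 0 → δ (i d) = k + 1)
    (v : (ξ : X) → secFibre N ξ) (hv : ∀ ξ, v ξ ≠ 0)
    (u : (d : D) → secFibre ((Scheme.Modules.pullback i).obj N) d) (hu : ∀ d, u d ≠ 0)
    (H : ∀ d, d ∉ Set.range ⇑j → ∀ d', secDivFun (fun d => δ (i d))
      ((Scheme.Modules.pullback i).obj N) d (u d) d' = secDivFun δ N (i d) (v (i d)) (i d')) :
    RatZ (fun z => δ (i (j z))) k (fun z => c1CapFun (fun d => δ (i d))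
      ((Scheme.Modules.pullback i).obj N) ⇑g u (j z) - c1CapFun δ N G v (i (j z))) := by
  classical
  have hNi := isInvertible_pullback i hN
  have key : ∀ d : D, ∃ a : D.residueField d, a ≠ 0 ∧ (∀ d', secDivFun (fun d => δ (i d))
      ((Scheme.Modules.pullback i).obj N) d (u d) d' = divFun (fun d => δ (i d)) d a d' +
        secDivFun δ N (i d) (v (i d)) (i d')) ∧ (d ∉ Set.range ⇑j → a = 1) := by
    intro d
    by_cases hd : d ∈ Set.range ⇑j
    · obtain ⟨a, ha, ha'⟩ := exists_secDivFun_eq_add hNi (fun d => δ (i d))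
        (fib_ne_zero i hN (hv (i d))) (hu d)
      refine ⟨a, ha, fun d' => ?_, fun h => absurd hd h⟩
      rw [ha', Pi.add_apply, secDivFun_fib i hN δ d d' (hv (i d))]
    · refine ⟨1, one_ne_zero, fun d' => ?_, fun _ => rfl⟩
      rw [H d hd d', divFun_one]
      simp
  choose a ha ha' ha1 using key
  refine (ratZ_restrict (X := D) (δ := fun d => δ (i d)) (k := k) j (ι := {d : D // g d ≠ 0})
    (ξ := fun d => d.1) (f := fun d => a d.1 ^ g d.1) (fun d => hGk d.1 d.2)
    (fun d => zpow_ne_zero _ (ha d.1)) (locFin_support g) ?_).congr fun z => ?_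
  · intro d hd w
    dsimp only at hd ⊢
    rw [ha1 d.1 hd, one_zpow, divFun_one]
    rfl
  · dsimp only
    have e1 : c1CapFun δ N G v (i (j z)) =
        ∑ᶠ d : D, g d * secDivFun δ N (i d) (v (i d)) (i (j z)) := by
      rw [c1CapFun_apply, finsum_eq_comp ⇑i i.isEmbedding.injective]
      · exact finsum_congr fun d => by rw [hg]
      · intro x hx
        rw [hG0 x hx, zero_mul]
    have fin1 := finite_support_c1 (δ := fun d => δ (i d)) g (j z) u
    have fin2 : (Function.support fun d => g d * secDivFun δ N (i d) (v (i d)) (i (j z))).Finite :=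
      finite_support_mul g (j z) _ fun d hd =>
        (DivNat.specializes_iff i (j z) d).1 (secDivFun_ne_zero hd).1
    rw [e1, c1CapFun_apply, ← finsum_sub_distrib fin1 fin2]
    have e2 : ∀ d : D, g d * secDivFun (fun d => δ (i d)) ((Scheme.Modules.pullback i).obj N) d
        (u d) (j z) - g d * secDivFun δ N (i d) (v (i d)) (i (j z)) =
          g d * divFun (fun d => δ (i d)) d (a d) (j z) := by
      intro d
      rw [ha' d]
      ring
    rw [finsum_congr e2, ← RatTransport.finsum_subtype_eq (fun d : D => g d ≠ 0)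
      (fun d : D => g d * divFun (fun d => δ (i d)) d (a d) (j z))]
    · refine finsum_congr fun d => ?_
      rw [OrdFrac.divFun_zpow, Pi.smul_apply, smul_eq_mul]
    · intro d hd
      rw [not_not] at hd
      rw [hd, zero_mul]

theorem isZeroSchemeOf_comp_iso {D' : Scheme.{u}} (e : D' ⟶ D) [IsIso e] {i : D ⟶ X}
    {L : X.Modules} {s : L.presheaf.obj (op ⊤)} (h : IsZeroSchemeOf i L s) :
    IsZeroSchemeOf (e ≫ i) L s := by
  have hs : Function.Surjective ⇑e := e.surjective
  refine ⟨?_, fun d => ?_⟩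
  · rw [← h.1]
    ext x
    constructor
    · rintro ⟨d, rfl⟩
      exact ⟨e d, rfl⟩
    · rintro ⟨d, rfl⟩
      obtain ⟨d', rfl⟩ := hs d
      exact ⟨d', rfl⟩
  · obtain ⟨t, f, h1, h2, h3⟩ := h.2 (e d)
    refine ⟨t, f, h1, h2, Eq.trans ?_ h3⟩
    have hinj : Function.Injective (e.stalkMap d).hom :=
      (ConcreteCategory.bijective_of_isIso (e.stalkMap d)).1
    have e1 : (e ≫ i).stalkMap d = i.stalkMap (e d) ≫ e.stalkMap d :=
      Scheme.Hom.stalkMap_comp e i d
    ext a
    change ((e ≫ i).stalkMap d).hom a = 0 ↔ (i.stalkMap (e d)).hom a = 0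
    have e2 : ((e ≫ i).stalkMap d).hom a = (e.stalkMap d).hom ((i.stalkMap (e d)).hom a) :=
      congr($(e1).hom a)
    rw [e2]
    exact map_eq_zero_iff _ hinj

theorem isZeroSchemeOf_fst_of_snd {D' : Scheme.{u}} (i : D ⟶ X) (i' : D' ⟶ X) {M : D'.Modules}
    {σ : M.presheaf.obj (op ⊤)} (h : IsZeroSchemeOf (pullback.snd i i') M σ) :
    IsZeroSchemeOf (pullback.fst i' i) M σ := by
  have e : pullback.fst i' i = (pullbackSymmetry i' i).hom ≫ pullback.snd i i' := by simp
  rw [e]
  exact isZeroSchemeOf_comp_iso _ h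

end Groth.Agent.CycB.GysinCap
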