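import Groth.Agent.CycB.GysinLen2
import Groth.Agent.CycB.FiberStalk
import Groth.Agent.CycB.RelDim3
import Mathlib.RingTheory.AlgebraicIndependent.Transcendental

/-!
# Localizing the local ring of a fibre at a generization

* `locLen_quot`: `ℓ((O_x/I)_ξ) = ℓ(O_ξ/IO_ξ)`;
* `map_fibIdeal`: for `ξ ⤳ x` in the same fibre of `p`, `m_y O_x` generates `m_y O_ξ`;
* `fibIdeal_le_primeOf_iff`: `m_{p x} O_x ≤ 𝔭_ξ ↔ p ξ = p x`.
-/

set_option autoImplicit false
universe u v w

open CategoryTheory CategoryTheory.Limits AlgebraicGeometry TopologicalSpace Pointwise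

namespace Groth.Agent.CycB.GysinFib

open Groth.Agent.CycB.LocQuot Groth.Agent.CycB.StalkLen Groth.Agent.CycB.FiberStalk

variable {X Y : Scheme.{u}}

theorem locLen_quot {x ξ : X} (h : ξ ⤳ x) (I : Ideal (X.presheaf.stalk x)) :
    locLen (primeOf h) (X.presheaf.stalk x ⧸ I) =
      Module.length (X.presheaf.stalk ξ)
        (X.presheaf.stalk ξ ⧸ I.map (X.presheaf.stalkSpecializes h).hom) := by
  letI := StalkLoc.specAlg h
  haveI := isLocalization_primeOf h
  have h1 := length_localization_eq (primeOf h).asIdeal (X.presheaf.stalk ξ)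
    (Submodule.toLocalizedQuotient' (X.presheaf.stalk ξ) (primeOf h).asIdeal.primeCompl
      (Algebra.linearMap (X.presheaf.stalk x) (X.presheaf.stalk ξ)) I)
  rw [Ideal.localized'_eq_map] at h1
  exact h1

theorem map_maximalIdeal_stalkSpecializes {y y' : Y} (h : y ⤳ y') (e : y = y') :
    (IsLocalRing.maximalIdeal (Y.presheaf.stalk y')).map (Y.presheaf.stalkSpecializes h).hom =
      IsLocalRing.maximalIdeal (Y.presheaf.stalk y) := by
  subst e
  rw [TopCat.Presheaf.stalkSpecializes_refl]
  exact Ideal.map_id _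

theorem map_fibIdeal (p : X ⟶ Y) {x ξ : X} (h : ξ ⤳ x) (e : p ξ = p x) :
    (fibIdeal p x).map (X.presheaf.stalkSpecializes h).hom = fibIdeal p ξ := by
  unfold fibIdeal
  rw [Ideal.map_map, ← CommRingCat.hom_comp, ← Scheme.Hom.stalkSpecializes_stalkMap p ξ x h,
    CommRingCat.hom_comp, ← Ideal.map_map,
    map_maximalIdeal_stalkSpecializes (h.map p.continuous) e]

theorem fibIdeal_le_primeOf_iff (p : X ⟶ Y) {x ξ : X} (h : ξ ⤳ x) :
    fibIdeal p x ≤ (primeOf h).asIdeal ↔ p ξ = p x := by
  rw [Ideal.map_le_iff_le_comap]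
  have h1 : (primeOf h).asIdeal.comap (p.stalkMap x).hom =
      (primeOf (h.map p.continuous)).asIdeal := by
    rw [primeOf_asIdeal, primeOf_asIdeal]
    ext a
    rw [Ideal.mem_comap, RingHom.mem_ker, RingHom.mem_ker, ← DivNat.residueFieldMap_specMap]
    exact map_eq_zero_iff _ (p.residueFieldMap ξ).hom.injective
  rw [h1]
  constructor
  · intro hle
    have h2 : primeOf (h.map p.continuous) = primeOf (specializes_refl (p x)) := by
      rw [primeOf_refl]
      apply PrimeSpectrum.ext
      exact le_antisymm (IsLocalRing.le_maximalIdeal (primeOf (h.map p.continuous)).2.ne_top) hle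
    exact (primeOf_inj _ _).mp h2
  · intro e
    have h2 : primeOf (h.map p.continuous) = primeOf (specializes_refl (p x)) :=
      (primeOf_inj _ _).mpr e
    rw [h2, primeOf_refl]
    rfl

theorem locLen_fib (p : X ⟶ Y) {x ξ : X} (h : ξ ⤳ x) (e : p ξ = p x) :
    locLen (primeOf h) (X.presheaf.stalk x ⧸ fibIdeal p x) =
      Module.length (X.presheaf.stalk ξ) (X.presheaf.stalk ξ ⧸ fibIdeal p ξ) := by
  rw [locLen_quot, map_fibIdeal p h e]

theorem mem_support_fib_iff (p : X ⟶ Y) {x ξ : X} (h : ξ ⤳ x) :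
    primeOf h ∈ Module.support (X.presheaf.stalk x) (X.presheaf.stalk x ⧸ fibIdeal p x) ↔
      p ξ = p x := by
  rw [Module.support_eq_zeroLocus, Ideal.annihilator_quotient, PrimeSpectrum.mem_zeroLocus,
    SetLike.coe_subset_coe]
  exact fibIdeal_le_primeOf_iff p h


/-- Let `D = Z(f)` near `i d`, `f` regular, `D` flat over `Y`. Then `f` is regular on
`O_x/m_yO_x`. -/
theorem injective_smul_fib {D : Scheme.{u}} (p : X ⟶ Y) (i : D ⟶ X) [IsClosedImmersion i]
    [Flat (i ≫ p)] (d : D) (f : X.presheaf.stalk (i d))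
    (hk : RingHom.ker (i.stalkMap d).hom = Ideal.span {f})
    (hf : Function.Injective (fun b : X.presheaf.stalk (i d) => b * f)) :
    Function.Injective (fun b : X.presheaf.stalk (i d) ⧸ fibIdeal p (i d) => f • b) := by
  letI := (p.stalkMap (i d)).hom.toAlgebra
  letI := (i.stalkMap d).hom.toAlgebra
  letI := ((i.stalkMap d).hom.comp (p.stalkMap (i d)).hom).toAlgebra
  haveI : IsScalarTower (Y.presheaf.stalk (p (i d))) (X.presheaf.stalk (i d))
      (D.presheaf.stalk d) := IsScalarTower.of_algebraMap_eq fun _ => rfl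
  haveI : Module.Flat (Y.presheaf.stalk (p (i d))) (D.presheaf.stalk d) := by
    have h1 := Flat.stalkMap (i ≫ p) d
    rw [Scheme.Hom.stalkMap_comp] at h1
    exact h1
  exact GysinLen.injective_quot_of_flat (A := Y.presheaf.stalk (p (i d)))
    (B := X.presheaf.stalk (i d)) (C := D.presheaf.stalk d) (i.stalkMap_surjective d) f hk hf _

theorem length_quot_fib {D : Scheme.{u}} (p : X ⟶ Y) (i : D ⟶ X) [IsClosedImmersion i]
    (d : D) (f : X.presheaf.stalk (i d))
    (hk : RingHom.ker (i.stalkMap d).hom = Ideal.span {f}) :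
    Module.length (D.presheaf.stalk d) (D.presheaf.stalk d ⧸ fibIdeal (i ≫ p) d) =
      Module.length (X.presheaf.stalk (i d)) ((X.presheaf.stalk (i d) ⧸ fibIdeal p (i d)) ⧸
        f • (⊤ : Submodule (X.presheaf.stalk (i d))
          (X.presheaf.stalk (i d) ⧸ fibIdeal p (i d)))) := by
  letI := (i.stalkMap d).hom.toAlgebra
  rw [← GysinLen.length_quot_map_eq (B := X.presheaf.stalk (i d)) (C := D.presheaf.stalk d)
    (i.stalkMap_surjective d) f hk (fibIdeal p (i d))]
  have : fibIdeal (i ≫ p) d = (fibIdeal p (i d)).map (i.stalkMap d).hom := by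
    unfold fibIdeal
    rw [Ideal.map_map, Scheme.Hom.stalkMap_comp]
    rfl
  rw [this]
  rfl

theorem deltaCompat_closedImmersion {D : Scheme.{u}} (i : D ⟶ X) [SurjectiveOnStalks i]
    (δX : X → ℤ) : Cyc.DeltaCompat i (fun d => δX (i d)) δX := by
  intro d
  refine ⟨0, ?_, by simp⟩
  letI := (i.residueFieldMap d).hom.toAlgebra
  have hb : Function.Bijective (algebraMap (X.residueField (i d)) (D.residueField d)) :=
    DivNat.residueFieldMap_bijective i d
  haveI : Algebra.IsAlgebraic (X.residueField (i d)) (D.residueField d) :=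
    ⟨fun x => by obtain ⟨y, rfl⟩ := hb.2 x; exact isAlgebraic_algebraMap y⟩
  change Algebra.trdeg (X.residueField (i d)) (D.residueField d) = _
  rw [trdeg_eq_zero]
  simp

end Groth.Agent.CycB.GysinFib
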