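import Groth.Agent.CycB.GysinCl
import Groth.Agent.CycB.C1Flat
import Groth.Agent.CycB.FlatLength

/-!
# The Gysin map and flat pullback
-/

set_option autoImplicit false

universe u v

open CategoryTheory CategoryTheory.Limits AlgebraicGeometry TopologicalSpace Opposite
open Groth.Agent.CycB.ModStalk Cyc

namespace Groth.Agent.CycB.GysinFlat

open C1Basic DivFun C1Cap C1Pull FlatDiv GysinCl

variable {X X' D : Scheme.{u}} (f : X' ⟶ X) {i : D ⟶ X} {L : X.Modules}
  {s : L.presheaf.obj (op ⊤)} {s' : ((Scheme.Modules.pullback f).obj L).presheaf.obj (op ⊤)}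

theorem fib_val (s : L.presheaf.obj (op ⊤)) {ξ x : X'} (h : ξ ⤳ x) {t : L.presheaf.stalk (f x)}
    {φ : X.presheaf.stalk (f x)} (hs : (L.presheaf.germ ⊤ (f x) trivial) s = φ • t) :
    fib f L ξ (val L s (f ξ)) = X'.presheaf.stalkSpecializes h (f.stalkMap x φ) •
      cl _ ξ (((Scheme.Modules.pullback f).obj L).presheaf.stalkSpecializes h
        (Fdesc.PullbackStalk.canAdd f L x t)) := by
  rw [val_eq_smul s (h.map f.continuous) hs, fib_smul, fib_cl, canAdd_stalkSpecializes f L h t]
  congr 1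
  exact ConcreteCategory.congr_hom (Scheme.Hom.stalkSpecializes_stalkMap f ξ x h) φ

/-- The order of the pullback of the value of a global section. -/
theorem secOrdAt_fib_val (hL : PicF.IsInvertible L) (s : L.presheaf.obj (op ⊤)) {ξ x : X'}
    (h : ξ ⤳ x) {t : L.presheaf.stalk (f x)} (ht : IsGen L (f x) t)
    {φ : X.presheaf.stalk (f x)} (hs : (L.presheaf.germ ⊤ (f x) trivial) s = φ • t)
    (h0 : val L s (f ξ) ≠ 0) :
    secOrdAt ((Scheme.Modules.pullback f).obj L) ξ x h (fib f L ξ (val L s (f ξ))) =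
      ordAt x ξ h (specMap x ξ h (f.stalkMap x φ)) := by
  have h1 : specMap x ξ h (f.stalkMap x φ) ≠ 0 := by
    have h2 := (val_ne_zero_iff_specMap hL s (h.map f.continuous) ht hs).1 h0
    have h3 := DivNat.residueFieldMap_specMap f x ξ h φ
    intro h4
    have h5 : (f.residueFieldMap ξ).hom (specMap (f x) (f ξ) (h.map f.continuous) φ) = 0 :=
      h3.trans h4
    exact h2 ((map_eq_zero _).1 h5)
  rw [fib_val f s h hs, secOrdAt_smul (isInvertible_pullback f hL) h (isGen_canAdd f ht) _
    (by rwa [residue_stalkSpecializes]), residue_stalkSpecializes]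

theorem secOrdAt_val_pullback [IsClosedImmersion i] (hL : PicF.IsInvertible L)
    (hD : IsZeroSchemeOf i L s)
    (hD' : IsZeroSchemeOf (pullback.fst f i) ((Scheme.Modules.pullback f).obj L) s')
    {ξ x : X'} (h : ξ ⤳ x) (h0 : val L s (f ξ) ≠ 0) :
    secOrdAt ((Scheme.Modules.pullback f).obj L) ξ x h
        (val ((Scheme.Modules.pullback f).obj L) s' ξ) =
      secOrdAt ((Scheme.Modules.pullback f).obj L) ξ x h (fib f L ξ (val L s (f ξ))) := by
  have hLf := isInvertible_pullback f hL
  by_cases hd : val L s (f x) = 0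
  swap
  · rw [secOrdAt_val_eq_zero hLf s' h ((val_restrict_ne_zero_iff hD hD' x).2 hd),
      secOrdAt_fib_val f hL s h (isGen_of_val_ne_zero hL s hd) (φ := 1) (one_smul _ _).symm h0,
      map_one]
    exact (ordAt_specMap_of_isUnit h isUnit_one).symm
  obtain ⟨t, φ, ht, hφ, hI⟩ := exists_stalkIdeal_eq hL hD ((mem_range_iff hD _).2 hd)
  have hd' : x ∈ Set.range ⇑(pullback.fst f i) := by
    rw [mem_range_iff hD']
    by_contra hcon
    exact (val_restrict_ne_zero_iff hD hD' x).1 hcon hd
  obtain ⟨z, rfl⟩ := hd'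
  obtain ⟨t₁, φ₁, ht₁, hφ₁, hI₁⟩ := hD'.2 z
  rw [ker_stalkMap_fst, hI, Ideal.map_span, Set.image_singleton] at hI₁
  have h2 : specMap _ ξ h ((f.stalkMap (pullback.fst f i z)).hom φ) ≠ 0 := by
    have h1 := (val_ne_zero_iff_specMap hL s (h.map f.continuous) ht hφ).1 h0
    rw [← DivNat.residueFieldMap_specMap]
    exact (map_ne_zero (f.residueFieldMap ξ).hom).mpr h1
  rw [secOrdAt_val hLf s' h (isGen_of_span_eq_top hLf ht₁) hφ₁
    ((val_restrict_ne_zero_iff hD hD' ξ).2 h0), secOrdAt_fib_val f hL s h ht hφ h0]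
  exact (ordAt_specMap_eq_of_span_eq h hI₁ h2).symm

theorem secDivFun_val_pullback [IsClosedImmersion i] (hL : PicF.IsInvertible L)
    (hD : IsZeroSchemeOf i L s)
    (hD' : IsZeroSchemeOf (pullback.fst f i) ((Scheme.Modules.pullback f).obj L) s')
    (δ' : X' → ℤ) {ξ : X'} (h0 : val L s (f ξ) ≠ 0) :
    secDivFun δ' ((Scheme.Modules.pullback f).obj L) ξ
        (val ((Scheme.Modules.pullback f).obj L) s' ξ) =
      secDivFun δ' ((Scheme.Modules.pullback f).obj L) ξ (fib f L ξ (val L s (f ξ))) := by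
  funext x
  unfold secDivFun
  split_ifs with h
  · exact secOrdAt_val_pullback f hL hD hD' h.1 h0
  · rfl

/-! ### multiplicities -/

theorem map_max_comp {Z W V : Scheme.{u}} (a : Z ⟶ W) (b : W ⟶ V) (z : Z) :
    Ideal.map ((a ≫ b).stalkMap z).hom (IsLocalRing.maximalIdeal (V.presheaf.stalk ((a ≫ b) z))) =
      Ideal.map (a.stalkMap z).hom (Ideal.map (b.stalkMap (a z)).hom
        (IsLocalRing.maximalIdeal (V.presheaf.stalk (b (a z))))) := by
  rw [Ideal.map_map, ← CommRingCat.hom_comp, ← Scheme.Hom.stalkMap_comp]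
  rfl

theorem map_max_congr {Z W : Scheme.{u}} {a b : Z ⟶ W} (h : a = b) (z : Z) :
    Ideal.map (a.stalkMap z).hom (IsLocalRing.maximalIdeal (W.presheaf.stalk (a z))) =
    Ideal.map (b.stalkMap z).hom (IsLocalRing.maximalIdeal (W.presheaf.stalk (b z))) := by
  subst h
  rfl

theorem length_quot_map_of_surjective {A B : Type u} [CommRing A] [CommRing B] (φ : A →+* B)
    (hφ : Function.Surjective φ) (I : Ideal A) (hI : RingHom.ker φ ≤ I) :
    Module.length B (B ⧸ I.map φ) = Module.length A (A ⧸ I) := by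
  let := φ.toAlgebra
  have h1 := Module.length_eq_of_surjective (S := A) (R := B) (M := B ⧸ I.map φ) hφ
  rw [← h1]
  let e0 : (A ⧸ I) →ₗ[A] (B ⧸ I.map φ) :=
    { toFun := Ideal.quotientMap (I.map φ) φ Ideal.le_comap_map
      map_add' := fun x y => map_add _ _ _
      map_smul' := by
        intro a x
        obtain ⟨x, rfl⟩ := Ideal.Quotient.mk_surjective x
        simp only [RingHom.id_apply]
        change Ideal.quotientMap (I.map φ) φ Ideal.le_comap_map (Ideal.Quotient.mk I (a * x)) = _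
        rw [Ideal.quotientMap_mk, map_mul, Ideal.quotientMap_mk]
        rfl }
  refine (LinearEquiv.ofBijective e0 ⟨?_, ?_⟩).length_eq.symm
  · refine Ideal.quotientMap_injective' (H := Ideal.le_comap_map) ?_
    rw [Ideal.comap_map_of_surjective _ hφ, ← RingHom.ker_eq_comap_bot]
    exact sup_le le_rfl hI
  · exact Ideal.quotientMap_surjective (H := Ideal.le_comap_map) hφ

/-- Base change along a closed immersion does not change the multiplicities of the fibres. -/
theorem mult_snd [IsClosedImmersion i] (z : ↥(pullback f i)) :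
    mult (pullback.snd f i) z = mult f (pullback.fst f i z) := by
  have e1 := map_max_congr (pullback.condition (f := f) (g := i)) z
  have e2 := map_max_comp (pullback.snd f i) i z
  rw [IsLocalRing.map_maximalIdeal_of_surjective _ (i.stalkMap_surjective _)] at e2
  rw [map_max_comp, e2] at e1
  unfold mult
  rw [← e1]
  refine length_quot_map_of_surjective _ ((pullback.fst f i).stalkMap_surjective z) _ ?_
  rw [ker_stalkMap_fst]
  refine Ideal.map_mono ?_
  have h1 : f (pullback.fst f i z) = i (pullback.snd f i z) :=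
    congrArg (fun g : pullback f i ⟶ X => g z) pullback.condition
  rw [h1, ← Divis.CartierStalk.ker_stalkMap]
  exact IsLocalRing.le_maximalIdeal (RingHom.ker_ne_top _)

/-! ### the comparison -/

section

variable {δ : X → ℤ} {δ' : X' → ℤ} [Flat f] [IsLocallyNoetherian X] [IsLocallyNoetherian X']

omit [Flat f] [IsLocallyNoetherian X] [IsLocallyNoetherian X'] in
theorem pullFun_snd [IsClosedImmersion i] (c : ℤ) (F : X → ℤ) (z : ↥(pullback f i)) :
    pullFun (pullback.snd f i) (fun z => δ' (pullback.fst f i z)) (fun d => δ (i d)) c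
      (fun d => F (i d)) z = pullFun f δ' δ c F (pullback.fst f i z) := by
  have h1 : f (pullback.fst f i z) = i (pullback.snd f i z) :=
    congrArg (fun g : pullback f i ⟶ X => g z) pullback.condition
  rw [C1Flat.pullFun_apply', C1Flat.pullFun_apply', mult_snd, h1]

/-- **Flat pullback commutes with the Gysin map** of the zero scheme of a section. -/
theorem ratEquiv_gysin [IsClosedImmersion i] (c : ℤ) (hδ : IsDimFun X δ) (hδ' : IsDimFun X' δ')
    (hc : ∀ x' : X', FibGen f x' → δ' x' = δ (f x') + c) (hL : PicF.IsInvertible L)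
    (hD : IsZeroSchemeOf i L s)
    (hD' : IsZeroSchemeOf (pullback.fst f i) ((Scheme.Modules.pullback f).obj L) s')
    (k : ℤ) (α : AlgebraicCycle X ℤ) (hα : α ∈ Zk X δ (k + 1)) (w : (ξ : X) → secFibre L ξ)
    (hw : ∀ ξ, w ξ ≠ 0) (w' : (ξ : X') → secFibre ((Scheme.Modules.pullback f).obj L) ξ)
    (hw' : ∀ ξ, w' ξ ≠ 0) (ζ₁ ζ₂ : AlgebraicCycle (pullback f i) ℤ)
    (h₁ : ∀ z, ζ₁ z = c1CapFun δ' ((Scheme.Modules.pullback f).obj L) (pullFun f δ' δ c ⇑α)
      (gysinChoice ((Scheme.Modules.pullback f).obj L) s' w') (pullback.fst f i z))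
    (h₂ : ⇑ζ₂ = pullFun (pullback.snd f i) (fun z => δ' (pullback.fst f i z)) (fun d => δ (i d)) c
      (fun d => c1CapFun δ L ⇑α (gysinChoice L s w) (i d))) :
    RatEquiv (fun z => δ' (pullback.fst f i z)) (k + c) ζ₁ ζ₂ := by
  obtain ⟨β, hβ⟩ := GenLocFin.exists_pullFun_cycle f c hδ' hc α
  have hβk : β ∈ Zk X' δ' (k + 1 + c) := GenLocFin.pullFun_mem_Zk f hα hβ
  have hLf : PicF.IsInvertible ((Scheme.Modules.pullback f).obj L) := isInvertible_pullback f hL
  -- the two families of sections
  set s₁ : (ξ : X') → secFibre ((Scheme.Modules.pullback f).obj L) ξ := gysinChoice ((Scheme.Modules.pullback f).obj L) s' w' with hs₁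
  set s₂ : (ξ : X') → secFibre ((Scheme.Modules.pullback f).obj L) ξ := fun ξ => fib f L ξ (gysinChoice L s w (f ξ)) with hs₂
  have h₁' : ∀ z, ζ₁ z = c1CapFun δ' ((Scheme.Modules.pullback f).obj L) ⇑β s₁ (pullback.fst f i z) := fun z => by
    rw [h₁, hβ]
  have h₂' : ∀ z, ζ₂ z = c1CapFun δ' ((Scheme.Modules.pullback f).obj L) ⇑β s₂ (pullback.fst f i z) := fun z => by
    rw [h₂, pullFun_snd f c (c1CapFun δ L ⇑α (gysinChoice L s w)) z,
      C1Flat.pullFun_c1CapFun f c hδ hδ' hc hL α _ (fun ξ _ => gysinChoice_ne_zero s hw ξ), hβ]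
  have hs₁0 : ∀ ξ, s₁ ξ ≠ 0 := fun ξ => gysinChoice_ne_zero s' hw' ξ
  have hs₂0 : ∀ ξ, s₂ ξ ≠ 0 := fun ξ => fib_ne_zero f hL (gysinChoice_ne_zero s hw (f ξ))
  -- outside `D'` the two divisors agree
  have hout : ∀ ξ, ξ ∉ Set.range ⇑(pullback.fst f i) →
      secDivFun δ' ((Scheme.Modules.pullback f).obj L) ξ (s₁ ξ) = secDivFun δ' ((Scheme.Modules.pullback f).obj L) ξ (s₂ ξ) := by
    intro ξ hξ
    rw [mem_range_iff hD'] at hξ
    have h0 := (val_restrict_ne_zero_iff hD hD' ξ).1 hξ
    simp only [hs₁, hs₂]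
    rw [gysinChoice_of_ne s' w' hξ, gysinChoice_of_ne s w h0]
    exact secDivFun_val_pullback f hL hD hD' δ' h0
  have key : ∀ z : ↥(pullback f i), ∃ g : X'.residueField (pullback.fst f i z), g ≠ 0 ∧
      secDivFun δ' ((Scheme.Modules.pullback f).obj L) (pullback.fst f i z) (s₁ _) =
        divFun δ' (pullback.fst f i z) g + secDivFun δ' ((Scheme.Modules.pullback f).obj L) (pullback.fst f i z) (s₂ _) := fun z =>
    exists_secDivFun_eq_add hLf δ' (hs₂0 _) (hs₁0 _)
  choose g hg hgs using key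
  have hinj : Function.Injective ⇑(pullback.fst f i) := (pullback.fst f i).isClosedEmbedding.injective
  refine ratEquivZero_of (ι := {z : ↥(pullback f i) // β (pullback.fst f i z) ≠ 0}) (fun z => z.1)
    (fun z => ((pullback.fst f i).residueFieldMap z.1).hom
      (g z.1 ^ β (pullback.fst f i z.1))) (fun z => ?_)
    (fun z => (map_ne_zero _).2 (zpow_ne_zero _ (hg z.1)))
    (locFin_support (RatTransport.comapCycle (pullback.fst f i) hinj β)) _ fun x => ?_
  · by_contra h
    refine z.2 (hβk _ fun h' => h ?_)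
    rw [h']; ring
  · rw [Function.locallyFinsuppWithin.coe_sub, Pi.sub_apply, h₁', h₂', c1CapFun_apply,
      c1CapFun_apply, ← finsum_sub_distrib (finite_support_c1 β _ s₁) (finite_support_c1 β _ s₂)]
    have h1 : ∀ z : {z : ↥(pullback f i) // β (pullback.fst f i z) ≠ 0},
        divFun (fun z => δ' (pullback.fst f i z)) z.1 (((pullback.fst f i).residueFieldMap z.1).hom
      (g z.1 ^ β (pullback.fst f i z.1))) x =
        β (pullback.fst f i z.1) * secDivFun δ' ((Scheme.Modules.pullback f).obj L) (pullback.fst f i z.1) (s₁ _)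
          (pullback.fst f i x) - β (pullback.fst f i z.1) *
            secDivFun δ' ((Scheme.Modules.pullback f).obj L) (pullback.fst f i z.1) (s₂ _) (pullback.fst f i x) := by
      intro z
      rw [DivNat.divFun_residueFieldMap, OrdFrac.divFun_zpow, hgs z.1, Pi.smul_apply, Pi.add_apply,
        smul_eq_mul]
      ring
    rw [finsum_congr h1, RatTransport.finsum_subtype_eq
      (fun z : ↥(pullback f i) => β (pullback.fst f i z) ≠ 0)
      (fun z => β (pullback.fst f i z) * secDivFun δ' ((Scheme.Modules.pullback f).obj L) (pullback.fst f i z) (s₁ _)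
          (pullback.fst f i x) - β (pullback.fst f i z) *
            secDivFun δ' ((Scheme.Modules.pullback f).obj L) (pullback.fst f i z) (s₂ _) (pullback.fst f i x))
      (fun z hz => by rw [not_not] at hz; rw [hz]; ring)]
    refine (finsum_comp_injective (pullback.fst f i) hinj (fun ξ =>
      β ξ * secDivFun δ' ((Scheme.Modules.pullback f).obj L) ξ (s₁ _) (pullback.fst f i x) - β ξ *
            secDivFun δ' ((Scheme.Modules.pullback f).obj L) ξ (s₂ _) (pullback.fst f i x)) ?_).symm
    intro ξ hξ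
    rw [hout ξ hξ, sub_self]

end

end Groth.Agent.CycB.GysinFlat
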