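import Groth.Agent.CycB.StalkLen
import Groth.Agent.CycB.C1Basic
import Groth.Agent.Fdesc.PullbackStalk
import Mathlib.LinearAlgebra.TensorProduct.Quotient

/-!
# The Gysin map on cycles of coherent sheaves, pointwise

* `cl_germ_eq_zero_iff`, `secOrdAt_germ`: the order of a global section of an invertible module
  along a specialization;
* `c1CapFun_gysin`: the coefficient at `x` of `c_1(L) ∩ α` computed with the
  Gysin choice of sections is `c * ℓ(N/fN)` when the coefficients of `α` near `x` are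
  `c * ℓ(N_ξ)`;
* `injective_quot_of_flat`: slicing: if `B/fB` is flat over `A` and `f` is regular on `B` then
  `f` is regular on `B/IB`.
-/

set_option autoImplicit false
universe u v w

open CategoryTheory CategoryTheory.Limits AlgebraicGeometry TopologicalSpace Pointwise

namespace Groth.Agent.CycB.GysinLen

open Groth.Agent.CycB.LocQuot Groth.Agent.CycB.ModStalk Groth.Agent.CycB.C1Basic
open Groth.Agent.CycB.StalkLen

variable {X : Scheme.{u}} {L : X.Modules}

theorem germ_eq_smul {ξ x : X} (h : ξ ⤳ x) (s : Γ(L, ⊤)) {t : L.presheaf.stalk x}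
    {f : X.presheaf.stalk x} (hs : L.presheaf.germ ⊤ x trivial s = f • t) :
    L.presheaf.germ ⊤ ξ trivial s =
      X.presheaf.stalkSpecializes h f • L.presheaf.stalkSpecializes h t := by
  rw [← stalkSpecializes_smul, ← hs]
  exact (TopCat.Presheaf.germ_stalkSpecializes_apply L.presheaf (U := ⊤) trivial h s).symm

theorem cl_germ_eq_zero_iff (hL : PicF.IsInvertible L) {ξ x : X} (h : ξ ⤳ x) (s : Γ(L, ⊤))
    {t : L.presheaf.stalk x} (ht : IsGen L x t)
    {f : X.presheaf.stalk x} (hs : L.presheaf.germ ⊤ x trivial s = f • t) :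
    cl L ξ (L.presheaf.germ ⊤ ξ trivial s) = 0 ↔ Cyc.specMap x ξ h f = 0 := by
  rw [germ_eq_smul h s hs, map_smul, smul_cl_eq_zero_iff (ht.stalkSpecializes hL h)]
  rfl

theorem secOrdAt_germ (hL : PicF.IsInvertible L) {ξ x : X} (h : ξ ⤳ x) (s : Γ(L, ⊤))
    {t : L.presheaf.stalk x} (ht : IsGen L x t)
    {f : X.presheaf.stalk x} (hs : L.presheaf.germ ⊤ x trivial s = f • t)
    (hf : Cyc.specMap x ξ h f ≠ 0) :
    Cyc.secOrdAt L ξ x h (cl L ξ (L.presheaf.germ ⊤ ξ trivial s)) =
      Cyc.ordAt x ξ h (Cyc.specMap x ξ h f) := by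
  rw [germ_eq_smul h s hs, map_smul]
  exact secOrdAt_smul hL h ht (X.presheaf.stalkSpecializes h f) hf

/-- The divisor of the Gysin choice of sections, at a specialization not in the zero scheme. -/
theorem secDivFun_gysinChoice (δ : X → ℤ) (hL : PicF.IsInvertible L) {ξ x : X} (h : ξ ⤳ x)
    (hd : δ x + 1 = δ ξ) (s : Γ(L, ⊤)) (w : (ξ : X) → Cyc.secFibre L ξ)
    {t : L.presheaf.stalk x} (ht : IsGen L x t)
    {f : X.presheaf.stalk x} (hs : L.presheaf.germ ⊤ x trivial s = f • t)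
    (hf : Cyc.specMap x ξ h f ≠ 0) :
    Cyc.secDivFun δ L ξ (Cyc.gysinChoice L s w ξ) x =
      Cyc.ordAt x ξ h (Cyc.specMap x ξ h f) := by
  have h1 : Cyc.gysinChoice L s w ξ = cl L ξ (L.presheaf.germ ⊤ ξ trivial s) := by
    unfold Cyc.gysinChoice
    rw [if_pos]
    · rfl
    · intro h0
      exact hf ((cl_germ_eq_zero_iff hL h s ht hs).mp h0)
  rw [h1, Cyc.secDivFun, dif_pos ⟨h, hd⟩, secOrdAt_germ hL h s ht hs hf]

/-- The coefficient at `x` of `c_1(L) ∩ α` (Gysin choice of sections) is `c * ℓ(N/fN)` if the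
coefficients of `α` near `x` are `c * ℓ(N_ξ)` for a finite `O_{X,x}`-module `N` on which `f` is
regular. -/
theorem c1CapFun_gysin [IsLocallyNoetherian X] {δ : X → ℤ} (hδ : Cyc.IsDimFun X δ)
    (hL : PicF.IsInvertible L) (s : Γ(L, ⊤)) (w : (ξ : X) → Cyc.secFibre L ξ) (α : X → ℤ) (x : X)
    {t : L.presheaf.stalk x} (ht : IsGen L x t)
    {f : X.presheaf.stalk x} (hs : L.presheaf.germ ⊤ x trivial s = f • t)
    (N : Type v) [AddCommGroup N] [Module (X.presheaf.stalk x) N]
    [Module.Finite (X.presheaf.stalk x) N]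
    (hdim : ∀ (ξ : X) (h : ξ ⤳ x), primeOf h ∈ Module.support (X.presheaf.stalk x) N →
      δ ξ ≤ δ x + 1) (hf : Function.Injective (fun m : N => f • m)) (c : ℤ)
    (hα : ∀ (ξ : X) (h : ξ ⤳ x), δ x + 1 = δ ξ → α ξ = c * ((locLen (primeOf h) N).toNat : ℤ)) :
    Cyc.c1CapFun δ L α (Cyc.gysinChoice L s w) x =
      c * ((Module.length (X.presheaf.stalk x)
        (N ⧸ f • (⊤ : Submodule (X.presheaf.stalk x) N))).toNat : ℤ) := by
  classical
  rw [(length_quot_eq_finsum hδ x N hdim f hf).2, Cyc.c1CapFun, mul_finsum]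
  refine finsum_congr fun ξ => ?_
  by_cases h : ξ ⤳ x ∧ δ x + 1 = δ ξ
  · rw [dif_pos h, hα ξ h.1 h.2]
    by_cases hN : primeOf h.1 ∈ Module.support (X.presheaf.stalk x) N
    · have hnm := notMem_primeOf hδ x N hdim f hf h.1 h.2 hN
      have hne : Cyc.specMap x ξ h.1 f ≠ 0 := by
        rw [primeOf_asIdeal] at hnm
        exact hnm
      rw [secDivFun_gysinChoice δ hL h.1 h.2 s w ht hs hne]
      ring
    · rw [← locLen_eq_zero_iff] at hN
      rw [hN]
      simp
  · rw [dif_neg h, Cyc.secDivFun, dif_neg h, mul_zero, mul_zero]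

end Groth.Agent.CycB.GysinLen
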