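import Groth.Agent.CycB.GysinLen
import Mathlib.RingTheory.Flat.Equalizer
import Mathlib.AlgebraicGeometry.Morphisms.ClosedImmersion

/-!
# Lengths on the zero scheme of a section
-/

set_option autoImplicit false
universe u v w

open CategoryTheory CategoryTheory.Limits AlgebraicGeometry TopologicalSpace Pointwise
open TensorProduct

namespace Groth.Agent.CycB.GysinLen

section Algebra

/-- `ℓ_S(S ⊗ M) = ℓ_R(M/fM)` for `S = R/(f)`. -/
theorem length_baseChange_of_surjective {R : Type u} {S : Type v} [CommRing R] [CommRing S]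
    [Algebra R S] (hs : Function.Surjective (algebraMap R S)) (f : R)
    (hk : RingHom.ker (algebraMap R S) = Ideal.span {f}) (M : Type w) [AddCommGroup M]
    [Module R M] :
    Module.length S (S ⊗[R] M) = Module.length R (M ⧸ f • (⊤ : Submodule R M)) := by
  have h1 : Module.length R (S ⊗[R] M) = Module.length S (S ⊗[R] M) :=
    (Module.length_eq_of_surjective (M := S ⊗[R] M) hs)
  have hs' : Function.Surjective (Algebra.ofId R S) := hs
  let e : (R ⧸ RingHom.ker (algebraMap R S)) ≃ₗ[R] S :=
    (Ideal.quotientKerAlgEquivOfSurjective hs').toLinearEquiv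
  let e2 : S ⊗[R] M ≃ₗ[R] (R ⧸ RingHom.ker (algebraMap R S)) ⊗[R] M :=
    TensorProduct.congr e.symm (LinearEquiv.refl R M)
  let e3 := TensorProduct.quotTensorEquivQuotSMul M (RingHom.ker (algebraMap R S))
  rw [← h1, (e2.trans e3).length_eq, hk, Submodule.ideal_span_singleton_smul]

/-- Slicing: if `B/fB` is flat over `A` and `f` is a nonzerodivisor of `B`, then `f` is a
nonzerodivisor on `B/IB`. -/
theorem injective_quot_of_flat {A : Type u} {B : Type v} {C : Type w} [CommRing A] [CommRing B]
    [CommRing C] [Algebra A B] [Algebra A C] [Algebra B C] [IsScalarTower A B C]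
    (hs : Function.Surjective (algebraMap B C)) (f : B)
    (hk : RingHom.ker (algebraMap B C) = Ideal.span {f}) [Module.Flat A C]
    (hf : Function.Injective (fun b : B => b * f)) (I : Ideal A) :
    Function.Injective (fun b : B ⧸ I.map (algebraMap A B) => f • b) := by
  let g : B →ₗ[A] B := (LinearMap.lsmul B B f).restrictScalars A
  let π : B →ₗ[A] C := (IsScalarTower.toAlgHom A B C).toLinearMap
  have hg : Function.Injective g := by
    intro a b hab
    apply hf
    change a * f = b * f
    rw [mul_comm a, mul_comm b]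
    exact hab
  have hex : Function.Exact g π := by
    intro b
    change algebraMap B C b = 0 ↔ ∃ a, f • a = b
    rw [← RingHom.mem_ker, hk, Ideal.mem_span_singleton']
    constructor
    · rintro ⟨a, rfl⟩
      exact ⟨a, by rw [smul_eq_mul, mul_comm]⟩
    · rintro ⟨a, rfl⟩
      exact ⟨a, by rw [smul_eq_mul, mul_comm]⟩
  have hinj := LinearMap.lTensor_injective_of_exact_of_flat π hs g hg hex (A ⧸ I)
  -- transport along the equivalence
  let e := TensorProduct.quotTensorEquivQuotSMul B I
  change Function.Injective (LinearMap.lsmul B (B ⧸ I.map (algebraMap A B)) f)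
  rw [injective_iff_map_eq_zero]
  intro b hb
  obtain ⟨b, rfl⟩ := Ideal.Quotient.mk_surjective b
  change Ideal.Quotient.mk _ (f * b) = 0 at hb
  rw [Ideal.Quotient.eq_zero_iff_mem] at hb ⊢
  have hmem : ∀ c : B, c ∈ I.map (algebraMap A B) ↔ (1 : A ⧸ I) ⊗ₜ[A] c = 0 := by
    intro c
    rw [← e.map_eq_zero_iff]
    have : e ((1 : A ⧸ I) ⊗ₜ[A] c) = Submodule.Quotient.mk c :=
      TensorProduct.quotTensorEquivQuotSMul_mk_one_tmul I c
    rw [this, Submodule.Quotient.mk_eq_zero, Ideal.smul_top_eq_map, Submodule.restrictScalars_mem]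
  rw [hmem] at hb ⊢
  apply hinj
  rw [LinearMap.lTensor_tmul, map_zero]
  exact hb

/-- `ℓ_C(C/JC) = ℓ_B(N/fN)` with `N = B/J` and `C = B/fB`. -/
theorem length_quot_map_eq {B : Type u} {C : Type v} [CommRing B] [CommRing C] [Algebra B C]
    (hs : Function.Surjective (algebraMap B C)) (f : B)
    (hk : RingHom.ker (algebraMap B C) = Ideal.span {f}) (J : Ideal B) :
    Module.length C (C ⧸ J.map (algebraMap B C)) =
      Module.length B ((B ⧸ J) ⧸ f • (⊤ : Submodule B (B ⧸ J))) := by
  rw [← length_baseChange_of_surjective hs f hk, ← (Ideal.qoutMapEquivTensorQout C).length_eq]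

end Algebra

section Scheme

variable {X D : Scheme.{u}}

/-- The length of the stalk of the restriction of a module to the zero scheme of a section. -/
theorem length_stalk_pullback_closed (i : D ⟶ X) [IsClosedImmersion i] (d : D)
    (f : X.presheaf.stalk (i d)) (hk : RingHom.ker (i.stalkMap d).hom = Ideal.span {f})
    (F : X.Modules) :
    Module.length (D.presheaf.stalk d) (((Scheme.Modules.pullback i).obj F).presheaf.stalk d) =
      Module.length (X.presheaf.stalk (i d)) (F.presheaf.stalk (i d) ⧸
        f • (⊤ : Submodule (X.presheaf.stalk (i d)) (F.presheaf.stalk (i d)))) := by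
  letI := Fdesc.PullbackStalk.stalkAlg i d
  rw [← (Fdesc.PullbackStalk.stalkPullbackEquiv i F d).length_eq]
  exact length_baseChange_of_surjective (R := X.presheaf.stalk (i d)) (S := D.presheaf.stalk d)
    (i.stalkMap_surjective d) f hk _

end Scheme

end Groth.Agent.CycB.GysinLen
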