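import Groth.Agent.CycB.GysinFlat
import Groth.Agent.CycB.GysinFib
import Groth.Agent.CycB.C1Push

/-!
# The Gysin map and proper pushforward
-/

set_option autoImplicit false

universe u v

open CategoryTheory CategoryTheory.Limits AlgebraicGeometry TopologicalSpace Opposite
open Groth.Agent.CycB.ModStalk Cyc

namespace Groth.Agent.CycB.GysinPush

open C1Basic DivFun C1Cap C1Pull FlatDiv GysinCl GysinFlat C1Push

variable {X X' D : Scheme.{u}} (f : X' ⟶ X) {i : D ⟶ X} {L : X.Modules}
  {s : L.presheaf.obj (op ⊤)} {s' : ((Scheme.Modules.pullback f).obj L).presheaf.obj (op ⊤)}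
  {δ : X → ℤ} {δ' : X' → ℤ}

/-- **Change of sections.** The Gysin cycle on `D'` computed with `s'` and with `f^*s` are
rationally equivalent on `D'`. -/
theorem ratEquiv_choice [IsLocallyNoetherian X'] [IsClosedImmersion i]
    (hL : PicF.IsInvertible L)
    (hD : IsZeroSchemeOf i L s)
    (hD' : IsZeroSchemeOf (pullback.fst f i) ((Scheme.Modules.pullback f).obj L) s')
    (k : ℤ) (β : AlgebraicCycle X' ℤ) (hβk : β ∈ Zk X' δ' (k + 1)) (w : (ξ : X) → secFibre L ξ)
    (hw : ∀ ξ, w ξ ≠ 0) (w' : (ξ : X') → secFibre ((Scheme.Modules.pullback f).obj L) ξ)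
    (hw' : ∀ ξ, w' ξ ≠ 0) (ζ₁ ζ₂ : AlgebraicCycle (pullback f i) ℤ)
    (h₁' : ∀ z, ζ₁ z = c1CapFun δ' ((Scheme.Modules.pullback f).obj L) ⇑β
      (gysinChoice ((Scheme.Modules.pullback f).obj L) s' w') (pullback.fst f i z))
    (h₂' : ∀ z, ζ₂ z = c1CapFun δ' ((Scheme.Modules.pullback f).obj L) ⇑β
      (fun ξ => fib f L ξ (gysinChoice L s w (f ξ))) (pullback.fst f i z)) :
    RatEquiv (fun z => δ' (pullback.fst f i z)) k ζ₁ ζ₂ := by
  have hLf : PicF.IsInvertible ((Scheme.Modules.pullback f).obj L) := isInvertible_pullback f hL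
  -- the two families of sections
  set s₁ : (ξ : X') → secFibre ((Scheme.Modules.pullback f).obj L) ξ :=
    gysinChoice ((Scheme.Modules.pullback f).obj L) s' w' with hs₁
  set s₂ : (ξ : X') → secFibre ((Scheme.Modules.pullback f).obj L) ξ :=
    fun ξ => fib f L ξ (gysinChoice L s w (f ξ)) with hs₂
  have hs₁0 : ∀ ξ, s₁ ξ ≠ 0 := fun ξ => gysinChoice_ne_zero s' hw' ξ
  have hs₂0 : ∀ ξ, s₂ ξ ≠ 0 := fun ξ => fib_ne_zero f hL (gysinChoice_ne_zero s hw (f ξ))
  -- outside `D'` the two divisors agree
  have hout : ∀ ξ, ξ ∉ Set.range ⇑(pullback.fst f i) →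
      secDivFun δ' ((Scheme.Modules.pullback f).obj L) ξ (s₁ ξ) =
        secDivFun δ' ((Scheme.Modules.pullback f).obj L) ξ (s₂ ξ) := by
    intro ξ hξ
    rw [mem_range_iff hD'] at hξ
    have h0 := (val_restrict_ne_zero_iff hD hD' ξ).1 hξ
    simp only [hs₁, hs₂]
    rw [gysinChoice_of_ne s' w' hξ, gysinChoice_of_ne s w h0]
    exact secDivFun_val_pullback f hL hD hD' δ' h0
  have key : ∀ z : ↥(pullback f i), ∃ g : X'.residueField (pullback.fst f i z), g ≠ 0 ∧
      secDivFun δ' ((Scheme.Modules.pullback f).obj L) (pullback.fst f i z) (s₁ _) =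
        divFun δ' (pullback.fst f i z) g +
          secDivFun δ' ((Scheme.Modules.pullback f).obj L) (pullback.fst f i z) (s₂ _) := fun z =>
    exists_secDivFun_eq_add hLf δ' (hs₂0 _) (hs₁0 _)
  choose g hg hgs using key
  have hinj : Function.Injective ⇑(pullback.fst f i) :=
    (pullback.fst f i).isClosedEmbedding.injective
  refine ratEquivZero_of (ι := {z : ↥(pullback f i) // β (pullback.fst f i z) ≠ 0}) (fun z => z.1)
    (fun z => ((pullback.fst f i).residueFieldMap z.1).hom
      (g z.1 ^ β (pullback.fst f i z.1))) (fun z => ?_)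
    (fun z => (map_ne_zero _).2 (zpow_ne_zero _ (hg z.1)))
    (locFin_support (RatTransport.comapCycle (pullback.fst f i) hinj β)) _ fun x => ?_
  · by_contra h
    exact z.2 (hβk _ h)
  · rw [Function.locallyFinsuppWithin.coe_sub, Pi.sub_apply, h₁', h₂', c1CapFun_apply,
      c1CapFun_apply, ← finsum_sub_distrib (finite_support_c1 β _ s₁) (finite_support_c1 β _ s₂)]
    have h1 : ∀ z : {z : ↥(pullback f i) // β (pullback.fst f i z) ≠ 0},
        divFun (fun z => δ' (pullback.fst f i z)) z.1 (((pullback.fst f i).residueFieldMap z.1).hom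
      (g z.1 ^ β (pullback.fst f i z.1))) x =
        β (pullback.fst f i z.1) *
            secDivFun δ' ((Scheme.Modules.pullback f).obj L) (pullback.fst f i z.1) (s₁ _)
          (pullback.fst f i x) - β (pullback.fst f i z.1) *
            secDivFun δ' ((Scheme.Modules.pullback f).obj L) (pullback.fst f i z.1) (s₂ _)
              (pullback.fst f i x) := by
      intro z
      rw [DivNat.divFun_residueFieldMap, OrdFrac.divFun_zpow, hgs z.1, Pi.smul_apply, Pi.add_apply,
        smul_eq_mul]
      ring
    rw [finsum_congr h1, RatTransport.finsum_subtype_eq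
      (fun z : ↥(pullback f i) => β (pullback.fst f i z) ≠ 0)
      (fun z => β (pullback.fst f i z) *
          secDivFun δ' ((Scheme.Modules.pullback f).obj L) (pullback.fst f i z) (s₁ _)
          (pullback.fst f i x) - β (pullback.fst f i z) *
            secDivFun δ' ((Scheme.Modules.pullback f).obj L) (pullback.fst f i z) (s₂ _)
              (pullback.fst f i x))
      (fun z hz => by rw [not_not] at hz; rw [hz]; ring)]
    refine (finsum_comp_injective (pullback.fst f i) hinj (fun ξ =>
      β ξ * secDivFun δ' ((Scheme.Modules.pullback f).obj L) ξ (s₁ _) (pullback.fst f i x) - β ξ *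
            secDivFun δ' ((Scheme.Modules.pullback f).obj L) ξ (s₂ _)
              (pullback.fst f i x)) ?_).symm
    intro ξ hξ
    rw [hout ξ hξ, sub_self]

theorem condition_apply (z : ↥(pullback f i)) :
    f (pullback.fst f i z) = i (pullback.snd f i z) :=
  congrArg (fun g : pullback f i ⟶ X => g z) pullback.condition

theorem residueDegree_snd [IsClosedImmersion i] (z : ↥(pullback f i)) :
    (pullback.snd f i).residueDegree z = f.residueDegree (pullback.fst f i z) := by
  have h1 := Push.residueDegree_comp (pullback.fst f i) f z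
  have h2 := Push.residueDegree_comp (pullback.snd f i) i z
  rw [DivNat.residueDegree_eq_one (pullback.fst f i), mul_one] at h1
  rw [DivNat.residueDegree_eq_one i, one_mul] at h2
  rw [← h1, ← h2, pullback.condition]

theorem mapCoeff_snd [IsClosedImmersion i] (z : ↥(pullback f i)) :
    AlgebraicCycle.mapCoeff (pullback.snd f i) (fun z => δ' (pullback.fst f i z))
      (fun d => δ (i d)) z = AlgebraicCycle.mapCoeff f δ' δ (pullback.fst f i z) := by
  unfold AlgebraicCycle.mapCoeff
  rw [residueDegree_snd, condition_apply f z]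

/-- Pushforward commutes with restriction to a closed subscheme. -/
theorem map_snd_apply [QuasiCompact f] [IsClosedImmersion i] (Γ : AlgebraicCycle X' ℤ)
    (γ : AlgebraicCycle (pullback f i) ℤ) (hγ : ∀ z, γ z = Γ (pullback.fst f i z)) (d : D) :
    AlgebraicCycle.map (pullback.snd f i) (fun z => δ' (pullback.fst f i z))
      (fun d => δ (i d)) γ d = AlgebraicCycle.map f δ' δ Γ (i d) := by
  rw [Push.map_apply, Push.map_apply]
  have hinj : Function.Injective ⇑(pullback.fst f i) :=
    (pullback.fst f i).isClosedEmbedding.injective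
  have hset : {x : X' | f x = i d} = ⇑(pullback.fst f i) '' {z | pullback.snd f i z = d} := by
    ext x
    constructor
    · intro hx
      have hx' : x ∈ Set.range ⇑(pullback.fst f i) := by
        rw [Scheme.Pullback.range_fst]
        exact ⟨d, hx.symm⟩
      obtain ⟨z, rfl⟩ := hx'
      refine ⟨z, ?_, rfl⟩
      apply i.isClosedEmbedding.injective
      rw [← condition_apply f z]
      exact hx
    · rintro ⟨z, hz, rfl⟩
      change f (pullback.fst f i z) = i d
      rw [condition_apply f z]
      exact congrArg _ hz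
  rw [hset, finsum_mem_image hinj.injOn]
  refine finsum_mem_congr rfl fun z _ => ?_
  rw [hγ, mapCoeff_snd]

theorem deltaCompat_snd [LocallyOfFiniteType f] [IsClosedImmersion i]
    (hδ : Cyc.DeltaCompat f δ' δ) :
    Cyc.DeltaCompat (pullback.snd f i) (fun z => δ' (pullback.fst f i z)) (fun d => δ (i d)) := by
  rw [RelDim.deltaCompat_iff] at hδ ⊢
  intro z
  obtain ⟨n, hn, hn'⟩ := hδ (pullback.fst f i z)
  refine ⟨n, ?_, ?_⟩
  · have h1 := RelDim.rtd_comp (pullback.fst f i) f z
    have h2 := RelDim.rtd_comp (pullback.snd f i) i z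
    rw [RelDim.rtd_eq_zero_of_isPreimmersion (pullback.fst f i), add_zero] at h1
    rw [RelDim.rtd_eq_zero_of_isPreimmersion i, zero_add] at h2
    rw [← hn, ← h1, ← h2, pullback.condition]
  · dsimp only
    rw [hn', condition_apply f z]

end Groth.Agent.CycB.GysinPush
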