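import Groth.Agent.CycB.Devissage

/-!
# `K_0` along a fully faithful exact functor with a left adjoint
-/

set_option autoImplicit false
universe v v' u u'

open CategoryTheory CategoryTheory.Limits

namespace Groth.Agent.CycB.K0Adj

open Groth.Agent.Sga67.K0Basic Groth.Agent.CycB.Devissage

variable {A : Type u} [Category.{v} A] [Abelian A] {B : Type u'} [Category.{v'} B] [Abelian B]
  {L : A ⥤ B} {R : B ⥤ A} (adj : L ⊣ R)

/-- A fully faithful exact functor reflects short exact sequences. -/
theorem shortExact_of_map [R.Full] [R.Faithful] [R.PreservesZeroMorphisms]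
    (S : ShortComplex B) [PreservesFiniteLimits R] [PreservesFiniteColimits R]
    (h : (S.map R).ShortExact) : S.ShortExact where
  exact := by
    have := h.exact
    exact (ShortComplex.exact_map_iff_of_faithful S R).1 this
  mono_f := R.mono_of_mono_map h.mono_f
  epi_g := R.epi_of_epi_map h.epi_g

theorem exists_equiv [R.Full] [R.Faithful] [PreservesFiniteColimits R]
    (PB : ObjectProperty B) (PA : ObjectProperty A) [PB.IsClosedUnderIsomorphisms]
    [PB.ContainsZero] [PA.IsClosedUnderIsomorphisms] [PA.ContainsZero]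
    (hR : ∀ N, PB N → PA (R.obj N)) (hL : ∀ M, PA M → PB (L.obj M)) :
    ∃ φ : KZero.K0sub PB ≃+ KZero.K0sub (Loc adj.unit PA), ∀ N, PB N →
      φ (KZero.clSub PB N) = KZero.clSub (Loc adj.unit PA) (R.obj N) := by
  have : PreservesLimitsOfSize.{0, 0} R := adj.rightAdjoint_preservesLimits
  have : PreservesFiniteLimits R := PreservesLimitsOfSize.preservesFiniteLimits R
  have : R.PreservesZeroMorphisms := inferInstance
  have : PreservesColimitsOfSize.{0, 0} L := adj.leftAdjoint_preservesColimits
  have : L.PreservesZeroMorphisms := inferInstance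
  have hunit : ∀ N, IsIso (adj.unit.app (R.obj N)) := fun N =>
    adj.isIso_unit_app_of_iso (Iso.refl _)
  have hloc : ∀ N, PB N → Loc adj.unit PA (R.obj N) := fun N hN => ⟨hR N hN, hunit N⟩
  obtain ⟨Z, hZ, hPZ⟩ := PB.exists_prop_of_containsZero
  have hRZ : IsZero (R.obj Z) := R.map_isZero hZ
  have hcl : ∀ {M N : A} (e : M ≅ N), Loc adj.unit PA M → Loc adj.unit PA N →
      KZero.clSub (Loc adj.unit PA) M = KZero.clSub (Loc adj.unit PA) N := fun e hM hN =>
    clSub_iso' e hM hN hRZ (hloc Z hPZ)
  let f : KZero.K0sub PB →+ KZero.K0sub (Loc adj.unit PA) :=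
    liftSub PB (fun N => KZero.clSub (Loc adj.unit PA) (R.obj N)) fun S hS h1 h2 h3 =>
      clSub_of_shortExact (S.map R) (hS.map_of_exact R) (hloc _ h1) (hloc _ h2) (hloc _ h3)
  let g : KZero.K0sub (Loc adj.unit PA) →+ KZero.K0sub PB :=
    liftSub (Loc adj.unit PA) (fun M => KZero.clSub PB (L.obj M)) fun S hS h1 h2 h3 => by
      have i1 : IsIso (adj.unit.app S.X₁) := h1.2
      have i2 : IsIso (adj.unit.app S.X₂) := h2.2
      have i3 : IsIso (adj.unit.app S.X₃) := h3.2
      have e : S ≅ (S.map L).map R := ShortComplex.isoMk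
        (@asIso _ _ _ _ (adj.unit.app S.X₁) i1) (@asIso _ _ _ _ (adj.unit.app S.X₂) i2)
        (@asIso _ _ _ _ (adj.unit.app S.X₃) i3) (adj.unit.naturality S.f).symm
        (adj.unit.naturality S.g).symm
      have hS' : ((S.map L).map R).ShortExact := ShortComplex.shortExact_of_iso e hS
      exact clSub_of_shortExact (S.map L) (shortExact_of_map _ hS') (hL _ h1.1) (hL _ h2.1)
        (hL _ h3.1)
  have hf : ∀ N, PB N → f (KZero.clSub PB N) = KZero.clSub (Loc adj.unit PA) (R.obj N) :=
    fun N hN => liftSub_clSub _ _ hN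
  have hg : ∀ M, Loc adj.unit PA M → g (KZero.clSub (Loc adj.unit PA) M) =
      KZero.clSub PB (L.obj M) := fun M hM => liftSub_clSub _ _ hM
  refine ⟨{ f with
    invFun := g
    left_inv := fun x => ?_
    right_inv := fun x => ?_ }, hf⟩
  · have h : g.comp f = AddMonoidHom.id _ := hom_ext_sub fun N hN => by
      rw [AddMonoidHom.comp_apply, hf N hN, hg _ (hloc N hN), AddMonoidHom.id_apply]
      exact clSub_iso (asIso (adj.counit.app N))
    exact DFunLike.congr_fun h x
  · have h : f.comp g = AddMonoidHom.id _ := hom_ext_sub fun M hM => by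
      rw [AddMonoidHom.comp_apply, hg M hM, hf _ (hL M hM.1), AddMonoidHom.id_apply]
      have : IsIso (adj.unit.app M) := hM.2
      exact (hcl (asIso (adj.unit.app M)) hM (hloc _ (hL M hM.1))).symm
    exact DFunLike.congr_fun h x

end Groth.Agent.CycB.K0Adj
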