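import Groth.Agent.CycB.KeySum

/-!
# c_1(N) ∩ div_L(s) ∼ c_1(L) ∩ div_N(t) at an arbitrary point ξ; c_1(L) ∩ div(f) ∼ 0
-/

set_option autoImplicit false

universe u v w

open CategoryTheory CategoryTheory.Limits AlgebraicGeometry TopologicalSpace Opposite

namespace Groth.Agent.CycB.KeyComm

open Groth.Agent.CycB.DivFun Groth.Agent.CycB.UnitFin Groth.Agent.CycB.KeyLine
open Groth.Agent.CycB.KeySec Groth.Agent.CycB.KeyLocal Groth.Agent.CycB.KeySum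

variable {X : Scheme.{u}} {δ : X → ℤ} [IsLocallyNoetherian X] (hδ : Cyc.IsDimFun X δ)

omit [IsLocallyNoetherian X] in
/-- `c1CapFun` of the divisor of a rational section, as a sum over all points. -/
theorem c1CapFun_secDivFun {ξ : X} {L N : X.Modules} (hL : PicF.IsInvertible L)
    (hN : PicF.IsInvertible N) {s : Cyc.secFibre L ξ} (hs : s ≠ 0) {t : Cyc.secFibre N ξ}
    (ht : t ≠ 0) {u : (ζ : X) → Cyc.secFibre N ζ} (hu : ∀ ζ, u ζ ≠ 0)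
    {v : (ζ : X) → Cyc.secFibre L ζ} (hv : ∀ ζ, v ζ ≠ 0) (x : X) :
    Cyc.c1CapFun δ N (Cyc.secDivFun δ L ξ s) u x =
      ∑ᶠ ζ : X, (secData δ hL hs hv).ordS ζ * (secData δ hN ht hu).div ζ x := by
  unfold Cyc.c1CapFun
  apply finsum_congr
  intro ζ
  rw [secData_ordS, secData_div]

include hδ in
/-- Stacks 02TH at an arbitrary point ξ. -/
theorem ratEquiv_comm {ξ : X} {L N : X.Modules} (hL : PicF.IsInvertible L)
    (hN : PicF.IsInvertible N) {s : Cyc.secFibre L ξ} (hs : s ≠ 0) {t : Cyc.secFibre N ξ}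
    (ht : t ≠ 0) {u : (ζ : X) → Cyc.secFibre N ζ} (hu : ∀ ζ, u ζ ≠ 0)
    {v : (ζ : X) → Cyc.secFibre L ζ} (hv : ∀ ζ, v ζ ≠ 0) {γ₁ γ₂ : AlgebraicCycle X ℤ}
    (h₁ : ⇑γ₁ = Cyc.c1CapFun δ N (Cyc.secDivFun δ L ξ s) u)
    (h₂ : ⇑γ₂ = Cyc.c1CapFun δ L (Cyc.secDivFun δ N ξ t) v) {k : ℤ} (hk : δ ξ = k + 2) :
    Cyc.RatEquiv δ k γ₁ γ₂ := by
  let D₁ := secData δ hL hs hv
  let D₂ := secData δ hN ht hu
  refine ratEquivZero_of (ι := D₁.bad D₂) (fun ζ => ζ.1)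
    (fun ζ => D₁.sym D₂ ⟨ζ.1, ζ.2.1⟩) ?_ ?_ (D₁.locFin_bad hδ D₂) _ ?_
  · intro ζ
    have := ζ.2.1.2
    omega
  · intro ζ
    exact D₁.sym_ne_zero hδ D₂ _
  · intro x
    have e1 : (γ₁ - γ₂) x = γ₁ x - γ₂ x := rfl
    rw [key_bad hδ, e1, h₁, h₂, c1CapFun_secDivFun hL hN hs ht hu hv,
      c1CapFun_secDivFun hN hL ht hs hv hu]

end Groth.Agent.CycB.KeyComm
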