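import Groth.Agent.CycB.KeyLat
import Groth.Prelude.Def_Tame
import Mathlib.RingTheory.OrderOfVanishing.Basic
import Mathlib.LinearAlgebra.Matrix.Transvection
import Mathlib.RingTheory.Norm.Defs
import Mathlib.RingTheory.Norm.Basic
import Mathlib.RingTheory.Localization.FractionRing

/-!
# Orders of determinants as indices of lattices
-/

set_option autoImplicit false

universe u v w

namespace Groth.Agent.CycB.KeyDet

open Submodule IsLocalRing Groth.Agent.CycB.KeyIdx Groth.Agent.CycB.KeyLat
open scoped WithZero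

/-! ### Basic facts on `CycAlg.ordFrac` (after helper571's `OrdFrac`) -/

section Ord

variable (R : Type u) [CommRing R] (K : Type v) [Field K] [Algebra R K]

theorem ordFrac_eq_iff [IsNoetherianRing R] [Ring.KrullDimLE 1 R] [Nontrivial R]
    [IsFractionRing R K] {f : K} (hf : f ≠ 0) (n : ℤ) :
    CycAlg.ordFrac R K f = n ↔ Ring.ordFrac R f = ((Multiplicative.ofAdd n : Multiplicative ℤ) : ℤᵐ⁰) := by
  rw [CycAlg.ordFrac, dif_pos ⟨inferInstance, inferInstance, inferInstance, inferInstance⟩]
  have h0 : Ring.ordFrac R f ≠ 0 := (map_ne_zero _).2 hf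
  obtain ⟨m, hm⟩ := WithZero.ne_zero_iff_exists.1 h0
  rw [← hm]
  change Multiplicative.toAdd m = n ↔ _
  rw [WithZero.coe_inj]
  exact Equiv.eq_symm_apply Multiplicative.toAdd |>.symm

theorem coe_ordFrac [IsNoetherianRing R] [Ring.KrullDimLE 1 R] [Nontrivial R]
    [IsFractionRing R K] {f : K} (hf : f ≠ 0) :
    Ring.ordFrac R f =
      ((Multiplicative.ofAdd (CycAlg.ordFrac R K f) : Multiplicative ℤ) : ℤᵐ⁰) :=
  (ordFrac_eq_iff R K hf _).1 rfl

theorem ordFrac_zero : CycAlg.ordFrac R K 0 = 0 := by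
  rw [CycAlg.ordFrac]
  split_ifs with h
  · simp
  · rfl

theorem ordFrac_one : CycAlg.ordFrac R K 1 = 0 := by
  rw [CycAlg.ordFrac]
  split_ifs with h
  · simp
  · rfl

theorem ordFrac_mul {f g : K} (hf : f ≠ 0) (hg : g ≠ 0) :
    CycAlg.ordFrac R K (f * g) = CycAlg.ordFrac R K f + CycAlg.ordFrac R K g := by
  by_cases h : IsNoetherianRing R ∧ Ring.KrullDimLE 1 R ∧ Nontrivial R ∧ IsFractionRing R K
  · obtain ⟨h1, h2, h3, h4⟩ := h
    rw [ordFrac_eq_iff R K (mul_ne_zero hf hg), map_mul, coe_ordFrac R K hf, coe_ordFrac R K hg]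
    rfl
  · simp [CycAlg.ordFrac, dif_neg h]

theorem ordFrac_inv (f : K) : CycAlg.ordFrac R K f⁻¹ = - CycAlg.ordFrac R K f := by
  by_cases hf : f = 0
  · subst hf; simp [ordFrac_zero]
  have h1 := ordFrac_mul R K hf (inv_ne_zero hf)
  rw [mul_inv_cancel₀ hf, ordFrac_one] at h1
  omega

theorem ordFrac_pow (f : K) (n : ℕ) :
    CycAlg.ordFrac R K (f ^ n) = n * CycAlg.ordFrac R K f := by
  by_cases hf : f = 0
  · subst hf
    cases n with
    | zero => simp [ordFrac_one]
    | succ n => simp [ordFrac_zero]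
  induction n with
  | zero => simp [ordFrac_one]
  | succ n ih => rw [pow_succ, ordFrac_mul R K (pow_ne_zero _ hf) hf, ih]; push_cast; ring

theorem ordFrac_neg_one : CycAlg.ordFrac R K (-1) = 0 := by
  have h := ordFrac_pow R K (-1) 2
  rw [neg_one_sq, ordFrac_one] at h
  push_cast at h
  omega

theorem ordFrac_prod {ι : Type w} (s : Finset ι) (f : ι → K) (hf : ∀ i ∈ s, f i ≠ 0) :
    CycAlg.ordFrac R K (∏ i ∈ s, f i) = ∑ i ∈ s, CycAlg.ordFrac R K (f i) := by
  classical
  induction s using Finset.induction_on with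
  | empty => simp [ordFrac_one]
  | insert a s ha ih =>
    rw [Finset.prod_insert ha, Finset.sum_insert ha, ordFrac_mul R K (hf a (by simp))
      (Finset.prod_ne_zero_iff.2 fun i hi => hf i (by simp [hi])),
      ih fun i hi => hf i (by simp [hi])]

theorem ordFrac_algebraMap [IsNoetherianRing R] [Ring.KrullDimLE 1 R] [IsDomain R]
    [IsFractionRing R K] {a : R} (ha : a ≠ 0) :
    CycAlg.ordFrac R K (algebraMap R K a) = ((Ring.ord R a).toNat : ℤ) := by
  have ha' : algebraMap R K a ≠ 0 := by
    rwa [Ne, FaithfulSMul.algebraMap_eq_zero_iff]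
  rw [ordFrac_eq_iff R K ha', Ring.ordFrac_eq_ord R ha]
  have h1 : a ∈ nonZeroDivisors R := mem_nonZeroDivisors_of_ne_zero ha
  have h2 := Ring.ord_ne_top h1
  obtain ⟨n, hn⟩ := ENat.ne_top_iff_exists.1 h2
  rw [Ring.ordMonoidWithZeroHom_eq_coe R h1 hn.symm, ← hn]
  rfl

end Ord

/-! ### Primes of coheight one -/

variable {A : Type*} [CommRing A] [IsNoetherianRing A] [IsLocalRing A]

/-- The only primes containing `q` are `q` and the maximal ideal. -/
def DimOne (q : Ideal A) : Prop :=
  ∀ p : Ideal A, p.IsPrime → q ≤ p → p = q ∨ p = maximalIdeal A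

theorem exists_pow_le {q : Ideal A} (hq : DimOne q) (J : Ideal A) (N : ℕ) (hJ : q ^ N ≤ J)
    {s : A} (hs : s ∉ q) (hsJ : s ∈ J) : ∃ k, maximalIdeal A ^ k ≤ J := by
  refine Ideal.exists_pow_le_of_le_radical_of_fg ?_ (IsNoetherian.noetherian _)
  rw [Ideal.radical_eq_sInf]
  refine le_sInf ?_
  rintro p ⟨hp1, hp2⟩
  have hqp : q ≤ p := Ideal.IsPrime.le_of_pow_le (hJ.trans hp1)
  rcases hq p hp2 hqp with h | h
  · exact absurd (hp1 hsJ) (h ▸ hs)
  · exact h.ge

/-- Criterion for absorbing. -/
theorem abs_of_dimOne {V : Type*} [AddCommGroup V] [Module A V] {q : Ideal A} (hq : DimOne q)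
    (L : Submodule A V) (v : V) (N : ℕ) (hN : ∀ r ∈ q ^ N, r • v ∈ L) {s : A} (hs : s ∉ q)
    (hsv : s • v ∈ L) : ∃ k : ℕ, ∀ r ∈ maximalIdeal A ^ k, r • v ∈ L := by
  obtain ⟨k, hk⟩ := exists_pow_le hq (L.comap (LinearMap.toSpanSingleton A V v)) N
    (fun r hr => hN r hr) hs hsv
  exact ⟨k, fun r hr => hk hr⟩

section Field

variable {q : Ideal A} {K : Type*} [Field K] [Algebra A K]
  [Algebra (A ⧸ q) K] [IsScalarTower A (A ⧸ q) K] [IsFractionRing (A ⧸ q) K]

include q in
theorem algebraMap_eq_zero_iff_mem (r : A) : algebraMap A K r = 0 ↔ r ∈ q := by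
  rw [IsScalarTower.algebraMap_apply A (A ⧸ q) K, Ideal.Quotient.algebraMap_eq,
    ← Ideal.Quotient.eq_zero_iff_mem]
  constructor
  · intro h
    exact IsFractionRing.injective (A ⧸ q) K (by rw [h, map_zero])
  · intro h; rw [h, map_zero]

include q in
theorem exists_smul_mem_one [q.IsPrime] (x : K) :
    ∃ s : A, s ∉ q ∧ ∃ a : A, s • x = algebraMap A K a := by
  obtain ⟨a, b, hb, rfl⟩ := IsFractionRing.div_surjective (A := A ⧸ q) x
  obtain ⟨a, rfl⟩ := Ideal.Quotient.mk_surjective a
  obtain ⟨b, rfl⟩ := Ideal.Quotient.mk_surjective b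
  have hb0 : (Ideal.Quotient.mk q b) ≠ 0 := nonZeroDivisors.ne_zero hb
  have hbq : b ∉ q := fun h => hb0 (Ideal.Quotient.eq_zero_iff_mem.mpr h)
  refine ⟨b, hbq, a, ?_⟩
  have e1 : algebraMap (A ⧸ q) K (Ideal.Quotient.mk q b) = algebraMap A K b := by
    rw [IsScalarTower.algebraMap_apply A (A ⧸ q) K]; rfl
  have e2 : algebraMap (A ⧸ q) K (Ideal.Quotient.mk q a) = algebraMap A K a := by
    rw [IsScalarTower.algebraMap_apply A (A ⧸ q) K]; rfl
  have hbK : algebraMap A K b ≠ 0 := by
    rwa [Ne, algebraMap_eq_zero_iff_mem (q := q)]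
  rw [e1, e2, Algebra.smul_def, mul_div_cancel₀ _ hbK]

/-- Any `K`-vector space: a criterion to be a lattice. -/
theorem isLat_top_of_smul [q.IsPrime] {V : Type*} [AddCommGroup V] [Module A V] [Module K V]
    [IsScalarTower A K V] (hq : DimOne q) {L : Submodule A V} (hfg : L.FG)
    (h : ∀ v : V, ∃ s : A, s ∉ q ∧ s • v ∈ L) : IsLat ⊤ L where
  le := le_top
  fg := hfg
  abs := by
    intro v _
    obtain ⟨s, hs, hsv⟩ := h v
    refine abs_of_dimOne hq L v 1 ?_ hs hsv
    intro r hr
    rw [pow_one] at hr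
    have : r • v = 0 := by
      rw [← algebraMap_smul K r v, (algebraMap_eq_zero_iff_mem (q := q) r).mpr hr, zero_smul]
    rw [this]
    exact L.zero_mem

theorem isLat_one [q.IsPrime] (hq : DimOne q) : IsLat ⊤ (1 : Submodule A K) := by
  refine isLat_top_of_smul (K := K) hq ?_ ?_
  · rw [Submodule.one_eq_span]
    exact Submodule.fg_span_singleton _
  · intro x
    obtain ⟨s, hs, a, ha⟩ := exists_smul_mem_one (q := q) x
    exact ⟨s, hs, Submodule.mem_one.mpr ⟨a, ha.symm⟩⟩

/-- The index `[A/q : x A/q]`. -/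
noncomputable def nK (A : Type*) [CommRing A] {K : Type*} [Field K] [Algebra A K] (x : K) : ℤ :=
  idx (1 : Submodule A K) ((1 : Submodule A K).map (LinearMap.mulLeft A x))

theorem mulLeft_injective {x : K} (hx : x ≠ 0) : Function.Injective (LinearMap.mulLeft A x) := by
  intro y z h
  exact mul_left_cancel₀ hx h

theorem map_top_mulLeft {x : K} (hx : x ≠ 0) :
    (⊤ : Submodule A K).map (LinearMap.mulLeft A x) = ⊤ := by
  rw [Submodule.map_top, LinearMap.range_eq_top]
  intro y
  exact ⟨x⁻¹ * y, by simp [mul_inv_cancel_left₀ hx]⟩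

theorem nK_mul [q.IsPrime] (hq : DimOne q) {x y : K} (hx : x ≠ 0) (hy : y ≠ 0) :
    nK A (x * y) = nK A x + nK A y := by
  have h1 : IsLat ⊤ (1 : Submodule A K) := isLat_one hq
  have h2 : IsLat ⊤ ((1 : Submodule A K).map (LinearMap.mulLeft A x)) := by
    have := h1.map (LinearMap.mulLeft A x)
    rwa [map_top_mulLeft hx] at this
  have hxy : (1 : Submodule A K).map (LinearMap.mulLeft A (x * y)) =
      ((1 : Submodule A K).map (LinearMap.mulLeft A y)).map (LinearMap.mulLeft A x) := by
    rw [← Submodule.map_comp]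
    congr 1
    ext z
    simp
  have h3 : IsLat ⊤ (((1 : Submodule A K).map (LinearMap.mulLeft A y)).map
      (LinearMap.mulLeft A x)) := by
    have := (h1.map (LinearMap.mulLeft A y)).map (LinearMap.mulLeft A x)
    rwa [map_top_mulLeft hy, map_top_mulLeft hx] at this
  have e := idx_add (h1.comm h2) (h2.comm h3)
  unfold nK
  rw [hxy, ← e, idx_map_injective _ (mulLeft_injective hx)]

theorem nK_one : nK A (1 : K) = 0 := by
  unfold nK
  have : (1 : Submodule A K).map (LinearMap.mulLeft A (1 : K)) = 1 := by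
    rw [LinearMap.mulLeft_one, Submodule.map_id]
  rw [this, idx_self]

theorem nK_algebraMap [q.IsPrime] (s : A) :
    nK A (algebraMap A K s) = ((Ring.ord (A ⧸ q) (Ideal.Quotient.mk q s)).toNat : ℤ) := by
  have hle : (1 : Submodule A K).map (LinearMap.mulLeft A (algebraMap A K s)) ≤ 1 := by
    rintro _ ⟨x, hx, rfl⟩
    obtain ⟨y, rfl⟩ := Submodule.mem_one.mp hx
    exact Submodule.mem_one.mpr ⟨s * y, by simp⟩
  unfold nK
  rw [idx_of_le hle]
  congr 2
  let f : (A ⧸ q) →ₗ[A] K := (IsScalarTower.toAlgHom A (A ⧸ q) K).toLinearMap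
  have hf : Function.Injective f := IsFractionRing.injective (A ⧸ q) K
  have e1 : (1 : Submodule A K) = (⊤ : Submodule A (A ⧸ q)).map f := by
    ext x
    rw [Submodule.mem_one]
    constructor
    · rintro ⟨y, rfl⟩
      refine ⟨Ideal.Quotient.mk q y, trivial, ?_⟩
      change algebraMap (A ⧸ q) K (Ideal.Quotient.mk q y) = _
      rw [IsScalarTower.algebraMap_apply A (A ⧸ q) K]; rfl
    · rintro ⟨y, -, rfl⟩
      obtain ⟨y, rfl⟩ := Ideal.Quotient.mk_surjective y
      refine ⟨y, ?_⟩
      change _ = algebraMap (A ⧸ q) K (Ideal.Quotient.mk q y)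
      rw [IsScalarTower.algebraMap_apply A (A ⧸ q) K]; rfl
  have e2 : (1 : Submodule A K).map (LinearMap.mulLeft A (algebraMap A K s)) =
      ((Ideal.span {Ideal.Quotient.mk q s} : Ideal (A ⧸ q)).restrictScalars A).map f := by
    rw [e1, ← Submodule.map_comp]
    ext x
    constructor
    · rintro ⟨y, -, rfl⟩
      refine ⟨Ideal.Quotient.mk q s * y, Ideal.mul_mem_right _ _ (Ideal.mem_span_singleton_self _),
        ?_⟩
      change algebraMap (A ⧸ q) K (Ideal.Quotient.mk q s * y) =
        algebraMap A K s * algebraMap (A ⧸ q) K y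
      rw [map_mul, IsScalarTower.algebraMap_apply A (A ⧸ q) K]; rfl
    · rintro ⟨y, hy, rfl⟩
      obtain ⟨z, rfl⟩ := Ideal.mem_span_singleton'.mp hy
      refine ⟨z, trivial, ?_⟩
      change algebraMap A K s * algebraMap (A ⧸ q) K z = algebraMap (A ⧸ q) K (z * Ideal.Quotient.mk q s)
      rw [map_mul, IsScalarTower.algebraMap_apply A (A ⧸ q) K, mul_comm]; rfl
  rw [e2, e1, relLen_map_injective f hf]
  unfold Ring.ord
  rw [← Module.length_eq_of_surjective (S := A) (R := A ⧸ q)
    (M := (A ⧸ q) ⧸ Ideal.span {Ideal.Quotient.mk q s}) Ideal.Quotient.mk_surjective]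
  refine relLen_eq_of_surjective _ _
    (((Submodule.mkQ (Ideal.span {Ideal.Quotient.mk q s} : Ideal (A ⧸ q))).restrictScalars A).comp
      (Submodule.subtype _)) ?_ ?_
  · intro y
    obtain ⟨y, rfl⟩ := Submodule.mkQ_surjective _ y
    exact ⟨⟨y, trivial⟩, rfl⟩
  · rintro ⟨x, -⟩
    exact Submodule.Quotient.mk_eq_zero _

theorem nK_eq_ordFrac [q.IsPrime] [Ring.KrullDimLE 1 (A ⧸ q)] (hq : DimOne q) {x : K}
    (hx : x ≠ 0) : nK A x = CycAlg.ordFrac (A ⧸ q) K x := by
  obtain ⟨s, hs, a, ha⟩ := exists_smul_mem_one (q := q) x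
  rw [Algebra.smul_def] at ha
  have hsK : algebraMap A K s ≠ 0 := by rwa [Ne, algebraMap_eq_zero_iff_mem (q := q)]
  have haK : algebraMap A K a ≠ 0 := by
    rw [← ha]; exact mul_ne_zero hsK hx
  have haq : a ∉ q := by rwa [Ne, algebraMap_eq_zero_iff_mem (q := q)] at haK
  have key : ∀ r : A, r ∉ q → nK A (algebraMap A K r) =
      CycAlg.ordFrac (A ⧸ q) K (algebraMap A K r) := by
    intro r hr
    rw [nK_algebraMap (q := q), IsScalarTower.algebraMap_apply A (A ⧸ q) K,
      Ideal.Quotient.algebraMap_eq, ordFrac_algebraMap]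
    exact fun h => hr (Ideal.Quotient.eq_zero_iff_mem.mp h)
  have e1 := nK_mul hq hsK hx
  have e2 := ordFrac_mul (A ⧸ q) K hsK hx
  rw [ha, key a haq, key s hs] at e1
  rw [ha] at e2
  linarith

/-! ### Determinants -/

section Det

variable {n : Type*} [Fintype n] [DecidableEq n]

/-- The standard lattice. -/
noncomputable def stdL (A K n : Type*) [CommRing A] [Field K] [Algebra A K] :
    Submodule A (n → K) := Submodule.pi Set.univ (fun _ => (1 : Submodule A K))

theorem isLat_stdL [q.IsPrime] (hq : DimOne q) : IsLat ⊤ (stdL A K n) :=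
  isLat_pi fun _ => isLat_one hq

/-- Multiplication by a matrix as an `A`-linear map. -/
noncomputable def mat (A : Type*) [CommRing A] {K : Type*} [Field K] [Algebra A K]
    {n : Type*} [Fintype n] (M : Matrix n n K) : (n → K) →ₗ[A] (n → K) :=
  (Matrix.mulVecLin M).restrictScalars A

@[simp] theorem mat_apply (M : Matrix n n K) (v : n → K) : mat A M v = M.mulVec v := rfl

theorem mat_mul (M N : Matrix n n K) : mat A (M * N) = mat A M ∘ₗ mat A N := by
  ext v
  simp [mat]

theorem mat_injective {M : Matrix n n K} (hM : M.det ≠ 0) : Function.Injective (mat A M) := by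
  intro v w h
  exact Matrix.mulVec_injective_of_isUnit ((Matrix.isUnit_iff_isUnit_det M).mpr hM.isUnit) h

theorem map_top_mat {M : Matrix n n K} (hM : M.det ≠ 0) :
    (⊤ : Submodule A (n → K)).map (mat A M) = ⊤ := by
  rw [Submodule.map_top, LinearMap.range_eq_top]
  intro w
  have h : M * M⁻¹ = 1 := Matrix.mul_nonsing_inv M hM.isUnit
  exact ⟨M⁻¹.mulVec w, by rw [mat_apply, Matrix.mulVec_mulVec, h, Matrix.one_mulVec]⟩

/-- Index of a matrix. -/
noncomputable def nM (A : Type*) [CommRing A] {K : Type*} [Field K] [Algebra A K]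
    {n : Type*} [Fintype n] [DecidableEq n] (M : Matrix n n K) : ℤ :=
  idx (stdL A K n) ((stdL A K n).map (mat A M))

theorem isLat_map_mat {M : Matrix n n K} (hM : M.det ≠ 0) {L : Submodule A (n → K)}
    (h : IsLat ⊤ L) : IsLat ⊤ (L.map (mat A M)) := by
  have := h.map (mat A M)
  rwa [map_top_mat hM] at this

theorem nM_mul [q.IsPrime] (hq : DimOne q) {M N : Matrix n n K} (hM : M.det ≠ 0)
    (hN : N.det ≠ 0) : nM A (M * N) = nM A M + nM A N := by
  have h1 : IsLat ⊤ (stdL A K n) := isLat_stdL hq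
  have h2 := isLat_map_mat hM h1
  have h3 := isLat_map_mat hM (isLat_map_mat hN h1)
  have e := idx_add (h1.comm h2) (h2.comm h3)
  unfold nM
  rw [mat_mul, Submodule.map_comp, ← e, idx_map_injective _ (mat_injective hM)]

theorem nM_diagonal [q.IsPrime] (hq : DimOne q) (D : n → K) (hD : ∀ i, D i ≠ 0) :
    nM A (Matrix.diagonal D) = ∑ i, nK A (D i) := by
  have h1 : (stdL A K n).map (mat A (Matrix.diagonal D)) =
      Submodule.pi Set.univ (fun i => (1 : Submodule A K).map (LinearMap.mulLeft A (D i))) := by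
    ext v
    constructor
    · rintro ⟨w, hw, rfl⟩ i _
      refine ⟨w i, hw i trivial, ?_⟩
      simp [Matrix.mulVec_diagonal]
    · intro hv
      choose w hw hwv using fun i => hv i trivial
      refine ⟨w, fun i _ => hw i, ?_⟩
      ext i
      rw [mat_apply, Matrix.mulVec_diagonal]
      exact hwv i
  unfold nM
  rw [h1]
  unfold stdL
  rw [idx_pi]
  · rfl
  · intro i
    have h2 : IsLat ⊤ (1 : Submodule A K) := isLat_one hq
    have h3 : IsLat ⊤ ((1 : Submodule A K).map (LinearMap.mulLeft A (D i))) := by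
      have := h2.map (LinearMap.mulLeft A (D i))
      rwa [map_top_mulLeft (hD i)] at this
    exact h2.comm h3

theorem nM_transvection [q.IsPrime] (hq : DimOne q) (i j : n) (hij : i ≠ j) (c : K) :
    nM A (Matrix.transvection i j c) = 0 := by
  obtain ⟨s, hs, a, ha⟩ := exists_smul_mem_one (q := q) c
  have hsK : algebraMap A K s ≠ 0 := by rwa [Ne, algebraMap_eq_zero_iff_mem (q := q)]
  rw [Algebra.smul_def] at ha
  have h1 : IsLat ⊤ (stdL A K n) := isLat_stdL hq
  -- the modified lattice
  let D : n → K := fun k => if k = j then algebraMap A K s else 1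
  have hD : ∀ k, D k ≠ 0 := by
    intro k
    simp only [D]
    split_ifs
    · exact hsK
    · exact one_ne_zero
  have hDdet : (Matrix.diagonal D).det ≠ 0 := by
    rw [Matrix.det_diagonal]
    exact Finset.prod_ne_zero_iff.mpr fun k _ => hD k
  let L' := (stdL A K n).map (mat A (Matrix.diagonal D))
  have hL' : IsLat ⊤ L' := isLat_map_mat hDdet h1
  have hmem : ∀ v : n → K, v ∈ L' ↔ ∀ k, ∃ y : A, v k = D k * algebraMap A K y := by
    intro v
    constructor
    · rintro ⟨w, hw, rfl⟩ k
      obtain ⟨y, hy⟩ := Submodule.mem_one.mp (hw k trivial)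
      refine ⟨y, ?_⟩
      rw [mat_apply, Matrix.mulVec_diagonal, hy]
    · intro h
      choose y hy using h
      refine ⟨fun k => algebraMap A K (y k), fun k _ => Submodule.mem_one.mpr ⟨y k, rfl⟩, ?_⟩
      ext k
      rw [mat_apply, Matrix.mulVec_diagonal, hy]
  have hT : ∀ (c : K), (∃ a : A, algebraMap A K s * c = algebraMap A K a) →
      L'.map (mat A (Matrix.transvection i j c)) ≤ L' := by
    rintro c ⟨a, ha⟩ _ ⟨v, hv, rfl⟩
    rw [SetLike.mem_coe, hmem] at hv
    rw [hmem]
    intro k
    have hval : (mat A (Matrix.transvection i j c)) v k = v k + if k = i then c * v j else 0 := by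
      rw [mat_apply, Matrix.transvection, Matrix.add_mulVec, Matrix.one_mulVec, Pi.add_apply]
      congr 1
      rw [Matrix.single_mulVec]
      by_cases hk : k = i
      · subst hk; simp
      · simp [hk]
    rw [hval]
    obtain ⟨y, hy⟩ := hv k
    by_cases hk : k = i
    · subst hk
      obtain ⟨z, hz⟩ := hv j
      have hDj : D j = algebraMap A K s := if_pos rfl
      have hDk : D k = 1 := if_neg hij
      refine ⟨y + a * z, ?_⟩
      rw [if_pos rfl, hy, hz, hDj, hDk, one_mul, one_mul, map_add, map_mul, ← ha]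
      ring
    · exact ⟨y, by rw [if_neg hk, add_zero, hy]⟩
  have hdetT : ∀ c : K, (Matrix.transvection i j c).det ≠ 0 := by
    intro c
    rw [Matrix.det_transvection_of_ne i j hij c]
    exact one_ne_zero
  have hTL : L'.map (mat A (Matrix.transvection i j c)) = L' := by
    apply le_antisymm (hT c ⟨a, ha⟩)
    have h2 := hT (-c) ⟨-a, by rw [mul_neg, ha, map_neg]⟩
    have h3 := Submodule.map_mono (f := mat A (Matrix.transvection i j c)) h2
    rw [← Submodule.map_comp, ← mat_mul, Matrix.transvection_mul_transvection_same _ _ hij,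
      add_neg_cancel, Matrix.transvection_zero] at h3
    have h4 : mat A (1 : Matrix n n K) = LinearMap.id :=
      LinearMap.ext fun v => Matrix.one_mulVec v
    rwa [h4, Submodule.map_id] at h3
  unfold nM
  rw [chi_indep (mat A (Matrix.transvection i j c)) (mat_injective (hdetT c))
    (map_top_mat (hdetT c)) h1 hL', hTL, idx_self]

theorem nM_eq_nK_det [q.IsPrime] (hq : DimOne q) (M : Matrix n n K) (hM : M.det ≠ 0) :
    nM A M = nK A M.det := by
  have hprod : ∀ (s : Finset n) (D : n → K), (∀ i, D i ≠ 0) →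
      ∑ i ∈ s, nK A (D i) = nK A (∏ i ∈ s, D i) := by
    intro s D hD
    induction s using Finset.induction_on with
    | empty => simp [nK_one]
    | insert a s ha ih =>
      rw [Finset.sum_insert ha, Finset.prod_insert ha,
        nK_mul hq (hD a) (Finset.prod_ne_zero_iff.mpr fun i _ => hD i), ih]
  refine Matrix.diagonal_transvection_induction_of_det_ne_zero
    (fun M => nM A M = nK A M.det) M hM ?_ ?_ ?_
  · intro D hD
    rw [Matrix.det_diagonal] at hD
    have hD' : ∀ i, D i ≠ 0 := fun i => Finset.prod_ne_zero_iff.mp hD i (Finset.mem_univ i)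
    change nM A (Matrix.diagonal D) = nK A (Matrix.diagonal D).det
    rw [nM_diagonal hq D hD', Matrix.det_diagonal, hprod _ _ hD']
  · intro t
    change nM A t.toMatrix = nK A t.toMatrix.det
    rw [Matrix.TransvectionStruct.det, nK_one]
    exact nM_transvection hq t.i t.j t.hij t.c
  · intro M N hM hN h1 h2
    change nM A (M * N) = nK A (M * N).det
    rw [nM_mul hq hM hN, h1, h2, Matrix.det_mul, nK_mul hq hM hN]

end Det

/-- The index of multiplication by an element of a finite field extension is the index of its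
norm. -/
theorem idx_mulLeft_eq_nK_norm [q.IsPrime] (hq : DimOne q) {F : Type*} [Field F] [Algebra K F]
    [Algebra A F] [IsScalarTower A K F] [FiniteDimensional K F] {x : F} (hx : x ≠ 0)
    {L : Submodule A F} (hL : IsLat ⊤ L) :
    idx L (L.map (LinearMap.mulLeft A x)) = nK A (Algebra.norm K x) := by
  classical
  let b := Module.finBasis K F
  let e : F ≃ₗ[A] (Fin (Module.finrank K F) → K) := b.equivFun.restrictScalars A
  let M := Algebra.leftMulMatrix b x
  have hM : M.det ≠ 0 := by
    rw [← Algebra.norm_eq_matrix_det b x]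
    exact Algebra.norm_ne_zero_iff.mpr hx
  have hcomm : (L.map (LinearMap.mulLeft A x)).map e.toLinearMap =
      (L.map e.toLinearMap).map (mat A M) := by
    rw [← Submodule.map_comp, ← Submodule.map_comp]
    congr 1
    ext y : 1
    change b.equivFun (x * y) = M.mulVec (b.equivFun y)
    rw [Module.Basis.equivFun_apply, Module.Basis.equivFun_apply,
      Algebra.leftMulMatrix_mulVec_repr]
  have heL : IsLat ⊤ (L.map e.toLinearMap) := by
    have := hL.map e.toLinearMap
    rwa [Submodule.map_top, LinearMap.range_eq_top.mpr e.surjective] at this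
  rw [← idx_map_injective e.toLinearMap e.injective, hcomm,
    chi_indep (mat A M) (mat_injective hM) (map_top_mat hM) heL (isLat_stdL hq),
    Algebra.norm_eq_matrix_det b x]
  exact nM_eq_nK_det hq M hM

end Field

end Groth.Agent.CycB.KeyDet
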