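import Groth.Agent.CycB.KeyTame

/-!
# `eInv` of `B/(ab)` is minus the order of the value of the tame data
-/

set_option autoImplicit false

universe u

namespace Groth.Agent.CycB.KeyTame2

open Submodule IsLocalRing Groth.Agent.CycB.KeyIdx Groth.Agent.CycB.KeyLat
  Groth.Agent.CycB.KeyDet Groth.Agent.CycB.KeyLoc Groth.Agent.CycB.KeyProd
  Groth.Agent.CycB.KeyTame

section

variable {A : Type*} [CommRing A]

theorem ker_lsmul_quot {R' : Type*} [CommRing R'] [Algebra A R'] (a b t : A) (ht : t = a * b)
    (ha : algebraMap A R' a ∈ nonZeroDivisors R') :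
    LinearMap.ker (LinearMap.lsmul A (R' ⧸ Ideal.span {algebraMap A R' t}) a) =
      LinearMap.range (LinearMap.lsmul A (R' ⧸ Ideal.span {algebraMap A R' t}) b) := by
  subst ht
  ext x
  obtain ⟨x, rfl⟩ := Ideal.Quotient.mk_surjective x
  rw [LinearMap.mem_ker, LinearMap.mem_range]
  constructor
  · intro h
    have h' : (Ideal.Quotient.mk (Ideal.span {algebraMap A R' (a * b)})) (a • x) = 0 := h
    rw [Ideal.Quotient.eq_zero_iff_mem, Ideal.mem_span_singleton', Algebra.smul_def] at h'
    obtain ⟨y, hy⟩ := h'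
    refine ⟨Ideal.Quotient.mk _ y, ?_⟩
    change Ideal.Quotient.mk (Ideal.span {algebraMap A R' (a * b)}) (b • y) =
      Ideal.Quotient.mk _ x
    congr 1
    refine (mul_cancel_left_mem_nonZeroDivisors ha).mp ?_
    rw [← hy, Algebra.smul_def, map_mul]; ring
  · rintro ⟨y, hy⟩
    obtain ⟨y, rfl⟩ := Ideal.Quotient.mk_surjective y
    rw [← hy]
    change Ideal.Quotient.mk (Ideal.span {algebraMap A R' (a * b)}) (a • (b • y)) = 0
    rw [Ideal.Quotient.eq_zero_iff_mem, Ideal.mem_span_singleton', Algebra.smul_def,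
      Algebra.smul_def]
    exact ⟨y, by rw [map_mul]; ring⟩

variable [IsNoetherianRing A] [IsLocalRing A]
variable (q : Ideal A) [q.IsPrime] (B : Type*) [CommRing B] [Algebra (Localization.AtPrime q) B]
  [Algebra A B] [IsScalarTower A (Localization.AtPrime q) B]
  [Module.Finite (Localization.AtPrime q) B]

theorem finite_residueField (q' : MaximalSpectrum B)
    [IsLocalHom (algebraMap (Localization.AtPrime q) (Localization.AtPrime q'.asIdeal))] :
    FiniteDimensional (ResidueField (Localization.AtPrime q))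
      (ResidueField (Localization.AtPrime q'.asIdeal)) := by
  have hmax := q'.isMaximal
  have hsurj : Function.Surjective (algebraMap B (ResidueField (Localization.AtPrime q'.asIdeal))) := by
    intro y
    obtain ⟨x, hx⟩ := (Ideal.bijective_algebraMap_quotient_residueField q'.asIdeal).2 y
    obtain ⟨x, rfl⟩ := Ideal.Quotient.mk_surjective x
    refine ⟨x, ?_⟩
    rw [← hx]
    rfl
  have h1 : Module.Finite (Localization.AtPrime q)
      (ResidueField (Localization.AtPrime q'.asIdeal)) := by
    refine Module.Finite.of_surjective (IsScalarTower.toAlgHom (Localization.AtPrime q) B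
      (ResidueField (Localization.AtPrime q'.asIdeal))).toLinearMap hsurj
  exact Module.Finite.of_restrictScalars_finite (Localization.AtPrime q) _ _

variable (a b : A) (hmin : ∀ p : Ideal A, p.IsPrime → p ≤ q → a * b ∈ p → p = q)
  (ht : a * b ∈ q)

include hmin ht in
theorem length_quot_ne_top [hloc : ∀ q' : MaximalSpectrum B,
    IsLocalHom (algebraMap (Localization.AtPrime q) (Localization.AtPrime q'.asIdeal))]
    (q' : MaximalSpectrum B) (π : Localization.AtPrime q'.asIdeal)
    (hπ : Ideal.span {algebraMap A (Localization.AtPrime q'.asIdeal) (a * b)} ≤ Ideal.span {π}) :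
    Module.length (Localization.AtPrime q'.asIdeal)
      (Localization.AtPrime q'.asIdeal ⧸ Ideal.span {π}) ≠ ⊤ := by
  classical
  have hart := isArtinianRing_quot q B (a * b) hmin
  let R' := Localization.AtPrime q'.asIdeal
  -- ring surjection
  let g : (B ⧸ Ideal.span {algebraMap A B (a * b)}) →+* T B (a * b) q' :=
    Ideal.Quotient.lift _ ((Ideal.Quotient.mk _).comp
      (algebraMap B (Localization.AtPrime q'.asIdeal))) (by
        intro x hx
        obtain ⟨y, rfl⟩ := Ideal.mem_span_singleton'.mp hx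
        have h : algebraMap B (Localization.AtPrime q'.asIdeal) (y * algebraMap A B (a * b)) =
            algebraMap B (Localization.AtPrime q'.asIdeal) y *
              algebraMap A (Localization.AtPrime q'.asIdeal) (a * b) := by
          rw [map_mul, ← IsScalarTower.algebraMap_apply A B]
        refine Ideal.Quotient.eq_zero_iff_mem.mpr ?_
        rw [h]
        exact Ideal.mul_mem_left _ _ (Ideal.mem_span_singleton_self _))
  have hg : Function.Surjective g := by
    intro y
    obtain ⟨x, hx⟩ := psi0_surjective q B (a * b) hmin ht (Pi.single q' y)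
    refine ⟨Ideal.Quotient.mk _ x, ?_⟩
    have := congrFun hx q'
    rw [Pi.single_eq_same] at this
    exact this
  have hartT : IsArtinianRing (T B (a * b) q') := hg.isArtinianRing
  have h1 : Module.length (T B (a * b) q') (T B (a * b) q') ≠ ⊤ := Module.length_ne_top
  have h2 : Module.length R' (T B (a * b) q') ≠ ⊤ := by
    rw [Module.length_eq_of_surjective (S := R') (R := T B (a * b) q')
      Ideal.Quotient.mk_surjective]
    exact h1
  exact ne_top_of_le_ne_top h2 (Module.length_le_of_surjective (Submodule.factor hπ)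
    (Submodule.factor_surjective hπ))

/-- The semi-local computation. -/
theorem eInv_semilocal (hq : DimOne q) [Ring.KrullDimLE 1 (A ⧸ q)]
    (hloc : ∀ q' : MaximalSpectrum B,
      IsLocalHom (algebraMap (Localization.AtPrime q) (Localization.AtPrime q'.asIdeal)))
    (hmin : ∀ p : Ideal A, p.IsPrime → p ≤ q → a * b ∈ p → p = q) (ht : a * b ∈ q)
    [Fintype (MaximalSpectrum B)]
    (π : (q' : MaximalSpectrum B) → Localization.AtPrime q'.asIdeal)
    (hπ : ∀ q', π q' ∈ nonZeroDivisors (Localization.AtPrime q'.asIdeal))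
    (u₁ u₂ : (q' : MaximalSpectrum B) → (Localization.AtPrime q'.asIdeal)ˣ)
    (e₁ e₂ : MaximalSpectrum B → ℕ)
    (fac₁ : ∀ q', algebraMap A (Localization.AtPrime q'.asIdeal) a = (u₁ q') * π q' ^ e₁ q')
    (fac₂ : ∀ q', algebraMap A (Localization.AtPrime q'.asIdeal) b = (u₂ q') * π q' ^ e₂ q')
    (L : Submodule A (B ⧸ LinearMap.range (LinearMap.lsmul A B (a * b)))) (hL : IsLat ⊤ L) :
    eInv (LinearMap.lsmul A _ a) (LinearMap.lsmul A _ b) L =
      - ∑ q' : MaximalSpectrum B, (((Ring.ord _ (π q')).toNat : ℕ) : ℤ) *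
        (e₂ q' * cN q (ResidueField (Localization.AtPrime q))
            ((u₁ q' : Localization.AtPrime q'.asIdeal))
          - e₁ q' * cN q (ResidueField (Localization.AtPrime q))
            ((u₂ q' : Localization.AtPrime q'.asIdeal))) := by
  have hsurj := psi0_surjective q B (a * b) hmin ht
  let e : (B ⧸ LinearMap.range (LinearMap.lsmul A B (a * b))) ≃ₗ[A] (∀ q', T B (a * b) q') :=
    (Submodule.quotEquivOfEq _ _ (ker_psi0 B (a * b)).symm).trans
      (LinearMap.quotKerEquivOfSurjective (psi0 B (a * b)) hsurj)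
  have hLe : IsLat ⊤ (L.map e.toLinearMap) := by
    have := hL.map e.toLinearMap
    rwa [Submodule.map_top, LinearMap.range_eq_top.mpr e.surjective] at this
  have hnza : ∀ q' : MaximalSpectrum B,
      algebraMap A (Localization.AtPrime q'.asIdeal) a ∈ nonZeroDivisors _ := by
    intro q'
    rw [fac₁]
    exact mul_mem (u₁ q').isUnit.mem_nonZeroDivisors (pow_mem (hπ q') _)
  have hnzb : ∀ q' : MaximalSpectrum B,
      algebraMap A (Localization.AtPrime q'.asIdeal) b ∈ nonZeroDivisors _ := by
    intro q'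
    rw [fac₂]
    exact mul_mem (u₂ q').isUnit.mem_nonZeroDivisors (pow_mem (hπ q') _)
  refine (eInv_map_equiv e (LinearMap.lsmul A _ a) (LinearMap.lsmul A _ b)
    (LinearMap.lsmul A _ a) (LinearMap.lsmul A _ b) (fun x => map_smul e a x)
    (fun x => map_smul e b x) L).symm.trans ?_
  refine (eInv_lsmul_eq_sum a b (fun q' => ker_lsmul_quot a b (a * b) rfl (hnza q'))
      (fun q' => ker_lsmul_quot b a (a * b) (mul_comm a b) (hnzb q')) _ hLe).trans ?_
  refine Eq.trans ?_ (Finset.sum_neg_distrib _)
  refine Finset.sum_congr rfl fun q' _ => ?_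
  have hn : 0 < e₁ q' + e₂ q' := by
    by_contra hcon
    have h1 : e₁ q' = 0 := by omega
    have h2 : e₂ q' = 0 := by omega
    have f1 := fac₁ q'
    have f2 := fac₂ q'
    rw [h1, pow_zero, mul_one] at f1
    rw [h2, pow_zero, mul_one] at f2
    have h3 : algebraMap A B (a * b) ∈ q'.asIdeal := algebraMap_mem_maximal q B ht q'
    have h4 : IsUnit (algebraMap A (Localization.AtPrime q'.asIdeal) (a * b)) := by
      rw [map_mul, f1, f2]
      exact (u₁ q').isUnit.mul (u₂ q').isUnit
    rw [IsScalarTower.algebraMap_apply A B] at h4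
    exact ((IsLocalization.AtPrime.isUnit_to_map_iff _ q'.asIdeal _).mp h4) h3
  have hspan := span_eq a b (π q') (e₁ q') (e₂ q') (u₁ q') (u₂ q') (u₁ q').isUnit
    (u₂ q').isUnit (fac₁ q') (fac₂ q')
  have hfl : Module.length (Localization.AtPrime q'.asIdeal)
      (Localization.AtPrime q'.asIdeal ⧸ Ideal.span {π q'}) ≠ ⊤ := by
    refine length_quot_ne_top q B a b hmin ht q' (π q') ?_
    rw [hspan, Ideal.span_singleton_le_span_singleton]
    exact dvd_pow_self _ hn.ne'
  have := finite_residueField q B q'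
  have hLq : IsLat ⊤ ((L.map e.toLinearMap).map (LinearMap.proj q')) := by
    have h := hLe.map (LinearMap.proj q' : (∀ q', T B (a * b) q') →ₗ[A] T B (a * b) q')
    classical
    rwa [Submodule.map_top, LinearMap.range_eq_top.mpr (LinearMap.proj_surjective q')] at h
  exact eInv_local' (K := ResidueField (Localization.AtPrime q)) hq a b (π q') (hπ q') (e₁ q')
    (e₂ q') (u₁ q') (u₂ q') (u₁ q').isUnit (u₂ q').isUnit (fac₁ q') (fac₂ q') hfl hn _ rfl _ hLq

end

section Tame

variable {A : Type u} [CommRing A] [IsNoetherianRing A] [IsLocalRing A] (q : Ideal A) [q.IsPrime]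

omit [IsNoetherianRing A] [IsLocalRing A] [q.IsPrime] in
/-- Abstract computation of the order of the norm. -/
theorem ordFrac_norm_formula (R : Type*) [CommRing R] (K F : Type*) [Field K] [Algebra R K]
    [Field F] [Algebra K F] [FiniteDimensional K F] (x y : F) (hx : x ≠ 0) (hy : y ≠ 0)
    (e₁ e₂ m : ℕ) :
    (Algebra.norm K ((-1 : F) ^ (e₁ * e₂) * x ^ e₂ * (y ^ e₁)⁻¹)) ^ m ≠ 0 ∧
    CycAlg.ordFrac R K ((Algebra.norm K ((-1 : F) ^ (e₁ * e₂) * x ^ e₂ * (y ^ e₁)⁻¹)) ^ m) =
      (m : ℤ) * (e₂ * CycAlg.ordFrac R K (Algebra.norm K x) -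
        e₁ * CycAlg.ordFrac R K (Algebra.norm K y)) := by
  have hN : ∀ x : F, x ≠ 0 → Algebra.norm K x ≠ 0 := fun x hx => Algebra.norm_ne_zero_iff.mpr hx
  have hneg : (-1 : F) ≠ 0 := neg_ne_zero.mpr one_ne_zero
  have hnormneg : CycAlg.ordFrac R K (Algebra.norm K (-1 : F)) = 0 := by
    have e := ordFrac_pow R K (Algebra.norm K (-1 : F)) 2
    rw [← map_pow, neg_one_sq, map_one, ordFrac_one] at e
    push_cast at e
    omega
  have hinv : ∀ x : F, x ≠ 0 → Algebra.norm K x⁻¹ = (Algebra.norm K x)⁻¹ := by
    intro x hx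
    refine eq_inv_of_mul_eq_one_left ?_
    rw [← map_mul, inv_mul_cancel₀ hx, map_one]
  have n0 := hN _ hneg
  have n1 := hN _ hx
  have n2 := hN _ hy
  constructor
  · refine pow_ne_zero _ (hN _ ?_)
    exact mul_ne_zero (mul_ne_zero (pow_ne_zero _ hneg) (pow_ne_zero _ hx))
      (inv_ne_zero (pow_ne_zero _ hy))
  · rw [ordFrac_pow, map_mul, map_mul, hinv _ (pow_ne_zero _ hy), map_pow, map_pow, map_pow,
      ordFrac_mul _ _ (mul_ne_zero (pow_ne_zero _ n0) (pow_ne_zero _ n1))
        (inv_ne_zero (pow_ne_zero _ n2)),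
      ordFrac_mul _ _ (pow_ne_zero _ n0) (pow_ne_zero _ n1), ordFrac_inv, ordFrac_pow,
      ordFrac_pow, ordFrac_pow, hnormneg]
    ring

/-- The order of a local factor. -/
theorem ordFrac_localFactor {a₁ a₂ : Localization.AtPrime q}
    (D : CycAlg.TameData (Localization.AtPrime q) a₁ a₂) (q' : MaximalSpectrum D.B)
    [hloc : IsLocalHom (algebraMap (Localization.AtPrime q) (Localization.AtPrime q'.asIdeal))] :
    D.localFactor q' ≠ 0 ∧
    CycAlg.ordFrac (A ⧸ q) (ResidueField (Localization.AtPrime q)) (D.localFactor q') =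
      (((Ring.ord _ (D.π q')).toNat : ℕ) : ℤ) *
        (D.e₂ q' * cN q (ResidueField (Localization.AtPrime q))
            ((D.u₁ q' : Localization.AtPrime q'.asIdeal))
          - D.e₁ q' * cN q (ResidueField (Localization.AtPrime q))
            ((D.u₂ q' : Localization.AtPrime q'.asIdeal))) := by
  have hfin : Module.Finite (Localization.AtPrime q) D.B := D.isFinExt.2.1
  have hfd : FiniteDimensional (ResidueField (Localization.AtPrime q))
      (ResidueField (Localization.AtPrime q'.asIdeal)) := by
    let _ : Algebra A D.B :=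
      ((algebraMap (Localization.AtPrime q) D.B).comp (algebraMap A _)).toAlgebra
    have : IsScalarTower A (Localization.AtPrime q) D.B := IsScalarTower.of_algebraMap_eq' rfl
    exact finite_residueField q D.B q'
  have hu : ∀ u : (Localization.AtPrime q'.asIdeal)ˣ,
      residue (Localization.AtPrime q'.asIdeal) (u : Localization.AtPrime q'.asIdeal) ≠ 0 := by
    intro u
    rw [Ne, residue_eq_zero_iff]
    exact fun h => (mem_maximalIdeal _).mp h u.isUnit
  exact ordFrac_norm_formula (A ⧸ q) (ResidueField (Localization.AtPrime q))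
    (ResidueField (Localization.AtPrime q'.asIdeal)) _ _ (hu (D.u₁ q')) (hu (D.u₂ q'))
    (D.e₁ q') (D.e₂ q') _

/-- **Local form of the key lemma.** For tame data `D` at `q`, the invariant `eInv` of `B/(ab)` is
minus the order of the value of `D`. -/
theorem eInv_tameData (hq : DimOne q) [Ring.KrullDimLE 1 (A ⧸ q)] (a b : A)
    (hmin : ∀ p : Ideal A, p.IsPrime → p ≤ q → a * b ∈ p → p = q) (ht : a * b ∈ q)
    (D : CycAlg.TameData (Localization.AtPrime q) (algebraMap A _ a) (algebraMap A _ b))
    [Algebra A D.B] [IsScalarTower A (Localization.AtPrime q) D.B]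
    (L : Submodule A (D.B ⧸ LinearMap.range (LinearMap.lsmul A D.B (a * b)))) (hL : IsLat ⊤ L) :
    eInv (LinearMap.lsmul A _ a) (LinearMap.lsmul A _ b) L =
      - CycAlg.ordFrac (A ⧸ q) (ResidueField (Localization.AtPrime q)) D.value := by
  have hfin : Module.Finite (Localization.AtPrime q) D.B := D.isFinExt.2.1
  have hloc := D.isLocalHom
  have hfinM : Finite (MaximalSpectrum D.B) := finite_maximalSpectrum q D.B (a * b) hmin ht
  have := Fintype.ofFinite (MaximalSpectrum D.B)
  refine (eInv_semilocal q D.B a b hq hloc hmin ht D.π D.π_mem D.u₁ D.u₂ D.e₁ D.e₂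
    (fun q' => (IsScalarTower.algebraMap_apply A (Localization.AtPrime q) _ a).trans (D.fac₁ q'))
    (fun q' => (IsScalarTower.algebraMap_apply A (Localization.AtPrime q) _ b).trans (D.fac₂ q'))
    L hL).trans ?_
  unfold CycAlg.TameData.value
  rw [finprod_eq_prod_of_fintype, ordFrac_prod _ _ _ _ fun q' _ => (ordFrac_localFactor q D q').1]
  congr 1
  exact Finset.sum_congr rfl fun q' _ => ((ordFrac_localFactor q D q').2).symm

end Tame

end Groth.Agent.CycB.KeyTame2
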