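import Groth.Agent.CycA.KeyGlob
import Groth.Agent.CycB.KeyTame2
import Mathlib.RingTheory.Ideal.Height
import Mathlib.RingTheory.Ideal.KrullsHeightTheorem
import Mathlib.RingTheory.Ideal.MinimalPrime.Noetherian

/-!
# Assembly of the key lemma (Stacks 0EAW)
-/

set_option autoImplicit false

universe u

namespace Groth.Agent.CycB.KeyFin

open IsLocalRing Groth.Agent.CycB.KeyIdx Groth.Agent.CycB.KeyLat Groth.Agent.CycB.KeyDet
  Groth.Agent.CycB.KeyProd Groth.Agent.CycB.KeyTame2

section Single

variable {A : Type*} [CommRing A] {B : Type*} [CommRing B] [Algebra A B]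

theorem smul_injective (c : A)
    (hc : ∀ q' : MaximalSpectrum B,
      algebraMap A (Localization.AtPrime q'.asIdeal) c ∈
        nonZeroDivisors (Localization.AtPrime q'.asIdeal)) :
    Function.Injective (fun m : B => c • m) := by
  have key : ∀ x : B, c • x = 0 → x = 0 := by
    intro x hx
    have hx' : algebraMap A B c * x = 0 := by
      rw [← Algebra.smul_def]; exact hx
    refine MaximalSpectrum.toPiLocalization_injective B ?_
    funext q'
    rw [MaximalSpectrum.toPiLocalization_apply_apply, map_zero]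
    have h2 : algebraMap A (Localization.AtPrime q'.asIdeal) c *
        algebraMap B (Localization.AtPrime q'.asIdeal) x = 0 := by
      rw [IsScalarTower.algebraMap_apply A B, ← map_mul, hx', map_zero]
    exact (mul_left_mem_nonZeroDivisors_eq_zero_iff (hc q')).mp h2
  intro x y hxy
  have h : c • (x - y) = 0 := by
    rw [smul_sub]
    exact sub_eq_zero.mpr hxy
  exact sub_eq_zero.mp (key _ h)

theorem ker_lsmul_quot_range (a b c d : A) (hcd : a * b = c * d)
    (hc : Function.Injective (fun m : B => c • m)) :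
    LinearMap.ker (LinearMap.lsmul A (B ⧸ LinearMap.range
        (LinearMap.lsmul A B (a * b))) c) =
      LinearMap.range (LinearMap.lsmul A (B ⧸ LinearMap.range
        (LinearMap.lsmul A B (a * b))) d) := by
  ext x
  obtain ⟨x, rfl⟩ := Submodule.mkQ_surjective _ x
  constructor
  · intro hx
    have hx' : c • x ∈ LinearMap.range (LinearMap.lsmul A B (a * b)) := by
      rw [LinearMap.mem_ker, LinearMap.lsmul_apply, ← map_smul, Submodule.mkQ_apply,
        Submodule.Quotient.mk_eq_zero] at hx
      exact hx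
    obtain ⟨y, hy⟩ := hx'
    refine ⟨Submodule.mkQ _ y, ?_⟩
    rw [LinearMap.lsmul_apply, ← map_smul]
    congr 1
    apply hc
    change c • d • y = c • x
    rw [← hy, LinearMap.lsmul_apply, smul_smul, hcd]
  · rintro ⟨y, hy⟩
    obtain ⟨y, rfl⟩ := Submodule.mkQ_surjective _ y
    have h1 : (LinearMap.range (LinearMap.lsmul A B (a * b))).mkQ ((c * d) • y) = 0 := by
      rw [Submodule.mkQ_apply, Submodule.Quotient.mk_eq_zero, ← hcd]
      exact ⟨y, rfl⟩
    rw [← hy, LinearMap.mem_ker, LinearMap.lsmul_apply, LinearMap.lsmul_apply, smul_smul,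
      ← map_smul]
    exact h1

variable (q : Ideal A) [q.IsPrime] [Algebra (Localization.AtPrime q) B]
  [IsScalarTower A (Localization.AtPrime q) B]

include q in
theorem smul_bijective (s : A) (hs : s ∉ q) : Function.Bijective (fun m : B => s • m) := by
  have hu : IsUnit (algebraMap A B s) := by
    rw [IsScalarTower.algebraMap_apply A (Localization.AtPrime q) B]
    exact (IsLocalization.map_units (M := q.primeCompl) (Localization.AtPrime q) ⟨s, hs⟩).map
      (algebraMap (Localization.AtPrime q) B)
  obtain ⟨v, hv⟩ := hu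
  have h : (fun m : B => s • m) = fun m => (v : B) * m := by
    funext m
    rw [hv]
    exact Algebra.smul_def s m
  rw [h]
  refine ⟨fun x y hxy => v.isUnit.mul_left_cancel hxy, fun y => ⟨(↑v⁻¹ : B) * y, ?_⟩⟩
  change (v : B) * (↑v⁻¹ * y) = y
  rw [← mul_assoc, Units.mul_inv, one_mul]

theorem ker_linearMap (hinj : Function.Injective (algebraMap (Localization.AtPrime q) B)) (x : A)
    (hx : Algebra.linearMap A B x = 0) : ∃ s ∉ q, s * x = 0 := by
  have h1 : algebraMap (Localization.AtPrime q) B (algebraMap A _ x) = 0 :=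
    (IsScalarTower.algebraMap_apply A (Localization.AtPrime q) B x).symm.trans hx
  have h2 : algebraMap A (Localization.AtPrime q) x = 0 := hinj (by rw [h1, map_zero])
  obtain ⟨s, hs⟩ := (IsLocalization.map_eq_zero_iff q.primeCompl _ x).mp h2
  exact ⟨s, s.2, hs⟩

theorem coker_linearMap (t : A) (ht : t ∈ q)
    (hn : ∃ n, ∀ r ∈ maximalIdeal (Localization.AtPrime q) ^ n, ∀ b : B,
      ∃ a : Localization.AtPrime q, algebraMap (Localization.AtPrime q) B a = r • b) :
    ∃ n : ℕ, ∀ y : B, ∃ s ∉ q, ∃ x, Algebra.linearMap A B x = s • t ^ n • y := by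
  obtain ⟨n, hn⟩ := hn
  refine ⟨n, fun y => ?_⟩
  have h1 : algebraMap A (Localization.AtPrime q) t ∈ maximalIdeal (Localization.AtPrime q) := by
    rw [← Localization.AtPrime.map_eq_maximalIdeal]
    exact Ideal.mem_map_of_mem _ ht
  obtain ⟨z, hz⟩ := hn _ (Ideal.pow_mem_pow h1 n) y
  obtain ⟨x, s, hxs⟩ := IsLocalization.exists_mk'_eq q.primeCompl z
  refine ⟨s, s.2, x, ?_⟩
  have h2 : t ^ n • y = algebraMap (Localization.AtPrime q) B z := by
    rw [hz, ← map_pow, algebraMap_smul]
  rw [h2, ← hxs, Algebra.smul_def,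
    IsScalarTower.algebraMap_apply A (Localization.AtPrime q) B,
    ← map_mul, mul_comm, IsLocalization.mk'_spec]
  exact IsScalarTower.algebraMap_apply A (Localization.AtPrime q) B x

end Single

section Height

variable {A : Type u} [CommRing A] [IsNoetherianRing A] [IsLocalRing A]

theorem height_maximalIdeal (hA : ringKrullDim A = 2) : (maximalIdeal A).height = 2 := by
  have h := IsLocalRing.maximalIdeal_height_eq_ringKrullDim (R := A)
  rw [hA] at h
  exact WithBot.coe_injective h

theorem one_le_height {t : A} (ht : t ∈ nonZeroDivisors A) (p : Ideal A) (htp : t ∈ p) :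
    1 ≤ p.height :=
  (Ideal.one_le_height_span_singleton_of_mem_nonZeroDivisors ht).trans
    (Ideal.height_mono ((Ideal.span_singleton_le_iff_mem p).mpr htp))

theorem height_le_one (hA : ringKrullDim A = 2) (p : Ideal A) [p.IsPrime]
    (hp : p ≠ maximalIdeal A) : p.height ≤ 1 := by
  have hlt : p < maximalIdeal A := lt_of_le_of_ne (le_maximalIdeal (Ideal.IsPrime.ne_top ‹_›)) hp
  have := Ideal.height_add_one_le_of_lt_of_isPrime hlt
  rw [height_maximalIdeal hA] at this
  have h2 : p.height + 1 ≤ 1 + 1 := by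
    rwa [one_add_one_eq_two]
  exact (ENat.add_le_add_iff_right ENat.one_ne_top).mp h2

theorem eq_of_le_of_height (p q : Ideal A) [p.IsPrime] [q.IsPrime] (hpq : p ≤ q)
    (hp : 1 ≤ p.height) (hq : q.height ≤ 1) : p = q :=
  Ideal.eq_of_le_of_height_le p hpq (hq.trans hp)

theorem dimOne_of_height (hA : ringKrullDim A = 2) (q : Ideal A) [q.IsPrime]
    (hq : q.height = 1) : DimOne q := by
  intro p hp hqp
  by_cases h : p = maximalIdeal A
  · exact Or.inr h
  · exact Or.inl (eq_of_le_of_height q p hqp hq.ge (height_le_one hA p h)).symm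

theorem krullDimLE_of_dimOne (q : Ideal A) [q.IsPrime] (hq : DimOne q) :
    Ring.KrullDimLE 1 (A ⧸ q) := by
  rw [Ring.krullDimLE_one_iff_of_noZeroDivisors]
  intro I hI hI'
  have h1 : (I.comap (Ideal.Quotient.mk q)).IsPrime := hI'.comap _
  have h2 : q ≤ I.comap (Ideal.Quotient.mk q) := by
    intro x hx
    rw [Ideal.mem_comap, Ideal.Quotient.eq_zero_iff_mem.mpr hx]
    exact I.zero_mem
  have h3 : (I.comap (Ideal.Quotient.mk q)).map (Ideal.Quotient.mk q) = I :=
    Ideal.map_comap_of_surjective _ Ideal.Quotient.mk_surjective I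
  rcases hq _ h1 h2 with h | h
  · exfalso
    apply hI
    rw [← h3, h, Ideal.map_quotient_self]
  · have h4 : (I.comap (Ideal.Quotient.mk q)).IsMaximal := h ▸ inferInstance
    rcases Ideal.map_eq_top_or_isMaximal_of_surjective (Ideal.Quotient.mk q)
      Ideal.Quotient.mk_surjective h4 with h5 | h5
    · rw [h3] at h5
      exact absurd h5 hI'.ne_top
    · rwa [h3] at h5

end Height

section Unit

/-- If `a`, `b` are units the tame symbol is one. -/
theorem tameSymbol_of_isUnit (R : Type u) [CommRing R] [IsLocalRing R] (a b : R) (ha : IsUnit a)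
    (hb : IsUnit b) : CycAlg.tameSymbol R a b = 1 := by
  unfold CycAlg.tameSymbol
  split_ifs with h
  · generalize Classical.choice h = D
    unfold CycAlg.TameData.value
    rw [finprod_eq_one_of_forall_eq_one]
    intro q'
    unfold CycAlg.TameData.localFactor
    have h1 : IsUnit ((D.u₁ q' : Localization.AtPrime q'.asIdeal) * D.π q' ^ D.e₁ q') := by
      rw [← D.fac₁]; exact ha.map _
    have h2 : IsUnit ((D.u₂ q' : Localization.AtPrime q'.asIdeal) * D.π q' ^ D.e₂ q') := by
      rw [← D.fac₂]; exact hb.map _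
    have h1' := isUnit_of_mul_isUnit_right h1
    have h2' := isUnit_of_mul_isUnit_right h2
    by_cases hz : D.e₁ q' = 0 ∧ D.e₂ q' = 0
    · rw [hz.1, hz.2]
      simp
    · have hπ : IsUnit (D.π q') := by
        rcases not_and_or.mp hz with h | h
        · exact (isUnit_pow_iff h).mp h1'
        · exact (isUnit_pow_iff h).mp h2'
      rw [Ring.ord_of_isUnit hπ]
      simp
  · rfl

end Unit

section Family

variable {A : Type u} [CommRing A] [IsNoetherianRing A] [IsLocalRing A]

theorem exists_family {ι : Type*} [Fintype ι] (a b : A) (ha : a ∈ nonZeroDivisors A)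
    (hb : b ∈ nonZeroDivisors A) (q : ι → Ideal A) [hq : ∀ i, (q i).IsPrime]
    (hinc : ∀ i j, q i ≤ q j → i = j) (hne : ∀ i, q i ≠ maximalIdeal A)
    (hab : ∀ i, a * b ∈ q i)
    (hP : ∀ p : Ideal A, p.IsPrime → a * b ∈ p → p = maximalIdeal A ∨ ∃ i, p = q i)
    (B : ι → Type u) [∀ i, CommRing (B i)] [∀ i, Algebra A (B i)]
    [∀ i, Algebra (Localization.AtPrime (q i)) (B i)]
    [∀ i, IsScalarTower A (Localization.AtPrime (q i)) (B i)]
    (hinj : ∀ i, Function.Injective (algebraMap (Localization.AtPrime (q i)) (B i)))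
    (hn : ∀ i, ∃ n, ∀ r ∈ maximalIdeal (Localization.AtPrime (q i)) ^ n, ∀ b : B i,
      ∃ a : Localization.AtPrime (q i), algebraMap (Localization.AtPrime (q i)) (B i) a = r • b)
    (hfa : ∀ i, ∀ q' : MaximalSpectrum (B i),
      algebraMap A (Localization.AtPrime q'.asIdeal) a ∈
        nonZeroDivisors (Localization.AtPrime q'.asIdeal))
    (hfb : ∀ i, ∀ q' : MaximalSpectrum (B i),
      algebraMap A (Localization.AtPrime q'.asIdeal) b ∈
        nonZeroDivisors (Localization.AtPrime q'.asIdeal)) :
    ∃ L : ∀ i, Submodule A (B i ⧸ LinearMap.range (LinearMap.lsmul A (B i) (a * b))),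
      (∀ i, IsLat ⊤ (L i)) ∧
      ∑ i, eInv (LinearMap.lsmul A (B i ⧸ LinearMap.range (LinearMap.lsmul A (B i) (a * b))) a)
        (LinearMap.lsmul A (B i ⧸ LinearMap.range (LinearMap.lsmul A (B i) (a * b))) b) (L i)
          = 0 := by
  classical
  have hia : ∀ i, Function.Injective (fun m : B i => a • m) := fun i =>
    smul_injective a (hfa i)
  have hib : ∀ i, Function.Injective (fun m : B i => b • m) := fun i =>
    smul_injective b (hfb i)
  have hiab : ∀ i, Function.Injective (fun m : B i => (a * b) • m) := fun i => by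
    intro x y hxy
    refine hib i (hia i ?_)
    change a • b • x = a • b • y
    rw [smul_smul, smul_smul]
    exact hxy
  obtain ⟨L, hL, hzero⟩ := Groth.Agent.CycA.KeyGlob.exists_lattice_eInv_eq_zero a b ha hb q hq
    hinc hne hab hP B (fun i => Algebra.linearMap A (B i))
    (fun i s hs => smul_bijective (q i) s hs)
    (fun i x hx => ker_linearMap (q i) (hinj i) x hx)
    hiab (fun i => coker_linearMap (q i) (a * b) (hab i) (hn i))
  refine ⟨fun i => L.map (LinearMap.proj i), fun i => ?_, ?_⟩
  · have h := hL.map (LinearMap.proj i :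
      (∀ i, B i ⧸ LinearMap.range (LinearMap.lsmul A (B i) (a * b))) →ₗ[A]
        (B i ⧸ LinearMap.range (LinearMap.lsmul A (B i) (a * b))))
    rwa [Submodule.map_top, LinearMap.range_eq_top.mpr (LinearMap.proj_surjective i)] at h
  · rw [← hzero]
    exact (eInv_lsmul_eq_sum a b (fun i => ker_lsmul_quot_range a b a b rfl (hia i))
      (fun i => ker_lsmul_quot_range a b b a (mul_comm a b) (hib i)) L hL).symm

/-- Global sum formula for a family of tame data. -/
theorem sum_formula {ι : Type*} [Fintype ι] (a b : A) (ha : a ∈ nonZeroDivisors A)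
    (hb : b ∈ nonZeroDivisors A) (q : ι → Ideal A) [hq : ∀ i, (q i).IsPrime]
    (hinc : ∀ i j, q i ≤ q j → i = j) (hne : ∀ i, q i ≠ maximalIdeal A)
    (hab : ∀ i, a * b ∈ q i)
    (hP : ∀ p : Ideal A, p.IsPrime → a * b ∈ p → p = maximalIdeal A ∨ ∃ i, p = q i)
    (hdim : ∀ i, DimOne (q i))
    (hmin : ∀ i, ∀ p : Ideal A, p.IsPrime → p ≤ q i → a * b ∈ p → p = q i)
    (D : ∀ i, CycAlg.TameData (Localization.AtPrime (q i)) (algebraMap A _ a)
      (algebraMap A _ b)) :
    ∑ i, CycAlg.ordFrac (A ⧸ q i) (ResidueField (Localization.AtPrime (q i))) (D i).value = 0 := by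
  let alg : ∀ i, Algebra A (D i).B := fun i =>
    ((algebraMap (Localization.AtPrime (q i)) (D i).B).comp
      (algebraMap A (Localization.AtPrime (q i)))).toAlgebra
  have htow : ∀ i, IsScalarTower A (Localization.AtPrime (q i)) (D i).B :=
    fun i => IsScalarTower.of_algebraMap_eq' rfl
  have hfa : ∀ i, ∀ q' : MaximalSpectrum (D i).B,
      algebraMap A (Localization.AtPrime q'.asIdeal) a ∈
        nonZeroDivisors (Localization.AtPrime q'.asIdeal) := by
    intro i q'
    have h : algebraMap A (Localization.AtPrime q'.asIdeal) a =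
      (D i).u₁ q' * (D i).π q' ^ (D i).e₁ q' :=
        (IsScalarTower.algebraMap_apply A (Localization.AtPrime (q i)) _ a).trans
          ((D i).fac₁ q')
    rw [h]
    exact mul_mem ((D i).u₁ q').isUnit.mem_nonZeroDivisors (pow_mem ((D i).π_mem q') _)
  have hfb : ∀ i, ∀ q' : MaximalSpectrum (D i).B,
      algebraMap A (Localization.AtPrime q'.asIdeal) b ∈
        nonZeroDivisors (Localization.AtPrime q'.asIdeal) := by
    intro i q'
    have h : algebraMap A (Localization.AtPrime q'.asIdeal) b =
      (D i).u₂ q' * (D i).π q' ^ (D i).e₂ q' :=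
        (IsScalarTower.algebraMap_apply A (Localization.AtPrime (q i)) _ b).trans
          ((D i).fac₂ q')
    rw [h]
    exact mul_mem ((D i).u₂ q').isUnit.mem_nonZeroDivisors (pow_mem ((D i).π_mem q') _)
  obtain ⟨L, hL, hsum⟩ := exists_family a b ha hb q hinc hne hab hP (fun i => (D i).B)
    (fun i => (D i).isFinExt.1) (fun i => (D i).isFinExt.2.2) hfa hfb
  have hterm : ∀ i, eInv
      (LinearMap.lsmul A ((D i).B ⧸ LinearMap.range (LinearMap.lsmul A (D i).B (a * b))) a)
      (LinearMap.lsmul A ((D i).B ⧸ LinearMap.range (LinearMap.lsmul A (D i).B (a * b))) b) (L i)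
      = - CycAlg.ordFrac (A ⧸ q i) (ResidueField (Localization.AtPrime (q i))) (D i).value := by
    intro i
    have hk := krullDimLE_of_dimOne (q i) (hdim i)
    exact eInv_tameData (q i) (hdim i) a b (hmin i) (hab i) (D i) (L i) (hL i)
  rw [Finset.sum_congr rfl fun i _ => hterm i, Finset.sum_neg_distrib, neg_eq_zero] at hsum
  exact hsum

end Family

end Groth.Agent.CycB.KeyFin
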