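import Groth.Agent.CycB.KeyZero
import Groth.Agent.CycB.RatTransport

/-!
# Gysin maps of zero schemes and rational equivalence
-/

set_option autoImplicit false

universe u v w

open CategoryTheory CategoryTheory.Limits AlgebraicGeometry TopologicalSpace Opposite

namespace Groth.Agent.CycB.KeyGysin

open Groth.Agent.CycB.DivFun Groth.Agent.CycB.UnitFin Groth.Agent.CycB.KeyLine
open Groth.Agent.CycB.KeySec Groth.Agent.CycB.KeyLocal Groth.Agent.CycB.KeySum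
open Groth.Agent.CycB.KeyZero Groth.Agent.CycB.C1Basic Groth.Agent.CycB.ModStalk

/-- A locally finite family of rational functions on closures of points of X, all whose members not
in D have divisor zero on D, gives a cycle rationally equivalent to zero on D. -/
theorem ratEquivZero_restrict {X D : Scheme.{u}} {δ : X → ℤ} {k : ℤ} (i : D ⟶ X)
    [IsPreimmersion i] {ι : Type u} (ξ : ι → X) (f : (j : ι) → X.residueField (ξ j))
    (hk : ∀ j, δ (ξ j) = k + 1) (hf : ∀ j, f j ≠ 0) (hξ : LocFin ξ)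
    (hD : ∀ j, ξ j ∉ Set.range ⇑i → ∀ d : D, Cyc.divFun δ (ξ j) (f j) (i d) = 0)
    (γ : AlgebraicCycle D ℤ) (hγ : ∀ d : D, γ d = ∑ᶠ j, Cyc.divFun δ (ξ j) (f j) (i d)) :
    Cyc.RatEquivZero (fun d => δ (i d)) k γ := by
  have hlift : ∀ j : {j : ι // ξ j ∈ Set.range ⇑i}, ∃ (ζ : D) (g : D.residueField ζ),
      i ζ = ξ j.1 ∧ g ≠ 0 ∧
        ∀ z, Cyc.divFun (fun z => δ (i z)) ζ g z = Cyc.divFun δ (ξ j.1) (f j.1) (i z) :=
    fun j => RatTransport.exists_lift i δ (ξ j.1) j.2 (f j.1) (hf j.1)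
  choose ζ g h1 h2 h3 using hlift
  refine ratEquivZero_of (ι := {j : ι // ξ j ∈ Set.range ⇑i}) ζ g ?_ h2 ?_ γ ?_
  · intro j
    rw [h1, hk]
  · intro d
    obtain ⟨U, hU, hdU, hfin⟩ := hξ (i d)
    refine ⟨⇑i ⁻¹' U, hU.preimage i.continuous, hdU, ?_⟩
    refine (hfin.preimage (f := fun j : {j : ι // ξ j ∈ Set.range ⇑i} => j.1)
      (Subtype.val_injective.injOn)).subset ?_
    intro j hj
    change i (ζ j) ∈ U at hj
    rw [h1] at hj
    exact hj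
  · intro d
    rw [hγ d, finsum_congr (fun j => h3 j d)]
    exact (finsum_subtype_of_zero (fun j => ξ j ∈ Set.range ⇑i)
      (fun j => Cyc.divFun δ (ξ j) (f j) (i d)) (fun j hj => hD j hj d)).symm

variable {X D : Scheme.{u}} {δ : X → ℤ}

theorem gysinChoice_ne_zero {L : X.Modules} (s : L.presheaf.obj (Opposite.op ⊤))
    {t : (ξ : X) → Cyc.secFibre L ξ} (ht : ∀ ξ, t ξ ≠ 0) (ξ : X) :
    Cyc.gysinChoice L s t ξ ≠ 0 := by
  unfold Cyc.gysinChoice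
  split_ifs with h
  · exact h
  · exact ht ξ

theorem gysinChoice_of_ne_zero {L : X.Modules} (s : L.presheaf.obj (Opposite.op ⊤))
    (t : (ξ : X) → Cyc.secFibre L ξ) {ξ : X}
    (h : cl L ξ (L.presheaf.germ ⊤ ξ trivial s) ≠ 0) :
    Cyc.gysinChoice L s t ξ = cl L ξ (L.presheaf.germ ⊤ ξ trivial s) := by
  unfold Cyc.gysinChoice
  exact if_pos h

/-- At a point ζ outside the zero scheme the symbol of the Gysin data is 1. -/
theorem sym_eq_one_of_notMem [IsLocallyNoetherian X] (hδ : Cyc.IsDimFun X δ) {ξ : X}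
    {L : X.Modules} (hL : PicF.IsInvertible L) (s : L.presheaf.obj (Opposite.op ⊤))
    {t : (ξ : X) → Cyc.secFibre L ξ} (ht : ∀ ξ, t ξ ≠ 0) (D₂ : LineData δ ξ)
    (ζ : {ζ : X // ξ ⤳ ζ ∧ δ ζ + 1 = δ ξ})
    (h : cl L ζ.1 (L.presheaf.germ ⊤ ζ.1 trivial s) ≠ 0)
    (h' : cl L ξ (L.presheaf.germ ⊤ ξ trivial s) ≠ 0) :
    (secData δ hL (gysinChoice_ne_zero s ht ξ) (gysinChoice_ne_zero s ht)).sym D₂ ζ = 1 := by
  have e : L.presheaf.stalkSpecializes ζ.2.1 (L.presheaf.germ ⊤ ζ.1 trivial s) =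
      L.presheaf.germ ⊤ ξ trivial s :=
    TopCat.Presheaf.germ_stalkSpecializes_apply L.presheaf (U := ⊤) trivial ζ.2.1 s
  obtain ⟨u, hu, hu'⟩ := exists_ratio_eq_unit (s := Cyc.gysinChoice L s t ξ) hL
    (gysinChoice_ne_zero s ht) ζ.1 ζ.2.1 (L.presheaf.germ ⊤ ζ.1 trivial s)
    (gysinChoice_of_ne_zero s t h).symm (by rw [e]; exact (gysinChoice_of_ne_zero s t h').symm)
  exact LineData.sym_eq_one_of_residue hδ _ _ ζ u hu hu'

/-- The zero locus: points of the zero scheme. -/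
theorem mem_range_iff {L : X.Modules} {s : L.presheaf.obj (Opposite.op ⊤)} {i : D ⟶ X}
    (hD : Cyc.IsZeroSchemeOf i L s) (x : X) :
    x ∈ Set.range ⇑i ↔ cl L x (L.presheaf.germ ⊤ x trivial s) = 0 := by
  rw [hD.1]
  rfl

/-- outside of D, points ζ in the closure of ξ have symbol 1 -/
theorem sym_eq_one_of_notMem_range [IsLocallyNoetherian X] (hδ : Cyc.IsDimFun X δ) {ξ : X}
    {L : X.Modules} (hL : PicF.IsInvertible L) {s : L.presheaf.obj (Opposite.op ⊤)} {i : D ⟶ X}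
    [IsClosedImmersion i] (hD : Cyc.IsZeroSchemeOf i L s)
    {t : (ξ : X) → Cyc.secFibre L ξ} (ht : ∀ ξ, t ξ ≠ 0) (D₂ : LineData δ ξ)
    (ζ : {ζ : X // ξ ⤳ ζ ∧ δ ζ + 1 = δ ξ}) (h : ζ.1 ∉ Set.range ⇑i) :
    (secData δ hL (gysinChoice_ne_zero s ht ξ) (gysinChoice_ne_zero s ht)).sym D₂ ζ = 1 := by
  apply sym_eq_one_of_notMem hδ hL s ht D₂ ζ
  · exact fun h' => h ((mem_range_iff hD _).2 h')
  · intro h'
    exact h (ζ.2.1.mem_closed i.isClosedEmbedding.isClosed_range ((mem_range_iff hD _).2 h'))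

/-- Stacks 02TO: the Gysin map kills cycles rationally equivalent to zero. -/
theorem ratEquivZero_gysin [IsLocallyNoetherian X] (hδ : Cyc.IsDimFun X δ)
    {L : X.Modules} (hL : PicF.IsInvertible L) {s : L.presheaf.obj (Opposite.op ⊤)} {i : D ⟶ X}
    [IsClosedImmersion i] (hD : Cyc.IsZeroSchemeOf i L s) {k : ℤ}
    {α : AlgebraicCycle X ℤ} (h0 : Cyc.RatEquivZero δ (k + 1) α)
    {t : (ξ : X) → Cyc.secFibre L ξ} (ht : ∀ ξ, t ξ ≠ 0) (γ : AlgebraicCycle D ℤ)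
    (hγ : ∀ d : D, γ d = Cyc.c1CapFun δ L ⇑α (Cyc.gysinChoice L s t) (i d)) :
    Cyc.RatEquivZero (fun d => δ (i d)) k γ := by
  rw [ratEquivZero_iff] at h0
  obtain ⟨ι, ξ, f, h1, h2, h3, h4⟩ := h0
  let D₁ : (j : ι) → LineData δ (ξ j) := fun j =>
    secData δ hL (gysinChoice_ne_zero s ht (ξ j)) (gysinChoice_ne_zero s ht)
  let D₂ : (j : ι) → LineData δ (ξ j) := fun j => funData δ (f j) (h2 j)
  have hloc : LocFin (fun p : Σ j, (D₁ j).bad (D₂ j) => p.2.1) :=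
    locFin_sigma h3 (fun j => LineData.locFin_bad hδ _ _) (fun j ζ => ζ.2.1.1)
  refine ratEquivZero_restrict i (ι := Σ j, (D₁ j).bad (D₂ j)) (fun p => p.2.1)
    (fun p => ((D₁ p.1).sym (D₂ p.1) ⟨p.2.1, p.2.2.1⟩)⁻¹) ?_ ?_ hloc ?_ γ ?_
  · rintro ⟨j, ζ⟩
    have h5 := ζ.2.1.2
    have h6 := h1 j
    dsimp only
    omega
  · rintro ⟨j, ζ⟩
    exact inv_ne_zero (LineData.sym_ne_zero hδ _ _ _)
  · rintro ⟨j, ζ⟩ h d
    dsimp only at h ⊢
    rw [sym_eq_one_of_notMem_range hδ hL hD ht (D₂ j) ⟨ζ.1, ζ.2.1⟩ h, inv_one,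
      OrdFrac.divFun_one]
    rfl
  · intro d
    rw [hγ d, c1CapFun_eq hδ h3 f h2 _ h4 (i d), finsum_sigma_of_finite _
      (finite_support_divFun hloc
        (fun p : Σ j, (D₁ j).bad (D₂ j) => ((D₁ p.1).sym (D₂ p.1) ⟨p.2.1, p.2.2.1⟩)⁻¹) (i d)
        (δ := δ))]
    apply finsum_congr
    intro j
    have hk := key_bad hδ (D₁ j) (D₂ j) (i d)
    have h0 : ∑ᶠ ζ : X, (D₁ j).ordS ζ * (D₂ j).div ζ (i d) = 0 := by
      apply finsum_eq_zero_of_forall_eq_zero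
      intro ζ
      exact mul_zero _
    rw [h0, zero_sub] at hk
    have e : ∑ᶠ ζ : X, Cyc.divFun δ (ξ j) (f j) ζ *
        Cyc.secDivFun δ L ζ (Cyc.gysinChoice L s t ζ) (i d) =
        ∑ᶠ ζ : X, (D₂ j).ordS ζ * (D₁ j).div ζ (i d) := rfl
    have hk' : ∑ᶠ ζ : X, (D₂ j).ordS ζ * (D₁ j).div ζ (i d) =
        - ∑ᶠ ζ : (D₁ j).bad (D₂ j),
          Cyc.divFun δ ζ.1 ((D₁ j).sym (D₂ j) ⟨ζ.1, ζ.2.1⟩) (i d) := by
      rw [hk, neg_neg]
    rw [e, hk', ← finsum_neg_distrib]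
    apply finsum_congr
    intro ζ
    rw [OrdFrac.divFun_inv]
    rfl

end Groth.Agent.CycB.KeyGysin
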