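import Mathlib.RingTheory.Length
import Mathlib.Data.ENat.BigOperators
import Mathlib.Algebra.Module.Submodule.Map
import Mathlib.LinearAlgebra.Isomorphisms
import Mathlib.Tactic.Abel
import Mathlib.Tactic.Linarith

/-!
# Relative lengths and indices of commensurable submodules

For submodules `L₀`, `L₁` of an `R`-module `V`, `relLen L₀ L₁` is the length of `L₁/(L₀ ∩ L₁)`, and
`idx L₁ L₂ = length (L₁/(L₁ ∩ L₂)) - length (L₂/(L₁ ∩ L₂))` is the generalised index of two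
commensurable submodules.
-/

set_option autoImplicit false

namespace Groth.Agent.CycB.KeyIdx

open Submodule

variable {R : Type*} [CommRing R] {V W : Type*} [AddCommGroup V] [Module R V]
  [AddCommGroup W] [Module R W]

theorem mem_sOf {L₀ L₁ : Submodule R V} {x : L₁} : x ∈ L₀.submoduleOf L₁ ↔ (x : V) ∈ L₀ := Iff.rfl

theorem add_ne_top' {a b : ℕ∞} : a + b ≠ ⊤ ↔ a ≠ ⊤ ∧ b ≠ ⊤ := by
  rw [Ne, ENat.add_eq_top, not_or]

/-- The length of `L₁ / (L₀ ∩ L₁)`. -/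
noncomputable def relLen (L₀ L₁ : Submodule R V) : ℕ∞ :=
  Module.length R (↥L₁ ⧸ L₀.submoduleOf L₁)

/-- Transport of relative length: if `g : L₁ → P` is surjective with kernel `L₀ ∩ L₁`. -/
theorem relLen_eq_of_surjective {P : Type*} [AddCommGroup P] [Module R P]
    (L₀ L₁ : Submodule R V) (g : L₁ →ₗ[R] P) (hg : Function.Surjective g)
    (hk : ∀ x : L₁, g x = 0 ↔ (x : V) ∈ L₀) : relLen L₀ L₁ = Module.length R P := by
  have h : LinearMap.ker g = L₀.submoduleOf L₁ := by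
    ext x
    rw [LinearMap.mem_ker, hk, mem_sOf]
  unfold relLen
  rw [← h]
  exact (LinearMap.quotKerEquivOfSurjective g hg).length_eq

theorem relLen_eq_zero {L₀ L₁ : Submodule R V} (h : L₁ ≤ L₀) : relLen L₀ L₁ = 0 := by
  unfold relLen
  rw [Module.length_eq_zero_iff, Submodule.Quotient.subsingleton_iff]
  exact Submodule.submoduleOf_eq_top.mpr h

@[simp] theorem relLen_self (L : Submodule R V) : relLen L L = 0 := relLen_eq_zero le_rfl

theorem relLen_inf_left (L₀ L₁ : Submodule R V) : relLen (L₀ ⊓ L₁) L₁ = relLen L₀ L₁ := by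
  refine relLen_eq_of_surjective _ _ (Submodule.mkQ _) (Submodule.mkQ_surjective _) ?_
  intro x
  rw [Submodule.mkQ_apply, Submodule.Quotient.mk_eq_zero, mem_sOf]
  simp [x.2]

theorem relLen_inf_right (L₀ L₁ : Submodule R V) : relLen (L₁ ⊓ L₀) L₁ = relLen L₀ L₁ := by
  rw [inf_comm, relLen_inf_left]

theorem relLen_sup_right (L₀ L₁ : Submodule R V) : relLen L₀ (L₀ ⊔ L₁) = relLen L₀ L₁ := by
  symm
  refine relLen_eq_of_surjective _ _
    ((Submodule.mkQ (L₀.submoduleOf (L₀ ⊔ L₁))).comp (Submodule.inclusion le_sup_right)) ?_ ?_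
  · intro y
    obtain ⟨⟨z, hz⟩, rfl⟩ := Submodule.mkQ_surjective _ y
    obtain ⟨u, hu, v, hv, rfl⟩ := Submodule.mem_sup.mp hz
    refine ⟨⟨v, hv⟩, ?_⟩
    rw [LinearMap.comp_apply, Submodule.mkQ_apply, Submodule.mkQ_apply, Submodule.Quotient.eq]
    rw [mem_sOf]
    simp [hu]
  · intro x
    rw [LinearMap.comp_apply, Submodule.mkQ_apply, Submodule.Quotient.mk_eq_zero,
      mem_sOf]
    simp

theorem relLen_add {L₀ L₁ L₂ : Submodule R V} (h₀ : L₀ ≤ L₁) (h₁ : L₁ ≤ L₂) :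
    relLen L₀ L₂ = relLen L₀ L₁ + relLen L₁ L₂ := by
  unfold relLen
  refine Module.length_eq_add_of_exact
    (Submodule.mapQ (L₀.submoduleOf L₁) (L₀.submoduleOf L₂) (Submodule.inclusion h₁) ?_)
    (Submodule.factor (p := L₀.submoduleOf L₂) (p' := L₁.submoduleOf L₂) ?_) ?_ ?_ ?_
  · intro x hx
    rw [Submodule.mem_comap, mem_sOf]
    rw [mem_sOf] at hx
    simpa using hx
  · intro x hx
    rw [mem_sOf] at hx ⊢
    exact h₀ hx
  · rw [← LinearMap.ker_eq_bot, LinearMap.ker_eq_bot']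
    intro y hy
    obtain ⟨x, rfl⟩ := Submodule.mkQ_surjective _ y
    rw [Submodule.mkQ_apply, Submodule.mapQ_apply, Submodule.Quotient.mk_eq_zero,
      mem_sOf] at hy
    rw [Submodule.mkQ_apply, Submodule.Quotient.mk_eq_zero, mem_sOf]
    simpa using hy
  · exact Submodule.factor_surjective _
  · intro y
    obtain ⟨x, rfl⟩ := Submodule.mkQ_surjective _ y
    change (Submodule.Quotient.mk x : (↥L₂ ⧸ L₁.submoduleOf L₂)) = 0 ↔ _
    rw [Submodule.Quotient.mk_eq_zero, mem_sOf]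
    constructor
    · intro hx
      refine ⟨Submodule.Quotient.mk ⟨x, hx⟩, ?_⟩
      rw [Submodule.mapQ_apply]
      rfl
    · rintro ⟨z, hz⟩
      obtain ⟨z, rfl⟩ := Submodule.mkQ_surjective _ z
      rw [Submodule.mkQ_apply, Submodule.mkQ_apply, Submodule.mapQ_apply, Submodule.Quotient.eq,
        mem_sOf] at hz
      have h2 := h₀ hz
      have h3 : ((Submodule.inclusion h₁ z - x : L₂) : V) = (z : V) - (x : V) := rfl
      change ((Submodule.inclusion h₁ z - x : L₂) : V) ∈ L₁ at h2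
      rw [h3] at h2
      have := L₁.sub_mem z.2 h2
      simpa using this

theorem relLen_mono_right {L₀ L₁ L₂ : Submodule R V} (h : L₁ ≤ L₂) :
    relLen L₀ L₁ ≤ relLen L₀ L₂ := by
  rw [← relLen_inf_left L₀ L₂, ← relLen_inf_left L₀ L₁]
  have h1 : relLen (L₀ ⊓ L₁) L₁ = relLen (L₀ ⊓ L₂) L₁ := by
    rw [relLen_inf_left, ← relLen_inf_left (L₀ ⊓ L₂) L₁, inf_assoc, inf_eq_right.mpr h,
      relLen_inf_left]
  rw [h1, ← relLen_sup_right (L₀ ⊓ L₂) L₁,
    relLen_add (le_sup_left : L₀ ⊓ L₂ ≤ L₀ ⊓ L₂ ⊔ L₁) (sup_le inf_le_right h)]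
  exact le_self_add

theorem relLen_antitone_left {L₀ L₁ L₂ : Submodule R V} (h : L₀ ≤ L₁) :
    relLen L₁ L₂ ≤ relLen L₀ L₂ := by
  rw [← relLen_inf_left L₁ L₂, ← relLen_inf_left L₀ L₂,
    relLen_add (inf_le_inf_right L₂ h : L₀ ⊓ L₂ ≤ L₁ ⊓ L₂) inf_le_right]
  exact le_add_self

theorem relLen_map (f : V →ₗ[R] W) {L₀ L₁ : Submodule R V} (h : L₀ ≤ L₁) :
    relLen L₀ L₁ = relLen (L₀ ⊓ LinearMap.ker f) (L₁ ⊓ LinearMap.ker f) +
      relLen (L₀.map f) (L₁.map f) := by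
  have h1 : relLen (L₀ ⊓ LinearMap.ker f) (L₁ ⊓ LinearMap.ker f)
      = relLen L₀ (L₁ ⊓ LinearMap.ker f) := by
    rw [← relLen_inf_left L₀ (L₁ ⊓ LinearMap.ker f)]
    congr 1
    rw [← inf_assoc, inf_eq_left.mpr h]
  have h2 : relLen (L₀.map f) (L₁.map f) = relLen (L₀ ⊔ L₁ ⊓ LinearMap.ker f) L₁ := by
    symm
    let g : L₁ →ₗ[R] (↥(L₁.map f) ⧸ (L₀.map f).submoduleOf (L₁.map f)) :=
      (Submodule.mkQ ((L₀.map f).submoduleOf (L₁.map f))).comp
        (f.restrict (p := L₁) (q := L₁.map f) (fun x hx => Submodule.mem_map_of_mem hx))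
    refine relLen_eq_of_surjective _ _ g ?_ ?_
    · intro y
      obtain ⟨⟨z, hz⟩, rfl⟩ := Submodule.mkQ_surjective _ y
      obtain ⟨u, hu, rfl⟩ := Submodule.mem_map.mp hz
      exact ⟨⟨u, hu⟩, rfl⟩
    · intro x
      change (Submodule.Quotient.mk (⟨f x, _⟩ : ↥(L₁.map f)) :
        (↥(L₁.map f) ⧸ (L₀.map f).submoduleOf (L₁.map f))) = 0 ↔ _
      rw [Submodule.Quotient.mk_eq_zero, mem_sOf]
      change f x ∈ L₀.map f ↔ _
      constructor
      · rintro ⟨y, hy, hyx⟩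
        have hyx' : f y = f x := hyx
        rw [Submodule.mem_sup]
        refine ⟨y, hy, x - y, ?_, by abel⟩
        refine ⟨L₁.sub_mem x.2 (h hy), ?_⟩
        rw [SetLike.mem_coe, LinearMap.mem_ker, map_sub, hyx', sub_self]
      · intro hx
        obtain ⟨y, hy, z, hz, hyz⟩ := Submodule.mem_sup.mp hx
        refine ⟨y, hy, ?_⟩
        have hz' : f z = 0 := hz.2
        rw [← hyz, map_add, hz', add_zero]
  rw [h1, h2, ← relLen_sup_right L₀ (L₁ ⊓ LinearMap.ker f)]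
  exact relLen_add le_sup_left (sup_le h inf_le_left)

/-- `L₁` and `L₂` are commensurable. -/
def Comm (L₁ L₂ : Submodule R V) : Prop := relLen L₁ L₂ ≠ ⊤ ∧ relLen L₂ L₁ ≠ ⊤

/-- The index `[L₁ : L₂]`. -/
noncomputable def idx (L₁ L₂ : Submodule R V) : ℤ :=
  ((relLen L₂ L₁).toNat : ℤ) - ((relLen L₁ L₂).toNat : ℤ)

theorem Comm.symm {L₁ L₂ : Submodule R V} (h : Comm L₁ L₂) : Comm L₂ L₁ := ⟨h.2, h.1⟩

theorem Comm.refl (L : Submodule R V) : Comm L L := by simp [Comm]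

theorem comm_of_le {L₀ L₁ L₂ : Submodule R V} (h₁ : relLen L₀ L₁ ≠ ⊤) (h₂ : relLen L₀ L₂ ≠ ⊤)
    (h₁' : L₀ ≤ L₁) (h₂' : L₀ ≤ L₂) : Comm L₁ L₂ :=
  ⟨ne_top_of_le_ne_top h₂ (relLen_antitone_left h₁'),
    ne_top_of_le_ne_top h₁ (relLen_antitone_left h₂')⟩

@[simp] theorem idx_self (L : Submodule R V) : idx L L = 0 := by simp [idx]

theorem idx_symm (L₁ L₂ : Submodule R V) : idx L₁ L₂ = - idx L₂ L₁ := by
  unfold idx; ring

theorem idx_eq_of_le {L₀ L₁ L₂ : Submodule R V} (h₁ : relLen L₀ L₁ ≠ ⊤) (h₂ : relLen L₀ L₂ ≠ ⊤)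
    (h₁' : L₀ ≤ L₁) (h₂' : L₀ ≤ L₂) :
    idx L₁ L₂ = ((relLen L₀ L₁).toNat : ℤ) - ((relLen L₀ L₂).toNat : ℤ) := by
  have hc := comm_of_le h₁ h₂ h₁' h₂'
  have e1 : relLen L₀ L₁ = relLen L₀ (L₁ ⊓ L₂) + relLen L₂ L₁ := by
    rw [← relLen_inf_right L₂ L₁]
    exact relLen_add (le_inf h₁' h₂') inf_le_left
  have e2 : relLen L₀ L₂ = relLen L₀ (L₁ ⊓ L₂) + relLen L₁ L₂ := by
    rw [← relLen_inf_left L₁ L₂]
    exact relLen_add (le_inf h₁' h₂') inf_le_right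
  have hf : relLen L₀ (L₁ ⊓ L₂) ≠ ⊤ := ne_top_of_le_ne_top h₁ (relLen_mono_right inf_le_left)
  rw [e1, e2, ENat.toNat_add hf hc.2, ENat.toNat_add hf hc.1]
  unfold idx
  push_cast
  ring

theorem idx_of_le {L₁ L₂ : Submodule R V} (h : L₂ ≤ L₁) :
    idx L₁ L₂ = ((relLen L₂ L₁).toNat : ℤ) := by
  unfold idx
  rw [relLen_eq_zero h]
  simp

theorem idx_of_ge {L₁ L₂ : Submodule R V} (h : L₁ ≤ L₂) :
    idx L₁ L₂ = - ((relLen L₁ L₂).toNat : ℤ) := by
  unfold idx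
  rw [relLen_eq_zero h]
  simp

theorem Comm.relLen_inf_ne_top {L₁ L₂ L₃ : Submodule R V} (h : Comm L₁ L₂) (h' : Comm L₂ L₃) :
    relLen (L₁ ⊓ L₂ ⊓ L₃) L₁ ≠ ⊤ ∧ relLen (L₁ ⊓ L₂ ⊓ L₃) L₂ ≠ ⊤ ∧
      relLen (L₁ ⊓ L₂ ⊓ L₃) L₃ ≠ ⊤ := by
  refine ⟨?_, ?_, ?_⟩
  · rw [relLen_add (L₁ := L₁ ⊓ L₂) inf_le_left inf_le_left]
    rw [relLen_inf_right, relLen_inf_right]
    exact add_ne_top'.mpr ⟨ne_top_of_le_ne_top h'.symm.1 (relLen_mono_right inf_le_right),
      h.2⟩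
  · rw [relLen_add (L₁ := L₁ ⊓ L₂) inf_le_left inf_le_right]
    rw [relLen_inf_right, relLen_inf_left]
    exact add_ne_top'.mpr ⟨ne_top_of_le_ne_top h'.symm.1 (relLen_mono_right inf_le_right),
      h.1⟩
  · have : L₁ ⊓ L₂ ⊓ L₃ = L₁ ⊓ (L₂ ⊓ L₃) := inf_assoc _ _ _
    rw [this, relLen_add (L₁ := L₂ ⊓ L₃) inf_le_right inf_le_right]
    rw [relLen_inf_left, relLen_inf_left]
    exact add_ne_top'.mpr ⟨ne_top_of_le_ne_top h.1 (relLen_mono_right inf_le_left), h'.1⟩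

theorem Comm.trans {L₁ L₂ L₃ : Submodule R V} (h : Comm L₁ L₂) (h' : Comm L₂ L₃) :
    Comm L₁ L₃ := by
  obtain ⟨h1, -, h3⟩ := h.relLen_inf_ne_top h'
  exact comm_of_le h1 h3 (inf_le_left.trans inf_le_left) inf_le_right

theorem idx_add {L₁ L₂ L₃ : Submodule R V} (h : Comm L₁ L₂) (h' : Comm L₂ L₃) :
    idx L₁ L₂ + idx L₂ L₃ = idx L₁ L₃ := by
  obtain ⟨h1, h2, h3⟩ := h.relLen_inf_ne_top h'
  rw [idx_eq_of_le h1 h2 (inf_le_left.trans inf_le_left) (inf_le_left.trans inf_le_right),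
    idx_eq_of_le h2 h3 (inf_le_left.trans inf_le_right) inf_le_right,
    idx_eq_of_le h1 h3 (inf_le_left.trans inf_le_left) inf_le_right]
  ring

theorem comm_map (f : V →ₗ[R] W) {L₁ L₂ : Submodule R V} (h : Comm L₁ L₂) :
    Comm (L₁ ⊓ LinearMap.ker f) (L₂ ⊓ LinearMap.ker f) ∧ Comm (L₁.map f) (L₂.map f) := by
  have hm1 := relLen_map f (inf_le_left : L₁ ⊓ L₂ ≤ L₁)
  have hm2 := relLen_map f (inf_le_right : L₁ ⊓ L₂ ≤ L₂)
  rw [relLen_inf_right] at hm1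
  rw [relLen_inf_left] at hm2
  have h1 := h.2
  have h2 := h.1
  rw [hm1] at h1
  rw [hm2] at h2
  rw [add_ne_top'] at h1 h2
  exact ⟨comm_of_le h1.1 h2.1 (inf_le_inf_right _ inf_le_left) (inf_le_inf_right _ inf_le_right),
    comm_of_le h1.2 h2.2 (Submodule.map_mono inf_le_left) (Submodule.map_mono inf_le_right)⟩

theorem idx_map (f : V →ₗ[R] W) {L₁ L₂ : Submodule R V} (h : Comm L₁ L₂) :
    idx L₁ L₂ = idx (L₁ ⊓ LinearMap.ker f) (L₂ ⊓ LinearMap.ker f) + idx (L₁.map f) (L₂.map f) := by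
  have hm1 := relLen_map f (inf_le_left : L₁ ⊓ L₂ ≤ L₁)
  have hm2 := relLen_map f (inf_le_right : L₁ ⊓ L₂ ≤ L₂)
  rw [relLen_inf_right] at hm1
  rw [relLen_inf_left] at hm2
  have h1 := h.2
  have h2 := h.1
  rw [hm1] at h1
  rw [hm2] at h2
  rw [add_ne_top'] at h1 h2
  rw [idx_eq_of_le h1.1 h2.1 (inf_le_inf_right _ inf_le_left) (inf_le_inf_right _ inf_le_right),
    idx_eq_of_le h1.2 h2.2 (Submodule.map_mono inf_le_left) (Submodule.map_mono inf_le_right)]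
  unfold idx
  rw [hm1, hm2, ENat.toNat_add h1.1 h1.2, ENat.toNat_add h2.1 h2.2]
  push_cast
  ring

theorem relLen_map_injective (f : V →ₗ[R] W) (hf : Function.Injective f) (L₁ L₂ : Submodule R V) :
    relLen (L₁.map f) (L₂.map f) = relLen L₁ L₂ := by
  rw [← relLen_inf_left L₁ L₂, relLen_map f (inf_le_right : L₁ ⊓ L₂ ≤ L₂),
    LinearMap.ker_eq_bot.mpr hf, inf_bot_eq, inf_bot_eq, relLen_self, zero_add,
    Submodule.map_inf f hf, relLen_inf_left]

theorem idx_map_injective (f : V →ₗ[R] W) (hf : Function.Injective f) (L₁ L₂ : Submodule R V) :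
    idx (L₁.map f) (L₂.map f) = idx L₁ L₂ := by
  unfold idx
  rw [relLen_map_injective f hf, relLen_map_injective f hf]

theorem comm_map_injective (f : V →ₗ[R] W) (hf : Function.Injective f) {L₁ L₂ : Submodule R V} :
    Comm (L₁.map f) (L₂.map f) ↔ Comm L₁ L₂ := by
  unfold Comm
  rw [relLen_map_injective f hf, relLen_map_injective f hf]

section Pi

variable {ι : Type*} {M : ι → Type*} [∀ i, AddCommGroup (M i)] [∀ i, Module R (M i)]

theorem relLen_pi [Fintype ι] (L L' : ∀ i, Submodule R (M i)) :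
    relLen (Submodule.pi Set.univ L) (Submodule.pi Set.univ L') = ∑ i, relLen (L i) (L' i) := by
  have : ∑ i, relLen (L i) (L' i) =
      Module.length R (∀ i, (↥(L' i) ⧸ (L i).submoduleOf (L' i))) := by
    rw [Module.length_pi_of_fintype]
    rfl
  rw [this]
  refine relLen_eq_of_surjective _ _
    (LinearMap.pi fun i => (Submodule.mkQ _).comp
      ((LinearMap.proj i).restrict (p := Submodule.pi Set.univ L') (q := L' i)
        (fun x hx => hx i trivial))) ?_ ?_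
  · intro y
    choose z hz using fun i => Submodule.mkQ_surjective _ (y i)
    refine ⟨⟨fun i => z i, fun i _ => (z i).2⟩, ?_⟩
    ext i
    exact hz i
  · intro x
    rw [funext_iff]
    constructor
    · intro h i _
      have := h i
      change (Submodule.Quotient.mk _ : (↥(L' i) ⧸ (L i).submoduleOf (L' i))) = 0 at this
      rw [Submodule.Quotient.mk_eq_zero, mem_sOf] at this
      exact this
    · intro h i
      change (Submodule.Quotient.mk _ : (↥(L' i) ⧸ (L i).submoduleOf (L' i))) = 0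
      rw [Submodule.Quotient.mk_eq_zero, mem_sOf]
      exact h i trivial

theorem idx_pi [Fintype ι] (L L' : ∀ i, Submodule R (M i)) (h : ∀ i, Comm (L i) (L' i)) :
    idx (Submodule.pi Set.univ L) (Submodule.pi Set.univ L') = ∑ i, idx (L i) (L' i) := by
  unfold idx
  rw [relLen_pi, relLen_pi, ENat.toNat_sum (fun i _ => (h i).2), ENat.toNat_sum (fun i _ => (h i).1)]
  push_cast
  rw [← Finset.sum_sub_distrib]

end Pi

end Groth.Agent.CycB.KeyIdx
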