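import Groth.Agent.CycB.KeyIdx
import Mathlib.RingTheory.HopkinsLevitzki
import Mathlib.RingTheory.Artinian.Module
import Mathlib.RingTheory.Noetherian.Basic
import Mathlib.RingTheory.LocalRing.MaximalIdeal.Basic
import Mathlib.Algebra.Module.Torsion.Basic
import Mathlib.RingTheory.Ideal.Quotient.Noetherian
import Mathlib.RingTheory.LocalRing.RingHom.Basic
import Mathlib.RingTheory.LocalRing.Quotient
import Mathlib.Tactic.Ring

/-!
# Lattices over a Noetherian local ring and the index form of the Herbrand quotient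

For a Noetherian local ring `(A, 𝔪)` and a submodule `W` of an `A`-module `V`, a lattice in `W` is a
finitely generated submodule `L ≤ W` such that every element of `W/L` is killed by a power of `𝔪`.
Any two lattices in `W` are commensurable. For endomorphisms `φ, ψ` of `V` with `ker φ = im ψ` and
`ker ψ = im φ` the number `eInv φ ψ L = [ker φ ∩ L : ψ L] - [ker ψ ∩ L : φ L]` does not depend on the
lattice `L` in `V`.
-/

set_option autoImplicit false

namespace Groth.Agent.CycB.KeyLat

open Submodule IsLocalRing Groth.Agent.CycB.KeyIdx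

variable {A : Type*} [CommRing A] [IsNoetherianRing A] [IsLocalRing A]
variable {V V' : Type*} [AddCommGroup V] [Module A V] [AddCommGroup V'] [Module A V']

/-- A finitely generated module over a Noetherian local ring all of whose elements are killed by a
power of the maximal ideal has finite length. -/
theorem length_ne_top_of_fg_of_torsion [Module.Finite A V]
    (h : ∀ v : V, ∃ k : ℕ, ∀ r ∈ maximalIdeal A ^ k, r • v = 0) : Module.length A V ≠ ⊤ := by
  obtain ⟨s, hs⟩ := (Module.Finite.fg_top : (⊤ : Submodule A V).FG)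
  choose k hk using h
  let K := s.sup k
  have hK : ∀ v : V, ∀ r ∈ maximalIdeal A ^ K, r • v = 0 := by
    intro v r hr
    have hv : v ∈ span A (s : Set V) := by rw [hs]; trivial
    induction hv using Submodule.span_induction with
    | mem x hx =>
      exact hk x r (Ideal.pow_le_pow_right (Finset.le_sup (f := k) hx) hr)
    | zero => exact smul_zero r
    | add x y _ _ hx hy => rw [smul_add, hx, hy, add_zero]
    | smul a x _ hx => rw [smul_comm, hx, smul_zero]
  have htor : Module.IsTorsionBySet A V (maximalIdeal A ^ K : Ideal A) := by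
    intro v r
    exact hK v r r.2
  let _ := htor.module
  have hst : IsScalarTower A (A ⧸ maximalIdeal A ^ K) V := inferInstance
  have hart : IsArtinianRing (A ⧸ maximalIdeal A ^ K) := by
    by_cases hne : maximalIdeal A ^ K = ⊤
    · have : Subsingleton (A ⧸ maximalIdeal A ^ K) := Ideal.Quotient.subsingleton_iff.mpr hne
      exact inferInstance
    · have : Nontrivial (A ⧸ maximalIdeal A ^ K) := Ideal.Quotient.nontrivial_iff.mpr hne
      have hsurj : Function.Surjective (Ideal.Quotient.mk (maximalIdeal A ^ K)) :=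
        Ideal.Quotient.mk_surjective
      have : IsLocalRing (A ⧸ maximalIdeal A ^ K) := .of_surjective' _ hsurj
      have : IsNoetherianRing (A ⧸ maximalIdeal A ^ K) := inferInstance
      rw [isArtinianRing_iff_isNilpotent_maximalIdeal]
      refine ⟨K, ?_⟩
      have : maximalIdeal (A ⧸ maximalIdeal A ^ K) =
          (maximalIdeal A).map (Ideal.Quotient.mk (maximalIdeal A ^ K)) := by
        exact (IsLocalRing.map_maximalIdeal_of_surjective _ hsurj).symm
      rw [this, ← Ideal.map_pow, Ideal.zero_eq_bot, Ideal.map_eq_bot_iff_le_ker, Ideal.mk_ker]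
  have hfin : Module.Finite (A ⧸ maximalIdeal A ^ K) V := Module.Finite.of_restrictScalars_finite A _ _
  have : Module.length A V = Module.length (A ⧸ maximalIdeal A ^ K) V :=
    Module.length_eq_of_surjective (S := A) (R := A ⧸ maximalIdeal A ^ K)
      Ideal.Quotient.mk_surjective
  rw [this]
  have : IsArtinian (A ⧸ maximalIdeal A ^ K) V := isArtinian_of_fg_of_artinian'
  have : IsNoetherian (A ⧸ maximalIdeal A ^ K) V := isNoetherian_of_isNoetherianRing_of_finite _ _
  exact Module.length_ne_top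

/-- `L` is a lattice in the submodule `W`. -/
structure IsLat (W L : Submodule A V) : Prop where
  le : L ≤ W
  fg : L.FG
  abs : ∀ v ∈ W, ∃ k : ℕ, ∀ r ∈ maximalIdeal A ^ k, r • v ∈ L

variable {W W' L L' L₁ L₂ : Submodule A V}

theorem IsLat.relLen_ne_top (h₁ : IsLat W L₁) (h₂ : IsLat W L₂) : relLen L₁ L₂ ≠ ⊤ := by
  unfold relLen
  have : Module.Finite A L₂ := Module.Finite.iff_fg.mpr h₂.fg
  refine length_ne_top_of_fg_of_torsion ?_
  intro v
  obtain ⟨v, rfl⟩ := Submodule.mkQ_surjective _ v
  obtain ⟨k, hk⟩ := h₁.abs v (h₂.le v.2)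
  refine ⟨k, fun r hr => ?_⟩
  rw [← map_smul, Submodule.mkQ_apply, Submodule.Quotient.mk_eq_zero, mem_sOf]
  exact hk r hr

theorem IsLat.comm (h₁ : IsLat W L₁) (h₂ : IsLat W L₂) : Comm L₁ L₂ :=
  ⟨h₁.relLen_ne_top h₂, h₂.relLen_ne_top h₁⟩

theorem IsLat.map (f : V →ₗ[A] V') (h : IsLat W L) : IsLat (W.map f) (L.map f) where
  le := Submodule.map_mono h.le
  fg := h.fg.map f
  abs := by
    rintro _ ⟨v, hv, rfl⟩
    obtain ⟨k, hk⟩ := h.abs v hv
    exact ⟨k, fun r hr => ⟨r • v, hk r hr, map_smul f r v⟩⟩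

theorem IsLat.inf (h : IsLat W L) (hW : W' ≤ W) : IsLat W' (W' ⊓ L) where
  le := inf_le_left
  fg := h.fg.of_le inf_le_right
  abs := by
    intro v hv
    obtain ⟨k, hk⟩ := h.abs v (hW hv)
    exact ⟨k, fun r hr => ⟨W'.smul_mem r hv, hk r hr⟩⟩

theorem IsLat.of_le (h : IsLat W L) (hL : L ≤ L') (hW : L' ≤ W) (hfg : L'.FG) : IsLat W L' where
  le := hW
  fg := hfg
  abs := by
    intro v hv
    obtain ⟨k, hk⟩ := h.abs v hv
    exact ⟨k, fun r hr => hL (hk r hr)⟩

theorem IsLat.map_top (f : V →ₗ[A] V') (h : IsLat ⊤ L) : IsLat (LinearMap.range f) (L.map f) := by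
  have := h.map f
  rwa [Submodule.map_top] at this

/-- For a family of lattices, the product is a lattice. -/
theorem isLat_pi {ι : Type*} [Finite ι] {M : ι → Type*} [∀ i, AddCommGroup (M i)]
    [∀ i, Module A (M i)] {L : ∀ i, Submodule A (M i)} (h : ∀ i, IsLat ⊤ (L i)) :
    IsLat ⊤ (Submodule.pi Set.univ L) where
  le := le_top
  fg := Submodule.fg_pi fun i => (h i).fg
  abs := by
    intro v _
    have := Fintype.ofFinite ι
    choose k hk using fun i => (h i).abs (v i) trivial
    refine ⟨Finset.univ.sup k, fun r hr i _ => ?_⟩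
    exact hk i r (Ideal.pow_le_pow_right (Finset.le_sup (f := k) (Finset.mem_univ i)) hr)

/-! ### The index of an automorphism -/

theorem chi_indep (u : V →ₗ[A] V) (hu : Function.Injective u) (hW : W.map u = W)
    (h : IsLat W L) (h' : IsLat W L') : idx L (L.map u) = idx L' (L'.map u) := by
  have hm : IsLat W (L.map u) := by have := h.map u; rwa [hW] at this
  have hm' : IsLat W (L'.map u) := by have := h'.map u; rwa [hW] at this
  have e1 := idx_add (h.comm h') (h'.comm hm')
  have e2 := idx_add (h.comm hm) (hm.comm hm')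
  have e3 := idx_map_injective u hu L L'
  linarith

/-! ### The invariant `eInv` -/

/-- The index form of the Herbrand quotient. -/
noncomputable def eInv (φ ψ : V →ₗ[A] V) (L : Submodule A V) : ℤ :=
  idx (LinearMap.ker φ ⊓ L) (L.map ψ) - idx (LinearMap.ker ψ ⊓ L) (L.map φ)

theorem eInv_indep {φ ψ : V →ₗ[A] V} (h₁ : LinearMap.ker φ = LinearMap.range ψ)
    (h₂ : LinearMap.ker ψ = LinearMap.range φ) (h : IsLat ⊤ L) (h' : IsLat ⊤ L') :
    eInv φ ψ L = eInv φ ψ L' := by
  have a1 : IsLat (LinearMap.ker φ) (LinearMap.ker φ ⊓ L) := h.inf le_top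
  have a2 : IsLat (LinearMap.ker φ) (LinearMap.ker φ ⊓ L') := h'.inf le_top
  have a3 : IsLat (LinearMap.ker φ) (L.map ψ) := by rw [h₁]; exact h.map_top ψ
  have a4 : IsLat (LinearMap.ker φ) (L'.map ψ) := by rw [h₁]; exact h'.map_top ψ
  have b1 : IsLat (LinearMap.ker ψ) (LinearMap.ker ψ ⊓ L) := h.inf le_top
  have b2 : IsLat (LinearMap.ker ψ) (LinearMap.ker ψ ⊓ L') := h'.inf le_top
  have b3 : IsLat (LinearMap.ker ψ) (L.map φ) := by rw [h₂]; exact h.map_top φ
  have b4 : IsLat (LinearMap.ker ψ) (L'.map φ) := by rw [h₂]; exact h'.map_top φ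
  have e1 := idx_add (a1.comm a2) (a2.comm a4)
  have e2 := idx_add (a1.comm a3) (a3.comm a4)
  have e3 := idx_add (b1.comm b2) (b2.comm b4)
  have e4 := idx_add (b1.comm b3) (b3.comm b4)
  have e5 := idx_map φ (h.comm h')
  have e6 := idx_map ψ (h.comm h')
  rw [inf_comm L, inf_comm L'] at e5 e6
  unfold eInv
  linarith

theorem eInv_swap (φ ψ : V →ₗ[A] V) (L : Submodule A V) : eInv φ ψ L = - eInv ψ φ L := by
  unfold eInv; ring

theorem eInv_comp_left {φ ψ u : V →ₗ[A] V} (hu : Function.Injective u)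
    (hr : (LinearMap.range φ).map u = LinearMap.range φ)
    (h₂ : LinearMap.ker ψ = LinearMap.range φ) (h : IsLat ⊤ L) :
    eInv (u ∘ₗ φ) ψ L = eInv φ ψ L - idx (L.map φ) ((L.map φ).map u) := by
  have hk : LinearMap.ker (u ∘ₗ φ) = LinearMap.ker φ := by
    rw [LinearMap.ker_comp, LinearMap.ker_eq_bot.mpr hu]; rfl
  have b1 : IsLat (LinearMap.ker ψ) (LinearMap.ker ψ ⊓ L) := h.inf le_top
  have b3 : IsLat (LinearMap.ker ψ) (L.map φ) := by rw [h₂]; exact h.map_top φ
  have b5 : IsLat (LinearMap.ker ψ) ((L.map φ).map u) := by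
    rw [h₂]
    have := (h.map_top φ).map u
    rwa [hr] at this
  have e := idx_add (b1.comm b3) (b3.comm b5)
  unfold eInv
  rw [hk, Submodule.map_comp]
  linarith

theorem eInv_comp_right {φ ψ u : V →ₗ[A] V} (hu : Function.Injective u)
    (hr : (LinearMap.range ψ).map u = LinearMap.range ψ)
    (h₁ : LinearMap.ker φ = LinearMap.range ψ) (h : IsLat ⊤ L) :
    eInv φ (u ∘ₗ ψ) L = eInv φ ψ L + idx (L.map ψ) ((L.map ψ).map u) := by
  rw [eInv_swap, eInv_comp_left hu hr h₁ h, eInv_swap φ ψ]
  ring

/-- The invariant vanishes for the powers of a nilpotent endomorphism `π` with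
`ker π^i = im π^(n-i)`. -/
theorem eInv_pow_eq_zero (π : V →ₗ[A] V) (n : ℕ) (hn : 0 < n)
    (hk : ∀ i j, i + j = n → LinearMap.ker (π ^ i) = LinearMap.range (π ^ j))
    (h : IsLat ⊤ L) (i j : ℕ) (hij : i + j = n) : eInv (π ^ i) (π ^ j) L = 0 := by
  -- notation
  let x : ℕ → ℤ := fun i => idx (LinearMap.ker (π ^ i) ⊓ L) (L.map (π ^ (n - i)))
  let z : ℕ → ℕ → ℤ := fun a b =>
    idx (LinearMap.ker (π ^ a) ⊓ L) (LinearMap.ker (π ^ a) ⊓ L.map (π ^ b))
  have hkle : ∀ {a b : ℕ}, a ≤ b → LinearMap.ker (π ^ a) ≤ LinearMap.ker (π ^ b) := by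
    intro a b hab v hv
    rw [LinearMap.mem_ker] at hv ⊢
    obtain ⟨c, rfl⟩ := Nat.exists_eq_add_of_le hab
    rw [add_comm, pow_add, Module.End.mul_apply, hv, map_zero]
  have hlatK : ∀ a b : ℕ, a + b ≤ n → IsLat (LinearMap.ker (π ^ a))
      (LinearMap.ker (π ^ a) ⊓ L.map (π ^ b)) := by
    intro a b hab
    have h1 : IsLat (LinearMap.range (π ^ b)) (L.map (π ^ b)) := h.map_top _
    refine h1.inf ?_
    rw [← hk (n - b) b (by omega)]
    exact hkle (by omega)
  have hlatK0 : ∀ a : ℕ, IsLat (LinearMap.ker (π ^ a)) (LinearMap.ker (π ^ a) ⊓ L) :=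
    fun a => h.inf le_top
  have hlatI : ∀ a : ℕ, a ≤ n → IsLat (LinearMap.ker (π ^ a)) (L.map (π ^ (n - a))) := by
    intro a ha
    rw [hk a (n - a) (by omega)]
    exact h.map_top _
  -- the key relation
  have key : ∀ a b c : ℕ, a + b + c = n → x (a + b) - x a = z b c - z a b := by
    intro a b c habc
    have hab : n - (a + b) = c := by omega
    have hna : n - a = b + c := by omega
    have e1 := idx_map (π ^ b) ((hlatK0 (a + b)).comm (hlatI (a + b) (by omega)))
    have m1 : (LinearMap.ker (π ^ (a + b)) ⊓ L) ⊓ LinearMap.ker (π ^ b) =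
        LinearMap.ker (π ^ b) ⊓ L := by
      apply le_antisymm
      · exact le_inf inf_le_right (inf_le_left.trans inf_le_right)
      · exact le_inf (le_inf (inf_le_left.trans (hkle (by omega))) inf_le_right) inf_le_left
    have m2 : (LinearMap.ker (π ^ (a + b)) ⊓ L).map (π ^ b) =
        LinearMap.ker (π ^ a) ⊓ L.map (π ^ b) := by
      ext v
      constructor
      · rintro ⟨w, ⟨hw1, hw2⟩, rfl⟩
        refine ⟨?_, ⟨w, hw2, rfl⟩⟩
        have hw1' : (π ^ (a + b)) w = 0 := hw1
        change (π ^ a) ((π ^ b) w) = 0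
        rw [← Module.End.mul_apply, ← pow_add]
        exact hw1'
      · rintro ⟨hv, ⟨w, hw, rfl⟩⟩
        refine ⟨w, ⟨?_, hw⟩, rfl⟩
        have hv' : (π ^ a) ((π ^ b) w) = 0 := hv
        change (π ^ (a + b)) w = 0
        rw [pow_add, Module.End.mul_apply]
        exact hv'
    have m3 : (L.map (π ^ (n - (a + b)))).map (π ^ b) = L.map (π ^ (n - a)) := by
      rw [← Submodule.map_comp, hab, hna, pow_add]
      rfl
    have m4 : L.map (π ^ (n - (a + b))) ⊓ LinearMap.ker (π ^ b) =
        LinearMap.ker (π ^ b) ⊓ L.map (π ^ c) := by rw [hab, inf_comm]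
    rw [m1, m2, m3, m4] at e1
    have e2 := idx_add ((hlatK0 a).comm (hlatK a b (by omega)))
      ((hlatK a b (by omega)).comm (hlatI a (by omega)))
    change x (a + b) = z b c + _ at e1
    change z a b + _ = x a at e2
    linarith
  let hh : ℕ → ℤ := fun i => x i - x (n - i)
  have hsum : ∀ a b c : ℕ, a + b + c = n → hh a + hh b + hh c = 0 := by
    intro a b c habc
    have k1 := key a b c habc
    have k2 := key b c a (by omega)
    have k3 := key c a b (by omega)
    have s1 : n - c = a + b := by omega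
    have s2 : n - a = b + c := by omega
    have s3 : n - b = c + a := by omega
    simp only [hh]
    rw [s1, s2, s3]
    linarith
  have hh0 : hh 0 = 0 := by
    simp only [hh, x]
    have hker0 : LinearMap.ker (π ^ 0) = ⊥ := by
      rw [pow_zero]; exact LinearMap.ker_id
    have hkern : LinearMap.ker (π ^ n) = ⊤ := by
      rw [hk n 0 (by omega), pow_zero]; exact LinearMap.range_id
    have hpin : π ^ n = 0 := LinearMap.ker_eq_top.mp hkern
    rw [hker0, Nat.sub_zero, hpin, LinearMap.ker_zero, Nat.sub_self, pow_zero, bot_inf_eq,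
      top_inf_eq]
    have : L.map (1 : V →ₗ[A] V) = L := Submodule.map_id L
    rw [this, Submodule.map_zero]
    simp
  have hneg : ∀ a, a ≤ n → hh (n - a) = - hh a := by
    intro a ha
    have : n - (n - a) = a := by omega
    simp only [hh]
    rw [this]; ring
  have hadd : ∀ a b, a + b ≤ n → hh (a + b) = hh a + hh b := by
    intro a b hab
    have e1 := hsum a b (n - (a + b)) (by omega)
    have e2 := hneg (a + b) hab
    linarith
  have hmul : ∀ a, a ≤ n → hh a = a * hh 1 := by
    intro a
    induction a with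
    | zero => intro _; rw [hh0]; simp
    | succ a ih =>
      intro ha
      rw [hadd a 1 ha, ih (by omega)]
      push_cast
      ring
  have hhn : hh n = 0 := by
    have := hneg 0 (by omega)
    rw [Nat.sub_zero, hh0] at this
    linarith
  have hh1 : hh 1 = 0 := by
    have := hmul n le_rfl
    rw [hhn] at this
    have hn' : (n : ℤ) ≠ 0 := by exact_mod_cast hn.ne'
    exact (mul_eq_zero.mp this.symm).resolve_left hn'
  have hfin : hh i = 0 := by rw [hmul i (by omega), hh1, mul_zero]
  have hj : n - i = j := by omega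
  have hi : n - j = i := by omega
  simp only [hh, x] at hfin
  rw [hj, hi] at hfin
  exact hfin

end Groth.Agent.CycB.KeyLat
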