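import Groth.Agent.CycB.DivFun

/-!
# A nonzero rational function is a unit outside a locally finite family of codimension one points
-/

set_option autoImplicit false
universe u v

open AlgebraicGeometry CategoryTheory TopologicalSpace

namespace Groth.Agent.CycB.UnitFin

open Groth.Agent.CycB.DivFun

variable {X : Scheme.{u}}

/-- `a ∈ κ(ξ)` is the image of a unit of `O_{X,ζ}`. -/
def IsUnitAt (ζ ξ : X) (a : X.residueField ξ) : Prop :=
  ∃ (h : ξ ⤳ ζ) (u : (X.presheaf.stalk ζ)ˣ), Cyc.specMap ζ ξ h (u : X.presheaf.stalk ζ) = a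

theorem IsUnitAt.mul {ζ ξ : X} {a b : X.residueField ξ} (ha : IsUnitAt ζ ξ a)
    (hb : IsUnitAt ζ ξ b) : IsUnitAt ζ ξ (a * b) := by
  obtain ⟨h, u, rfl⟩ := ha
  obtain ⟨_, v, rfl⟩ := hb
  exact ⟨h, u * v, by rw [Units.val_mul, map_mul]⟩

theorem IsUnitAt.inv {ζ ξ : X} {a : X.residueField ξ} (ha : IsUnitAt ζ ξ a) :
    IsUnitAt ζ ξ a⁻¹ := by
  obtain ⟨h, u, rfl⟩ := ha
  refine ⟨h, u⁻¹, ?_⟩
  refine eq_inv_of_mul_eq_one_left ?_
  rw [← map_mul, Units.inv_mul, map_one]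

theorem IsUnitAt.one {ζ ξ : X} (h : ξ ⤳ ζ) : IsUnitAt ζ ξ 1 := ⟨h, 1, by simp⟩

theorem IsUnitAt.div {ζ ξ : X} {a b : X.residueField ξ} (ha : IsUnitAt ζ ξ a)
    (hb : IsUnitAt ζ ξ b) : IsUnitAt ζ ξ (a / b) := by
  rw [div_eq_mul_inv]
  exact ha.mul hb.inv

variable {U : X.Opens} {δ : X → ℤ}

/-- A nonzero rational function is a unit outside a locally finite family of codimension one
points. -/
theorem locallyFinite_not_isUnitAt [IsLocallyNoetherian X] (hδ : Cyc.IsDimFun X δ) (ξ : X)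
    {f : X.residueField ξ} (hf : f ≠ 0) (x : X) :
    ∃ U : Set X, IsOpen U ∧ x ∈ U ∧
      (U ∩ {ζ | (ξ ⤳ ζ ∧ δ ζ + 1 = δ ξ) ∧ ¬ IsUnitAt ζ ξ f}).Finite := by
  classical
  obtain ⟨U, hU, hxU, -⟩ := exists_isAffineOpen_mem_and_subset (X := X) (x := x) (U := ⊤) trivial
  refine ⟨U, U.2, hxU, ?_⟩
  by_cases hξ : ξ ∈ U
  swap
  · convert Set.finite_empty
    rw [Set.eq_empty_iff_forall_notMem]
    rintro z ⟨hz, ⟨h1, -⟩, -⟩
    exact hξ (h1.mem_open U.2 hz)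
  obtain ⟨a, b, hb, rfl⟩ := exists_evaluation_div hU hξ f
  have ha : X.evaluation U ξ hξ a ≠ 0 := by
    intro h0
    apply hf
    rw [h0, zero_div]
  have hA : IsNoetherianRing Γ(X, U) := IsLocallyNoetherian.component_noetherian ⟨U, hU⟩
  let I : Ideal Γ(X, U) := (hU.primeIdealOf ⟨ξ, hξ⟩).asIdeal ⊔ Ideal.span {a * b}
  have hmin : I.minimalPrimes.Finite := Ideal.finite_minimalPrimes_of_isNoetherianRing _ I
  have hnot : ∀ c : Γ(X, U), X.evaluation U ξ hξ c ≠ 0 →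
      c ∉ (hU.primeIdealOf ⟨ξ, hξ⟩).asIdeal := by
    intro c hc hmem
    rw [mem_primeIdealOf_iff, ← mem_nonunits_iff, ← IsLocalRing.mem_maximalIdeal] at hmem
    exact hc (Ideal.Quotient.eq_zero_iff_mem.2 hmem)
  let g : Ideal Γ(X, U) → X := fun P => if h : P.IsPrime then hU.fromSpec ⟨P, h⟩ else x
  refine (hmin.image g).subset ?_
  rintro z ⟨hz, hsp, hz'⟩
  have hab : a * b ∈ (hU.primeIdealOf ⟨z, hz⟩).asIdeal := by
    rw [mem_primeIdealOf_iff]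
    intro hu
    rw [map_mul] at hu
    apply hz'
    have h1 := isUnit_of_mul_isUnit_left hu
    have h2 := isUnit_of_mul_isUnit_right hu
    rw [← specMap_germ hsp.1 hz, ← specMap_germ hsp.1 hz]
    exact IsUnitAt.div ⟨hsp.1, h1.unit, rfl⟩ ⟨hsp.1, h2.unit, rfl⟩
  refine ⟨(hU.primeIdealOf ⟨z, hz⟩).asIdeal, ?_, ?_⟩
  · refine ⟨⟨(hU.primeIdealOf ⟨z, hz⟩).2, ?_⟩, ?_⟩
    · refine sup_le ?_ ?_
      · exact (primeIdealOf_le_iff hU ⟨ξ, hξ⟩ ⟨z, hz⟩).2 hsp.1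
      · rw [Ideal.span_le, Set.singleton_subset_iff]
        exact hab
    · rintro q ⟨hq, hIq⟩ hqz
      obtain ⟨hw, hw'⟩ := primeIdealOf_fromSpec hU ⟨q, hq⟩
      have h1 : ξ ⤳ hU.fromSpec (⟨q, hq⟩ : PrimeSpectrum _) := by
        rw [← primeIdealOf_le_iff hU ⟨ξ, hξ⟩ ⟨_, hw⟩, hw']
        exact le_sup_left.trans hIq
      have h2 : hU.fromSpec (⟨q, hq⟩ : PrimeSpectrum _) ⤳ z := by
        rw [← primeIdealOf_le_iff hU ⟨_, hw⟩ ⟨z, hz⟩, hw']
        exact hqz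
      rcases LocQuot.eq_or_eq_of_between hδ h1 h2 hsp.2 with h3 | h3
      · exfalso
        have h4 : hU.primeIdealOf ⟨ξ, hξ⟩ = ⟨q, hq⟩ := by
          rw [← hw']
          congr 1
          exact Subtype.ext h3.symm
        have h5 : a * b ∈ (hU.primeIdealOf ⟨ξ, hξ⟩).asIdeal := by
          rw [h4]
          exact hIq (Ideal.mem_sup_right (Ideal.mem_span_singleton_self _))
        rcases (hU.primeIdealOf ⟨ξ, hξ⟩).2.mem_or_mem h5 with h6 | h6
        · exact hnot a ha h6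
        · exact hnot b hb h6
      · have h4 : hU.primeIdealOf ⟨z, hz⟩ = ⟨q, hq⟩ := by
          rw [← hw']
          congr 1
          exact Subtype.ext h3.symm
        rw [h4]
  · simp only [g]
    rw [dif_pos (hU.primeIdealOf ⟨z, hz⟩).2]
    exact hU.fromSpec_primeIdealOf ⟨z, hz⟩

end Groth.Agent.CycB.UnitFin
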