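import Groth.Agent.CycB.KeyLocal
import Groth.Agent.CycB.UnitFin

/-!
# The key formula for pairs of "rational sections"

`LineData δ ξ` abstracts: an invertible module L, a nonzero rational section s ∈ L(ξ) and nonzero
rational sections v_ζ ∈ L(ζ): `ratio ζ ∈ κ(ξ)` is s divided by a lift of v_ζ, and `div ζ` is the
divisor of v_ζ on the closure of ζ.
-/

set_option autoImplicit false

universe u

open AlgebraicGeometry CategoryTheory IsLocalRing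

namespace Groth.Agent.CycB.KeyLine

open Groth.Agent.CycB.TamePt Groth.Agent.CycB.KeyLocal Groth.Agent.CycB.UnitFin
open Groth.Agent.CycB.DivFun

variable {X : Scheme.{u}}

/-- See the module docstring. -/
structure LineData (δ : X → ℤ) (ξ : X) where
  /-- s divided by a lift of v_ζ -/
  ratio : X → X.residueField ξ
  ratio_ne : ∀ ζ, ratio ζ ≠ 0
  /-- the divisor of v_ζ -/
  div : X → X → ℤ
  div_eq_zero : ∀ ζ y, ¬ (ζ ⤳ y ∧ δ y + 1 = δ ζ) → div ζ y = 0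
  compat : ∀ x : X, ∃ U : Set X, IsOpen U ∧ x ∈ U ∧ ∃ a : X.residueField ξ, a ≠ 0 ∧
    ∀ ζ ∈ U, ∀ h : ξ ⤳ ζ, ∃ d : (X.presheaf.stalk ζ)ˣ,
      ratio ζ * Cyc.specMap ζ ξ h (d : X.presheaf.stalk ζ) = a ∧
      ∀ y ∈ U, div ζ y = Cyc.divFun δ ζ (X.residue ζ (d : X.presheaf.stalk ζ)) y

variable {δ : X → ℤ} {ξ : X}

/-- the function g_ζ at the codimension one point ζ: the tame symbol of the two ratios -/
noncomputable def LineData.sym (D₁ D₂ : LineData δ ξ) (ζ : {ζ : X // ξ ⤳ ζ ∧ δ ζ + 1 = δ ξ}) :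
    X.residueField ζ.1 :=
  tamePt ζ.1 ξ ζ.2.1 (D₁.ratio ζ.1) (D₂.ratio ζ.1)

/-- the divisor of the rational section s -/
noncomputable def LineData.ordS (D : LineData δ ξ) : X → ℤ :=
  fun ζ => Cyc.divFun δ ξ (D.ratio ζ) ζ

variable [IsLocallyNoetherian X] (hδ : Cyc.IsDimFun X δ)

include hδ in
theorem LineData.sym_ne_zero (D₁ D₂ : LineData δ ξ) (ζ : {ζ : X // ξ ⤳ ζ ∧ δ ζ + 1 = δ ξ}) :
    D₁.sym D₂ ζ ≠ 0 :=
  tamePt_ne_zero hδ ζ.2.1 ζ.2.2 (D₁.ratio_ne _) (D₂.ratio_ne _)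

omit [IsLocallyNoetherian X] in
theorem ordAt_of_isUnitAt {ζ : X} (h : ξ ⤳ ζ) {a : X.residueField ξ} (ha : IsUnitAt ζ ξ a) :
    Cyc.ordAt ζ ξ h a = 0 := by
  obtain ⟨_, u, rfl⟩ := ha
  exact OrdFrac.ordAt_specMap_of_isUnit h u.isUnit

include hδ in
theorem LineData.sym_eq_one (D₁ D₂ : LineData δ ξ) (ζ : {ζ : X // ξ ⤳ ζ ∧ δ ζ + 1 = δ ξ})
    (h₁ : IsUnitAt ζ.1 ξ (D₁.ratio ζ.1)) (h₂ : IsUnitAt ζ.1 ξ (D₂.ratio ζ.1)) :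
    D₁.sym D₂ ζ = 1 := by
  have h3 := ordAt_of_isUnitAt ζ.2.1 h₂
  obtain ⟨_, u, hu⟩ := h₁
  unfold LineData.sym
  rw [← hu, tamePt_unit_left hδ ζ.2.1 ζ.2.2 u (D₂.ratio_ne _), h3, zpow_zero]

/-- If the first ratio is the image of a unit with residue class 1 then the symbol is 1. -/
theorem LineData.sym_eq_one_of_residue (hδ : Cyc.IsDimFun X δ) (D₁ D₂ : LineData δ ξ)
    (ζ : {ζ : X // ξ ⤳ ζ ∧ δ ζ + 1 = δ ξ}) (u : (X.presheaf.stalk ζ.1)ˣ)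
    (hu : Cyc.specMap ζ.1 ξ ζ.2.1 (u : X.presheaf.stalk ζ.1) = D₁.ratio ζ.1)
    (hu' : X.residue ζ.1 (u : X.presheaf.stalk ζ.1) = 1) : D₁.sym D₂ ζ = 1 := by
  unfold LineData.sym
  rw [← hu, tamePt_unit_left hδ ζ.2.1 ζ.2.2 u (D₂.ratio_ne _), hu', one_zpow]

include hδ in
/-- Outside a locally finite family, the ratio is a unit. -/
theorem LineData.locallyFinite (D : LineData δ ξ) (x : X) :
    ∃ U : Set X, IsOpen U ∧ x ∈ U ∧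
      (U ∩ {ζ | (ξ ⤳ ζ ∧ δ ζ + 1 = δ ξ) ∧ ¬ IsUnitAt ζ ξ (D.ratio ζ)}).Finite := by
  obtain ⟨U, hU, hxU, a, ha, H⟩ := D.compat x
  obtain ⟨V, hV, hxV, hfin⟩ := locallyFinite_not_isUnitAt hδ ξ ha x
  refine ⟨U ∩ V, hU.inter hV, ⟨hxU, hxV⟩, hfin.subset ?_⟩
  rintro ζ ⟨⟨hζU, hζV⟩, h1, h2⟩
  refine ⟨hζV, h1, fun h3 => h2 ?_⟩
  obtain ⟨d, hd, -⟩ := H ζ hζU h1.1
  have h4 : D.ratio ζ = a / Cyc.specMap ζ ξ h1.1 (d : X.presheaf.stalk ζ) := by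
    rw [eq_div_iff (specMap_unit_ne_zero h1.1 d), hd]
  rw [h4]
  exact h3.div ⟨h1.1, d, rfl⟩

/-- The family of codimension one points where one of the ratios is not a unit. -/
def LineData.bad (D₁ D₂ : LineData δ ξ) : Set X :=
  {ζ | (ξ ⤳ ζ ∧ δ ζ + 1 = δ ξ) ∧
    ¬ (IsUnitAt ζ ξ (D₁.ratio ζ) ∧ IsUnitAt ζ ξ (D₂.ratio ζ))}

include hδ in
theorem LineData.locFin_bad (D₁ D₂ : LineData δ ξ) :
    LocFin (fun ζ : D₁.bad D₂ => ζ.1) := by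
  intro x
  obtain ⟨U, hU, hxU, hfin⟩ := D₁.locallyFinite hδ x
  obtain ⟨V, hV, hxV, hfin'⟩ := D₂.locallyFinite hδ x
  refine ⟨U ∩ V, hU.inter hV, ⟨hxU, hxV⟩, ?_⟩
  refine Set.Finite.of_injOn (f := fun ζ : D₁.bad D₂ => ζ.1) (t := _) ?_
    (Subtype.val_injective.injOn) (hfin.union hfin')
  rintro ⟨ζ, hζ, hζ'⟩ ⟨h1, h2⟩
  rw [not_and_or] at hζ'
  rcases hζ' with h | h
  · exact Or.inl ⟨h1, hζ, h⟩
  · exact Or.inr ⟨h2, hζ, h⟩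

/-- local computation of one term of the key formula -/
theorem LineData.term_eq (hδ : Cyc.IsDimFun X δ) (D₁ D₂ : LineData δ ξ) (x : X) :
    ∃ a b : X.residueField ξ, a ≠ 0 ∧ b ≠ 0 ∧
      ∀ ζ : {ζ : X // ξ ⤳ ζ ∧ δ ζ + 1 = δ ξ},
        Cyc.divFun δ ζ.1 (D₁.sym D₂ ζ) x =
          Cyc.divFun δ ζ.1 (tamePt ζ.1 ξ ζ.2.1 a b) x +
            (D₁.ordS ζ.1 * D₂.div ζ.1 x - D₂.ordS ζ.1 * D₁.div ζ.1 x) := by
  obtain ⟨U, hU, hxU, a, ha, H₁⟩ := D₁.compat x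
  obtain ⟨V, hV, hxV, b, hb, H₂⟩ := D₂.compat x
  refine ⟨a, b, ha, hb, ?_⟩
  rintro ⟨ζ, h1, h2⟩
  by_cases hx : ζ ⤳ x ∧ δ x + 1 = δ ζ
  swap
  · rw [OrdFrac.divFun_eq_zero δ hx, OrdFrac.divFun_eq_zero δ hx, D₁.div_eq_zero ζ x hx,
      D₂.div_eq_zero ζ x hx]
    simp
  obtain ⟨d, hd, hd'⟩ := H₁ ζ (hx.1.mem_open hU hxU) h1
  obtain ⟨c, hc, hc'⟩ := H₂ ζ (hx.1.mem_open hV hxV) h1
  have n1 := D₁.ratio_ne ζ
  have n2 := D₂.ratio_ne ζ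
  have nd := specMap_unit_ne_zero h1 d
  have nc := specMap_unit_ne_zero h1 c
  have rd := residue_unit_ne_zero d
  have rc := residue_unit_ne_zero c
  have e1 : Cyc.ordAt ζ ξ h1 (Cyc.specMap ζ ξ h1 (c : X.presheaf.stalk ζ)) = 0 :=
    OrdFrac.ordAt_specMap_of_isUnit h1 c.isUnit
  have e2 : tamePt ζ ξ h1 a b = tamePt ζ ξ h1 (D₁.ratio ζ) (D₂.ratio ζ) *
      ((X.residue ζ (c : X.presheaf.stalk ζ)) ^ (- Cyc.ordAt ζ ξ h1 (D₁.ratio ζ)) *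
      (X.residue ζ (d : X.presheaf.stalk ζ)) ^ (Cyc.ordAt ζ ξ h1 (D₂.ratio ζ))) := by
    rw [← hd, ← hc, tamePt_mul_left hδ h1 h2 n1 nd (mul_ne_zero n2 nc),
      tamePt_mul_right hδ h1 h2 n1 n2 nc, tamePt_mul_right hδ h1 h2 nd n2 nc,
      tamePt_unit_right hδ h1 h2 c n1, tamePt_unit_left hδ h1 h2 d n2,
      tamePt_unit_left hδ h1 h2 d nc, e1, zpow_zero, mul_one]
    ring
  have nt := tamePt_ne_zero hδ h1 h2 n1 n2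
  have f1 : D₁.ordS ζ = Cyc.ordAt ζ ξ h1 (D₁.ratio ζ) := OrdFrac.divFun_apply δ h1 h2 _
  have f2 : D₂.ordS ζ = Cyc.ordAt ζ ξ h1 (D₂.ratio ζ) := OrdFrac.divFun_apply δ h1 h2 _
  dsimp only
  rw [e2, OrdFrac.divFun_mul δ nt (mul_ne_zero (zpow_ne_zero _ rc) (zpow_ne_zero _ rd)),
    OrdFrac.divFun_mul δ (zpow_ne_zero _ rc) (zpow_ne_zero _ rd), OrdFrac.divFun_zpow,
    OrdFrac.divFun_zpow, f1, f2, hd' x hxU, hc' x hxV]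
  simp only [Pi.add_apply, Pi.smul_apply, smul_eq_mul, LineData.sym]
  ring

/-- **Key formula**. -/
theorem LineData.key (hδ : Cyc.IsDimFun X δ) (D₁ D₂ : LineData δ ξ) (x : X) :
    ∑ᶠ ζ : {ζ : X // ξ ⤳ ζ ∧ δ ζ + 1 = δ ξ}, Cyc.divFun δ ζ.1 (D₁.sym D₂ ζ) x =
      ∑ᶠ ζ : {ζ : X // ξ ⤳ ζ ∧ δ ζ + 1 = δ ξ},
        (D₁.ordS ζ.1 * D₂.div ζ.1 x - D₂.ordS ζ.1 * D₁.div ζ.1 x) := by
  obtain ⟨a, b, ha, hb, H⟩ := D₁.term_eq hδ D₂ x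
  obtain ⟨k1, k2⟩ := finsum_divFun_tamePt hδ x ha hb
  -- finiteness of the support of the second family
  have hfin : (Function.support fun ζ : {ζ : X // ξ ⤳ ζ ∧ δ ζ + 1 = δ ξ} =>
      (D₁.ordS ζ.1 * D₂.div ζ.1 x - D₂.ordS ζ.1 * D₁.div ζ.1 x)).Finite := by
    have h1 := (D₁.locFin_bad hδ D₂).finite_specializes x
    refine Set.Finite.of_injOn (f := fun ζ : {ζ : X // ξ ⤳ ζ ∧ δ ζ + 1 = δ ξ} => ζ.1)
      (t := (fun ζ : D₁.bad D₂ => ζ.1) '' {ζ | ζ.1 ⤳ x}) ?_ Subtype.val_injective.injOn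
      (h1.image _)
    rintro ⟨ζ, hζ⟩ hne
    rw [Function.mem_support] at hne
    dsimp only at hne ⊢
    have hx : ζ ⤳ x := by
      by_contra hx
      apply hne
      rw [D₁.div_eq_zero ζ x (fun h => hx h.1), D₂.div_eq_zero ζ x (fun h => hx h.1)]
      simp
    have hbad : ζ ∈ D₁.bad D₂ := by
      refine ⟨hζ, ?_⟩
      rintro ⟨u1, u2⟩
      apply hne
      have f1 : D₁.ordS ζ = 0 := (OrdFrac.divFun_apply δ hζ.1 hζ.2 _).trans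
        (ordAt_of_isUnitAt hζ.1 u1)
      have f2 : D₂.ordS ζ = 0 := (OrdFrac.divFun_apply δ hζ.1 hζ.2 _).trans
        (ordAt_of_isUnitAt hζ.1 u2)
      rw [f1, f2]
      simp
    exact ⟨⟨ζ, hbad⟩, hx, rfl⟩
  rw [finsum_congr H, finsum_add_distrib k1 hfin, k2, zero_add]

end Groth.Agent.CycB.KeyLine
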