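import Groth.Agent.CycB.KeyDet
import Mathlib.RingTheory.FiniteLength
import Mathlib.RingTheory.LocalRing.ResidueField.Basic

/-!
# The index of a unit on finite length modules, and the local computation of `eInv`
-/

set_option autoImplicit false

namespace Groth.Agent.CycB.KeyLoc

open Submodule IsLocalRing Groth.Agent.CycB.KeyIdx Groth.Agent.CycB.KeyLat
  Groth.Agent.CycB.KeyDet

variable {A : Type*} [CommRing A] [IsNoetherianRing A] [IsLocalRing A]
variable {R' : Type*} [CommRing R'] [Algebra A R']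

/-- Multiplication by `r : R'` on an `R'`-module as an `A`-linear map. -/
def mulE (A : Type*) [CommRing A] {R' : Type*} [CommRing R'] [Algebra A R'] (M : Type*)
    [AddCommGroup M] [Module A M] [Module R' M] [IsScalarTower A R' M] (r : R') : M →ₗ[A] M :=
  (LinearMap.lsmul R' M r).restrictScalars A

section

variable {M : Type*} [AddCommGroup M] [Module A M] [Module R' M] [IsScalarTower A R' M]
  {N : Type*} [AddCommGroup N] [Module A N] [Module R' N] [IsScalarTower A R' N]

omit [IsNoetherianRing A] [IsLocalRing A] in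
@[simp] theorem mulE_apply (r : R') (m : M) : mulE A M r m = r • m := rfl

omit [IsNoetherianRing A] [IsLocalRing A] in
theorem mulE_mul (r s : R') : mulE A M (r * s) = mulE A M r ∘ₗ mulE A M s := by
  ext m; simp [mul_smul]

omit [IsNoetherianRing A] [IsLocalRing A] in
theorem mulE_algebraMap (a : A) : mulE A M (algebraMap A R' a) = LinearMap.lsmul A M a := by
  ext m; simp

omit [IsNoetherianRing A] [IsLocalRing A] in
theorem mulE_pow (r : R') (n : ℕ) : mulE A M (r ^ n) = mulE A M r ^ n := by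
  induction n with
  | zero => ext m; simp
  | succ n ih =>
    rw [pow_succ, mulE_mul, ih, pow_succ]; rfl

omit [IsNoetherianRing A] [IsLocalRing A] in
theorem mulE_injective {u : R'} (hu : IsUnit u) : Function.Injective (mulE A M u) := by
  obtain ⟨u, rfl⟩ := hu
  intro x y h
  have h' : (u : R') • x = (u : R') • y := h
  have := congrArg (fun z => ((u⁻¹ : R'ˣ) : R') • z) h'
  simpa [smul_smul] using this

omit [IsNoetherianRing A] [IsLocalRing A] in
theorem map_mulE_restrictScalars {u : R'} (hu : IsUnit u) (W : Submodule R' M) :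
    (W.restrictScalars A).map (mulE A M u) = W.restrictScalars A := by
  obtain ⟨u, rfl⟩ := hu
  apply le_antisymm
  · rintro _ ⟨x, hx, rfl⟩
    exact W.smul_mem _ hx
  · intro x hx
    refine ⟨((u⁻¹ : R'ˣ) : R') • x, W.smul_mem _ hx, ?_⟩
    simp [smul_smul]

omit [IsNoetherianRing A] [IsLocalRing A] in
theorem map_top_mulE {u : R'} (hu : IsUnit u) :
    (⊤ : Submodule A M).map (mulE A M u) = ⊤ := by
  have := map_mulE_restrictScalars (A := A) hu (⊤ : Submodule R' M)
  simpa using this

theorem isLat_map_mulE {u : R'} (hu : IsUnit u) {L : Submodule A M} (hL : IsLat ⊤ L) :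
    IsLat ⊤ (L.map (mulE A M u)) := by
  have := hL.map (mulE A M u)
  rwa [map_top_mulE hu] at this

omit [IsNoetherianRing A] [IsLocalRing A] in
theorem map_mulE_map (f : M →ₗ[R'] N) (u : R') (L : Submodule A M) :
    (L.map (mulE A M u)).map (f.restrictScalars A) =
      (L.map (f.restrictScalars A)).map (mulE A N u) := by
  rw [← Submodule.map_comp, ← Submodule.map_comp]
  congr 1
  ext x
  simp

end

/-- The index of a unit `u` on a module of finite length over a local ring `R'` is the length times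
the index of `u` on the residue field. -/
theorem chi_finite_length [IsLocalRing R'] {u : R'} (hu : IsUnit u) (c : ℤ)
    (hc : ∀ L : Submodule A (ResidueField R'), IsLat ⊤ L →
      idx L (L.map (mulE A (ResidueField R') u)) = c)
    {M : Type*} [AddCommGroup M] [Module R' M] (h : IsFiniteLength R' M) :
    ∀ [Module A M] [IsScalarTower A R' M] (L : Submodule A M), IsLat ⊤ L →
    idx L (L.map (mulE A M u)) = ((Module.length R' M).toNat : ℤ) * c := by
  induction h with
  | of_subsingleton =>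
    intro _ _ L hL
    have h1 : L.map (mulE A _ u) = L := Subsingleton.elim _ _
    rw [h1, idx_self, Module.length_eq_zero]
    simp
  | @of_simple_quotient M _ _ N hs hN ih =>
    intro _ _ L hL
    let f : M →ₗ[A] (M ⧸ N) := N.mkQ.restrictScalars A
    have hLu : IsLat ⊤ (L.map (mulE A M u)) := isLat_map_mulE hu hL
    have e0 := idx_map f (hL.comm hLu)
    have hfsurj : Function.Surjective f := N.mkQ_surjective
    -- quotient part
    obtain ⟨m, hm, ⟨e⟩⟩ := isSimpleModule_iff_quot_maximal.mp hs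
    obtain rfl := eq_maximalIdeal hm
    let e' : (M ⧸ N) →ₗ[R'] ResidueField R' := e.toLinearMap
    have he'inj : Function.Injective (e'.restrictScalars A) := e.injective
    have hfL : IsLat ⊤ (L.map f) := by
      have := hL.map f
      rwa [Submodule.map_top, LinearMap.range_eq_top.mpr hfsurj] at this
    have hefL : IsLat ⊤ ((L.map f).map (e'.restrictScalars A)) := by
      have := hfL.map (e'.restrictScalars A)
      rwa [Submodule.map_top, LinearMap.range_eq_top.mpr (show Function.Surjective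
        (e'.restrictScalars A) from e.surjective)] at this
    have e1 : idx (L.map f) ((L.map (mulE A M u)).map f) = c := by
      have h1 : (L.map (mulE A M u)).map f = (L.map f).map (mulE A (M ⧸ N) u) :=
        map_mulE_map N.mkQ u L
      rw [h1, ← idx_map_injective (e'.restrictScalars A) he'inj, map_mulE_map e' u]
      exact hc _ hefL
    -- sub part
    let ι : N →ₗ[A] M := N.subtype.restrictScalars A
    have hιinj : Function.Injective ι := N.injective_subtype
    let LN : Submodule A N := L.comap ι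
    have hLNmap : LN.map ι = L ⊓ LinearMap.ker f := by
      ext x
      constructor
      · rintro ⟨y, hy, rfl⟩
        exact ⟨hy, (Submodule.Quotient.mk_eq_zero N).mpr y.2⟩
      · rintro ⟨hx, hx'⟩
        exact ⟨⟨x, (Submodule.Quotient.mk_eq_zero N).mp hx'⟩, hx, rfl⟩
    have hLN : IsLat ⊤ LN := by
      refine ⟨le_top, ?_, ?_⟩
      · refine Submodule.fg_of_fg_map_injective ι hιinj ?_
        rw [hLNmap]
        exact hL.fg.of_le inf_le_left
      · intro v _
        obtain ⟨k, hk⟩ := hL.abs (v : M) trivial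
        exact ⟨k, fun r hr => hk r hr⟩
    have hLNmapu : (LN.map (mulE A N u)).map ι = L.map (mulE A M u) ⊓ LinearMap.ker f := by
      have h1 : (LN.map (mulE A N u)).map ι = (LN.map ι).map (mulE A M u) :=
        map_mulE_map N.subtype u LN
      rw [h1, hLNmap, Submodule.map_inf _ (mulE_injective hu)]
      congr 1
      have h2 : LinearMap.ker f = N.restrictScalars A := by
        ext x
        exact Submodule.Quotient.mk_eq_zero N
      rw [h2, map_mulE_restrictScalars hu]
    have e2 : idx (L ⊓ LinearMap.ker f) (L.map (mulE A M u) ⊓ LinearMap.ker f) =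
        ((Module.length R' N).toNat : ℤ) * c := by
      rw [← hLNmap, ← hLNmapu, idx_map_injective ι hιinj]
      exact ih LN hLN
    have hlen : Module.length R' M = Module.length R' N + 1 := by
      rw [Module.length_eq_add_of_exact N.subtype N.mkQ N.injective_subtype N.mkQ_surjective
        (LinearMap.exact_subtype_mkQ N), Module.length_eq_one R' (M ⧸ N)]
    rw [e0, e1, e2, hlen, ENat.toNat_add (Module.length_ne_top_iff.mpr hN) (by simp)]
    push_cast
    simp
    ring

section Local

variable {q : Ideal A} [q.IsPrime] (hq : DimOne q) [Ring.KrullDimLE 1 (A ⧸ q)]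
  {K : Type*} [Field K] [Algebra A K] [Algebra (A ⧸ q) K] [IsScalarTower A (A ⧸ q) K]
  [IsFractionRing (A ⧸ q) K] [IsLocalRing R'] [Algebra K (ResidueField R')]
  [IsScalarTower A K (ResidueField R')] [FiniteDimensional K (ResidueField R')]

/-- The order of the norm of the residue class of `u`. -/
noncomputable def cN (q : Ideal A) (K : Type*) [Field K] [Algebra A K] [Algebra (A ⧸ q) K]
    [Algebra K (ResidueField R')] (u : R') : ℤ :=
  CycAlg.ordFrac (A ⧸ q) K (Algebra.norm K (residue R' u))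

include hq in
theorem idx_residueField {u : R'} (hu : IsUnit u) (L : Submodule A (ResidueField R'))
    (hL : IsLat ⊤ L) : idx L (L.map (mulE A (ResidueField R') u)) = cN q K u := by
  have hu' : residue R' u ≠ 0 := by
    rw [Ne, residue_eq_zero_iff]
    exact fun h => (mem_maximalIdeal _).mp h hu
  have h1 : mulE A (ResidueField R') u = LinearMap.mulLeft A (residue R' u) := by
    refine LinearMap.ext fun x => ?_
    rw [mulE_apply, LinearMap.mulLeft_apply, Algebra.smul_def]
    rfl
  rw [h1, idx_mulLeft_eq_nK_norm (K := K) hq hu' hL,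
    nK_eq_ordFrac hq (Algebra.norm_ne_zero_iff.mpr hu')]
  rfl

variable (a b : A) (π : R') (hπ : π ∈ nonZeroDivisors R') (e₁ e₂ : ℕ) (u₁ u₂ : R')
  (hu₁ : IsUnit u₁) (hu₂ : IsUnit u₂)
  (h₁ : algebraMap A R' a = u₁ * π ^ e₁) (h₂ : algebraMap A R' b = u₂ * π ^ e₂)
  (hfl : Module.length R' (R' ⧸ Ideal.span {π}) ≠ ⊤)

include hu₁ hu₂ h₁ h₂ in
omit [IsNoetherianRing A] [IsLocalRing A] [IsLocalRing R'] in
theorem span_eq : Ideal.span {algebraMap A R' (a * b)} = Ideal.span {π ^ (e₁ + e₂)} := by
  rw [map_mul, h₁, h₂]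
  have : u₁ * π ^ e₁ * (u₂ * π ^ e₂) = (u₁ * u₂) * π ^ (e₁ + e₂) := by ring
  rw [this]
  exact Ideal.span_singleton_mul_left_unit (hu₁.mul hu₂) _

/-- The quotient `R'/(π^n)`. -/
abbrev Vq (π : R') (n : ℕ) : Type _ := R' ⧸ Ideal.span {π ^ n}

include hπ in
omit [IsNoetherianRing A] [IsLocalRing A] [IsLocalRing R'] in
theorem ker_pow_eq_range_pow (n i j : ℕ) (hij : i + j = n) :
    LinearMap.ker (mulE A (Vq π n) π ^ i) = LinearMap.range (mulE A (Vq π n) π ^ j) := by
  rw [← mulE_pow, ← mulE_pow]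
  ext x
  obtain ⟨x, rfl⟩ := Ideal.Quotient.mk_surjective x
  rw [LinearMap.mem_ker, LinearMap.mem_range]
  constructor
  · intro h
    have h' : (Ideal.Quotient.mk (Ideal.span {π ^ n})) (π ^ i * x) = 0 := h
    rw [Ideal.Quotient.eq_zero_iff_mem, Ideal.mem_span_singleton'] at h'
    obtain ⟨y, hy⟩ := h'
    refine ⟨Ideal.Quotient.mk _ y, ?_⟩
    change Ideal.Quotient.mk (Ideal.span {π ^ n}) (π ^ j * y) = Ideal.Quotient.mk _ x
    congr 1
    have hπi : π ^ i ∈ nonZeroDivisors R' := pow_mem hπ i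
    have h2 : π ^ i * (π ^ j * y) = π ^ i * x := by
      rw [← hy, ← hij, pow_add]; ring
    exact (mul_cancel_left_mem_nonZeroDivisors hπi).mp h2
  · rintro ⟨y, hy⟩
    obtain ⟨y, rfl⟩ := Ideal.Quotient.mk_surjective y
    rw [← hy]
    change Ideal.Quotient.mk (Ideal.span {π ^ n}) (π ^ i * (π ^ j * y)) = 0
    rw [Ideal.Quotient.eq_zero_iff_mem, Ideal.mem_span_singleton']
    exact ⟨y, by rw [← hij, pow_add]; ring⟩

omit [IsNoetherianRing A] [IsLocalRing A] [IsLocalRing R'] in
/-- The map `R'/(π^j) → R'/(π^n)` given by multiplication by `π^i`, `i + j = n`. -/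
theorem exists_factor (n i j : ℕ) (hij : i + j = n) (hπ : π ∈ nonZeroDivisors R') :
    ∃ (g : Vq π n →ₗ[R'] Vq π j) (f : Vq π j →ₗ[R'] Vq π n),
      Function.Surjective g ∧ Function.Injective f ∧
        ∀ x, f (g x) = π ^ i • x := by
  have hle : Ideal.span {π ^ n} ≤ Ideal.span {π ^ j} := by
    rw [Ideal.span_singleton_le_span_singleton]
    exact pow_dvd_pow π (by omega)
  refine ⟨Submodule.factor hle,
    Submodule.liftQ _ ((Submodule.mkQ _).comp (LinearMap.lsmul R' R' (π ^ i))) ?_,
    Submodule.factor_surjective _, ?_, ?_⟩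
  · rw [Ideal.span_le]
    rintro x hx
    rw [Set.mem_singleton_iff] at hx
    subst hx
    rw [SetLike.mem_coe, LinearMap.mem_ker]
    change Ideal.Quotient.mk (Ideal.span {π ^ n}) (π ^ i * π ^ j) = 0
    rw [Ideal.Quotient.eq_zero_iff_mem, ← pow_add, hij]
    exact Ideal.mem_span_singleton_self _
  · rw [← LinearMap.ker_eq_bot, LinearMap.ker_eq_bot']
    intro y hy
    obtain ⟨y, rfl⟩ := Ideal.Quotient.mk_surjective y
    have hy' : Ideal.Quotient.mk (Ideal.span {π ^ n}) (π ^ i * y) = 0 := hy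
    rw [Ideal.Quotient.eq_zero_iff_mem, Ideal.mem_span_singleton'] at hy'
    obtain ⟨z, hz⟩ := hy'
    change Ideal.Quotient.mk (Ideal.span {π ^ j}) y = 0
    rw [Ideal.Quotient.eq_zero_iff_mem, Ideal.mem_span_singleton']
    refine ⟨z, ?_⟩
    have hπi : π ^ i ∈ nonZeroDivisors R' := pow_mem hπ i
    refine (mul_cancel_left_mem_nonZeroDivisors hπi).mp ?_
    rw [← hz, ← hij, pow_add]; ring
  · intro x
    obtain ⟨x, rfl⟩ := Ideal.Quotient.mk_surjective x
    rfl

include hq hπ hfl in
theorem idx_pow (n i j : ℕ) (hij : i + j = n) {u : R'} (hu : IsUnit u)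
    (L : Submodule A (Vq π n)) (hL : IsLat ⊤ L) :
    idx (L.map (mulE A (Vq π n) (π ^ i)))
      ((L.map (mulE A (Vq π n) (π ^ i))).map (mulE A (Vq π n) u)) =
      ((j * (Ring.ord R' π).toNat : ℕ) : ℤ) * cN q K u := by
  obtain ⟨g, f, hg, hf, hfg⟩ := exists_factor π n i j hij hπ
  have h1 : L.map (mulE A (Vq π n) (π ^ i)) =
      (L.map (g.restrictScalars A)).map (f.restrictScalars A) := by
    rw [← Submodule.map_comp]
    congr 1
    exact LinearMap.ext fun x => (hfg x).symm
  have hgL : IsLat ⊤ (L.map (g.restrictScalars A)) := by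
    have := hL.map (g.restrictScalars A)
    rwa [Submodule.map_top, LinearMap.range_eq_top.mpr (show Function.Surjective
      (g.restrictScalars A) from hg)] at this
  have hord : Ring.ord R' (π ^ j) = j • Ring.ord R' π := Ring.ord_pow hπ j
  have hordtop : Ring.ord R' π ≠ ⊤ := hfl
  have hfin : Module.length R' (Vq π j) ≠ ⊤ := by
    change Ring.ord R' (π ^ j) ≠ ⊤
    rw [hord, nsmul_eq_mul]
    obtain ⟨k, hk⟩ := ENat.ne_top_iff_exists.mp hordtop
    rw [← hk]
    exact_mod_cast ENat.natCast_ne_top (j * k)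
  rw [h1, ← map_mulE_map, idx_map_injective _ (show Function.Injective (f.restrictScalars A) from hf),
    chi_finite_length hu (cN q K u) (fun L hL => idx_residueField hq hu L hL)
      (Module.length_ne_top_iff.mp hfin) _ hgL]
  congr 2
  change (Ring.ord R' (π ^ j)).toNat = _
  rw [hord, nsmul_eq_mul]
  obtain ⟨k, hk⟩ := ENat.ne_top_iff_exists.mp hordtop
  rw [← hk]
  have : ((j : ℕ∞) * (k : ℕ∞)) = ((j * k : ℕ) : ℕ∞) := by push_cast; rfl
  rw [this]
  rfl

include hq hπ hfl hu₁ hu₂ in
/-- The local computation, on `R'/(π^n)`. -/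
theorem eInv_local (hn : 0 < e₁ + e₂)
    (L : Submodule A (Vq π (e₁ + e₂))) (hL : IsLat ⊤ L) :
    eInv (mulE A (Vq π (e₁ + e₂)) (u₁ * π ^ e₁)) (mulE A (Vq π (e₁ + e₂)) (u₂ * π ^ e₂)) L =
      - ((((Ring.ord R' π).toNat : ℕ) : ℤ) * (e₂ * cN q K u₁ - e₁ * cN q K u₂)) := by
  have hk := ker_pow_eq_range_pow (A := A) π hπ (e₁ + e₂)
  have k1 : LinearMap.ker (mulE A (Vq π (e₁ + e₂)) (π ^ e₁)) =
      LinearMap.range (mulE A (Vq π (e₁ + e₂)) (π ^ e₂)) := by
    rw [mulE_pow, mulE_pow]; exact hk e₁ e₂ rfl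
  have k2 : LinearMap.ker (mulE A (Vq π (e₁ + e₂)) (π ^ e₂)) =
      LinearMap.range (mulE A (Vq π (e₁ + e₂)) (π ^ e₁)) := by
    rw [mulE_pow, mulE_pow]; exact hk e₂ e₁ (add_comm _ _)
  have hr : ∀ (r : R') {u : R'} (hu : IsUnit u),
      (LinearMap.range (mulE A (Vq π (e₁ + e₂)) r)).map (mulE A (Vq π (e₁ + e₂)) u) =
      LinearMap.range (mulE A (Vq π (e₁ + e₂)) r) := by
    intro r u hu
    exact map_mulE_restrictScalars hu (LinearMap.range (LinearMap.lsmul R' (Vq π (e₁ + e₂)) r))
  have k3 : LinearMap.ker (mulE A (Vq π (e₁ + e₂)) u₂ ∘ₗ mulE A (Vq π (e₁ + e₂)) (π ^ e₂)) =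
      LinearMap.range (mulE A (Vq π (e₁ + e₂)) (π ^ e₁)) := by
    rw [LinearMap.ker_comp, LinearMap.ker_eq_bot.mpr (mulE_injective hu₂), ← k2]; rfl
  rw [mulE_mul, mulE_mul, eInv_comp_left (mulE_injective hu₁) (hr _ hu₁) k3 hL,
    eInv_comp_right (mulE_injective hu₂) (hr _ hu₂) k1 hL,
    idx_pow (K := K) hq π hπ hfl (e₁ + e₂) e₁ e₂ rfl hu₁ L hL,
    idx_pow (K := K) hq π hπ hfl (e₁ + e₂) e₂ e₁ (add_comm _ _) hu₂ L hL,
    mulE_pow, mulE_pow,
    eInv_pow_eq_zero _ (e₁ + e₂) hn hk hL e₁ e₂ rfl]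
  push_cast
  ring

end Local

end Groth.Agent.CycB.KeyLoc
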