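import Groth.Agent.CycB.TamePt

/-!
# The key formula at a point: sum over ζ between ξ and x of ord_x (tame symbol at ζ) is zero
-/

set_option autoImplicit false

universe u

open AlgebraicGeometry CategoryTheory IsLocalRing

namespace Groth.Agent.CycB.KeyLocal

open Groth.Agent.CycB.TameFrac Groth.Agent.CycB.TameKey Groth.Agent.CycB.TameTransport
open Groth.Agent.CycB.TamePt

variable {X : Scheme.{u}}

/-- `O_{X,x}/𝔭_ξ → O_{X,x}/𝔭_ζ` for ξ ⤳ ζ ⤳ x. -/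
noncomputable def toQuot {x ζ ξ : X} (h : ξ ⤳ x) (h1 : ξ ⤳ ζ) (h2 : ζ ⤳ x) :
    Cyc.LocQuot x ξ h →+* Cyc.LocQuot x ζ h2 :=
  Ideal.Quotient.factor ((LocQuot.ker_le_iff h h2).2 h1)

theorem toQuot_surjective {x ζ ξ : X} (h : ξ ⤳ x) (h1 : ξ ⤳ ζ) (h2 : ζ ⤳ x) :
    Function.Surjective (toQuot h h1 h2) :=
  Ideal.Quotient.factor_surjective _

theorem toQuot_mk {x ζ ξ : X} (h : ξ ⤳ x) (h1 : ξ ⤳ ζ) (h2 : ζ ⤳ x) (a : X.presheaf.stalk x) :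
    toQuot h h1 h2 (Ideal.Quotient.mk _ a) = Ideal.Quotient.mk _ a := rfl

theorem specMap_stalkSpecializes {x ζ ξ : X} (h : ξ ⤳ x) (h1 : ξ ⤳ ζ) (h2 : ζ ⤳ x)
    (a : X.presheaf.stalk x) :
    Cyc.specMap ζ ξ h1 ((X.presheaf.stalkSpecializes h2).hom a) = Cyc.specMap x ξ h a := by
  unfold Cyc.specMap
  rw [← RingHom.comp_apply, ← CommRingCat.hom_comp,
    TopCat.Presheaf.stalkSpecializes_comp_assoc]

/-- `O_{X,x}/𝔭_ξ → O_{X,ζ}/𝔭_ξ` for ξ ⤳ ζ ⤳ x. -/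
noncomputable def toLoc {x ζ ξ : X} (h : ξ ⤳ x) (h1 : ξ ⤳ ζ) (h2 : ζ ⤳ x) :
    Cyc.LocQuot x ξ h →+* Cyc.LocQuot ζ ξ h1 :=
  Ideal.quotientMap _ (X.presheaf.stalkSpecializes h2).hom (by
    intro a ha
    rw [Ideal.mem_comap, RingHom.mem_ker, specMap_stalkSpecializes h h1 h2]
    exact ha)

theorem toLoc_mk {x ζ ξ : X} (h : ξ ⤳ x) (h1 : ξ ⤳ ζ) (h2 : ζ ⤳ x) (a : X.presheaf.stalk x) :
    toLoc h h1 h2 (Ideal.Quotient.mk _ a) =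
      Ideal.Quotient.mk _ ((X.presheaf.stalkSpecializes h2).hom a) := rfl

/-- the prime of ζ in `O_{X,x}/𝔭_ξ` -/
noncomputable def qOf {x ζ ξ : X} (h : ξ ⤳ x) (h1 : ξ ⤳ ζ) (h2 : ζ ⤳ x) :
    PrimeSpectrum (Cyc.LocQuot x ξ h) :=
  ⟨RingHom.ker (toQuot h h1 h2), RingHom.ker_isPrime _⟩

theorem mk_mem_qOf {x ζ ξ : X} (h : ξ ⤳ x) (h1 : ξ ⤳ ζ) (h2 : ζ ⤳ x) (a : X.presheaf.stalk x) :
    Ideal.Quotient.mk _ a ∈ (qOf h h1 h2).asIdeal ↔ a ∈ RingHom.ker (Cyc.specMap x ζ h2) := by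
  change toQuot h h1 h2 (Ideal.Quotient.mk _ a) = 0 ↔ _
  rw [toQuot_mk]
  exact Ideal.Quotient.eq_zero_iff_mem

theorem isLocalization_toLoc {x ζ ξ : X} (h : ξ ⤳ x) (h1 : ξ ⤳ ζ) (h2 : ζ ⤳ x) :
    letI := (toLoc h h1 h2).toAlgebra
    IsLocalization.AtPrime (Cyc.LocQuot ζ ξ h1) (qOf h h1 h2).asIdeal := by
  let := (toLoc h h1 h2).toAlgebra
  let := (X.presheaf.stalkSpecializes h2).hom.toAlgebra
  have hloc := LocQuot.isLocalization_stalkSpecializes h2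
  refine ⟨⟨?_, ?_, ?_⟩⟩
  · rintro ⟨a, ha⟩
    obtain ⟨a, rfl⟩ := Ideal.Quotient.mk_surjective a
    have ha' : a ∉ RingHom.ker (Cyc.specMap x ζ h2) := fun h' => ha ((mk_mem_qOf h h1 h2 a).2 h')
    rw [LocQuot.mem_ker_specMap_iff, not_not] at ha'
    exact ha'.map (Ideal.Quotient.mk (RingHom.ker (Cyc.specMap ζ ξ h1)))
  · intro y
    obtain ⟨y, rfl⟩ := Ideal.Quotient.mk_surjective y
    obtain ⟨⟨a, s⟩, has⟩ := IsLocalization.surj (RingHom.ker (Cyc.specMap x ζ h2)).primeCompl y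
    refine ⟨⟨Ideal.Quotient.mk _ a, ⟨Ideal.Quotient.mk _ s.1, ?_⟩⟩, ?_⟩
    · intro h'
      exact s.2 ((mk_mem_qOf h h1 h2 _).1 h')
    · exact congrArg (Ideal.Quotient.mk (RingHom.ker (Cyc.specMap ζ ξ h1))) has
  · intro a b hab
    obtain ⟨a, rfl⟩ := Ideal.Quotient.mk_surjective a
    obtain ⟨b, rfl⟩ := Ideal.Quotient.mk_surjective b
    refine ⟨1, ?_⟩
    rw [OneMemClass.coe_one, one_mul, one_mul]
    have hab' : (Ideal.Quotient.mk (RingHom.ker (Cyc.specMap ζ ξ h1)))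
      ((X.presheaf.stalkSpecializes h2).hom a) = (Ideal.Quotient.mk _)
      ((X.presheaf.stalkSpecializes h2).hom b) := hab
    rw [Ideal.Quotient.eq, RingHom.mem_ker, map_sub, specMap_stalkSpecializes h h1 h2,
      specMap_stalkSpecializes h h1 h2, ← map_sub] at hab'
    exact Ideal.Quotient.eq.2 hab'

theorem algebraMap_toLoc {x ζ ξ : X} (h : ξ ⤳ x) (h1 : ξ ⤳ ζ) (h2 : ζ ⤳ x)
    (a : Cyc.LocQuot x ξ h) :
    algebraMap (Cyc.LocQuot ζ ξ h1) (X.residueField ξ) (toLoc h h1 h2 a) =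
      algebraMap (Cyc.LocQuot x ξ h) (X.residueField ξ) a := by
  obtain ⟨a, rfl⟩ := Ideal.Quotient.mk_surjective a
  rw [toLoc_mk, LocQuot.algebraMap_mk, LocQuot.algebraMap_mk, specMap_stalkSpecializes h h1 h2]

variable {δ : X → ℤ}

theorem height_qOf (hδ : Cyc.IsDimFun X δ) {x ζ ξ : X} (h : ξ ⤳ x) (h1 : ξ ⤳ ζ) (h2 : ζ ⤳ x) :
    (qOf h h1 h2).asIdeal.height = ((δ ξ - δ ζ).toNat : ℕ) := by
  let := (toLoc h h1 h2).toAlgebra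
  have := isLocalization_toLoc h h1 h2
  have e := IsLocalization.AtPrime.ringKrullDim_eq_height (qOf h h1 h2).asIdeal
    (Cyc.LocQuot ζ ξ h1)
  rw [LocQuot.ringKrullDim_locQuot hδ h1] at e
  exact_mod_cast e.symm

theorem height_qOf_eq_one (hδ : Cyc.IsDimFun X δ) {x ζ ξ : X} (h : ξ ⤳ x) (h1 : ξ ⤳ ζ)
    (h2 : ζ ⤳ x) : (qOf h h1 h2).asIdeal.height = 1 ↔ δ ζ + 1 = δ ξ := by
  rw [height_qOf hδ]
  have h3 : (((δ ξ - δ ζ).toNat : ℕ) : ℕ∞) = 1 ↔ (δ ξ - δ ζ).toNat = 1 := by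
    exact_mod_cast Iff.rfl
  rw [h3]
  omega

theorem exists_eq_qOf {x ξ : X} (h : ξ ⤳ x) (p : PrimeSpectrum (Cyc.LocQuot x ξ h)) :
    ∃ (ζ : X) (h1 : ξ ⤳ ζ) (h2 : ζ ⤳ x), qOf h h1 h2 = p := by
  obtain ⟨ζ, h2, h1, e⟩ := LocQuot.exists_comap_eq_ker h p.asIdeal
  refine ⟨ζ, h1, h2, ?_⟩
  ext a
  obtain ⟨a, rfl⟩ := Ideal.Quotient.mk_surjective a
  rw [mk_mem_qOf, ← e]
  rfl

theorem qOf_inj {x ζ ζ' ξ : X} (h : ξ ⤳ x) (h1 : ξ ⤳ ζ) (h2 : ζ ⤳ x) (h1' : ξ ⤳ ζ')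
    (h2' : ζ' ⤳ x) (e : qOf h h1 h2 = qOf h h1' h2') : ζ = ζ' := by
  rw [← LocQuot.ker_inj h2 h2']
  ext a
  rw [← mk_mem_qOf h h1 h2, ← mk_mem_qOf h h1' h2', e]

theorem finsum_subtype_of_zero {α : Type*} (p : α → Prop) (f : α → ℤ) (h : ∀ a, ¬ p a → f a = 0) :
    ∑ᶠ a : Subtype p, f a.1 = ∑ᶠ a, f a := by
  rw [finsum_subtype_eq_finsum_cond (p := p) (f := f)]
  apply finsum_congr
  intro a
  classical
  rw [finsum_eq_if]
  split_ifs with h'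
  · rfl
  · exact (h a h').symm

/-- The key formula for tame symbols of rational functions on the closure of ξ. -/
theorem finsum_divFun_tamePt [IsLocallyNoetherian X] (hδ : Cyc.IsDimFun X δ) {ξ : X} (x : X)
    {a b : X.residueField ξ} (ha : a ≠ 0) (hb : b ≠ 0) :
    (Function.support fun ζ : {ζ : X // ξ ⤳ ζ ∧ δ ζ + 1 = δ ξ} =>
      Cyc.divFun δ ζ.1 (tamePt ζ.1 ξ ζ.2.1 a b) x).Finite ∧
    ∑ᶠ ζ : {ζ : X // ξ ⤳ ζ ∧ δ ζ + 1 = δ ξ},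
      Cyc.divFun δ ζ.1 (tamePt ζ.1 ξ ζ.2.1 a b) x = 0 := by
  by_cases hx : ξ ⤳ x ∧ δ x + 2 = δ ξ
  · obtain ⟨h, hd⟩ := hx
    have hA : ringKrullDim (Cyc.LocQuot x ξ h) = 2 := by
      rw [LocQuot.ringKrullDim_locQuot hδ h, ← hd, show δ x + 2 - δ x = 2 by ring]
      rfl
    let Z := {ζ : {ζ : X // ξ ⤳ ζ ∧ δ ζ + 1 = δ ξ} // ζ.1 ⤳ x}
    have key := finsum_eq_zero (A := Cyc.LocQuot x ξ h) hA (K := X.residueField ξ) (Z := Z)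
      (fun ζ => qOf h ζ.1.2.1 ζ.2) (by
        intro ζ ζ' e
        exact Subtype.ext (Subtype.ext (qOf_inj h _ _ _ _ e)))
      (by
        intro p
        constructor
        · intro hp
          obtain ⟨ζ, h1, h2, rfl⟩ := exists_eq_qOf h p
          rw [height_qOf_eq_one hδ] at hp
          exact ⟨⟨⟨ζ, h1, hp⟩, h2⟩, rfl⟩
        · rintro ⟨⟨⟨ζ, h1, hd1⟩, h2⟩, rfl⟩
          exact (height_qOf_eq_one hδ h h1 h2).2 hd1) ha hb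
      (fun ζ => Cyc.divFun δ ζ.1.1 (tamePt ζ.1.1 ξ ζ.1.2.1 a b) x) (by
        rintro ⟨⟨ζ, h1, hd1⟩, h2⟩ a₁ b₁ c₁ d₁ ha₁ hb₁ hc₁ hd₁ e1 e2
        dsimp only at h2
        let := (toLoc h h1 h2).toAlgebra
        have := isLocalization_toLoc h h1 h2
        let := (toQuot h h1 h2).toAlgebra
        have : IsScalarTower (Cyc.LocQuot x ξ h) (Cyc.LocQuot ζ ξ h1) (X.residueField ξ) :=
          IsScalarTower.of_algebraMap_eq fun a => (algebraMap_toLoc h h1 h2 a).symm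
        have := model_term (A := Cyc.LocQuot x ξ h) (K := X.residueField ξ) (qOf h h1 h2)
          ((height_qOf_eq_one hδ h h1 h2).2 hd1)
          (Cyc.LocQuot ζ ξ h1) (Cyc.LocQuot x ζ h2) (toQuot_surjective h h1 h2) rfl
          (X.residueField ζ) (rho ζ ξ h1).symm (by
            intro a
            obtain ⟨a, rfl⟩ := Ideal.Quotient.mk_surjective a
            exact rho_symm_residue ζ ξ h1 _) ha₁ hb₁ hc₁ hd₁ e1 e2
        rw [← this]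
        exact OrdFrac.divFun_apply δ h2 (by omega) _)
    obtain ⟨k1, k2⟩ := key
    have hsub : (Function.support fun ζ : {ζ : X // ξ ⤳ ζ ∧ δ ζ + 1 = δ ξ} =>
        Cyc.divFun δ ζ.1 (tamePt ζ.1 ξ ζ.2.1 a b) x) ⊆ {ζ | ζ.1 ⤳ x} := by
      intro ζ hζ
      by_contra h'
      exact hζ (OrdFrac.divFun_eq_zero δ (fun h'' => h' h''.1) _)
    constructor
    · refine (k1.image Subtype.val).subset ?_
      intro ζ hζ
      exact ⟨⟨ζ, hsub hζ⟩, hζ, rfl⟩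
    · rw [← k2]
      exact (finsum_subtype_of_zero (fun ζ : {ζ : X // ξ ⤳ ζ ∧ δ ζ + 1 = δ ξ} => ζ.1 ⤳ x)
        (fun ζ : {ζ : X // ξ ⤳ ζ ∧ δ ζ + 1 = δ ξ} =>
          Cyc.divFun δ ζ.1 (tamePt ζ.1 ξ ζ.2.1 a b) x)
        (fun ζ h' => OrdFrac.divFun_eq_zero δ (fun h'' => h' h''.1) _)).symm
  · have h0 : ∀ ζ : {ζ : X // ξ ⤳ ζ ∧ δ ζ + 1 = δ ξ},
        Cyc.divFun δ ζ.1 (tamePt ζ.1 ξ ζ.2.1 a b) x = 0 := by
      rintro ⟨ζ, h1, h2⟩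
      apply OrdFrac.divFun_eq_zero
      rintro ⟨h3, h4⟩
      exact hx ⟨h1.trans h3, by dsimp only at *; omega⟩
    constructor
    · convert Set.finite_empty
      ext ζ
      simp [h0]
    · rw [finsum_congr h0, finsum_zero]

end Groth.Agent.CycB.KeyLocal
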