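import Groth.Agent.CycB.KeyLat

/-!
# Transport of `eInv` along isomorphisms and its behaviour on finite products
-/

set_option autoImplicit false

namespace Groth.Agent.CycB.KeyProd

open Submodule IsLocalRing Groth.Agent.CycB.KeyIdx Groth.Agent.CycB.KeyLat

variable {A : Type*} [CommRing A]
variable {V V' : Type*} [AddCommGroup V] [Module A V] [AddCommGroup V'] [Module A V']

theorem eInv_map_equiv (e : V ≃ₗ[A] V') (φ ψ : V →ₗ[A] V) (φ' ψ' : V' →ₗ[A] V')
    (hφ : ∀ x, e (φ x) = φ' (e x)) (hψ : ∀ x, e (ψ x) = ψ' (e x)) (L : Submodule A V) :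
    eInv φ' ψ' (L.map e.toLinearMap) = eInv φ ψ L := by
  have key : ∀ (φ : V →ₗ[A] V) (φ' : V' →ₗ[A] V'), (∀ x, e (φ x) = φ' (e x)) →
      LinearMap.ker φ' ⊓ L.map e.toLinearMap = (LinearMap.ker φ ⊓ L).map e.toLinearMap ∧
      (L.map e.toLinearMap).map φ' = (L.map φ).map e.toLinearMap := by
    intro φ φ' h
    constructor
    · ext x
      constructor
      · rintro ⟨hx, ⟨y, hy, rfl⟩⟩
        refine ⟨y, ⟨?_, hy⟩, rfl⟩
        have hx' : φ' (e y) = 0 := hx
        rw [← h] at hx'
        exact e.map_eq_zero_iff.mp hx'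
      · rintro ⟨y, ⟨hy, hy'⟩, rfl⟩
        refine ⟨?_, ⟨y, hy', rfl⟩⟩
        change φ' (e y) = 0
        rw [← h, show φ y = 0 from hy, map_zero]
    · rw [← Submodule.map_comp, ← Submodule.map_comp]
      congr 1
      exact LinearMap.ext fun x => (h x).symm
  obtain ⟨k1, k2⟩ := key φ φ' hφ
  obtain ⟨k3, k4⟩ := key ψ ψ' hψ
  unfold eInv
  rw [k1, k2, k3, k4, idx_map_injective _ e.injective, idx_map_injective _ e.injective]

variable {ι : Type*} {M : ι → Type*} [∀ i, AddCommGroup (M i)] [∀ i, Module A (M i)]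

theorem ker_lsmul_pi (a : A) (L : ∀ i, Submodule A (M i)) :
    LinearMap.ker (LinearMap.lsmul A (∀ i, M i) a) ⊓ Submodule.pi Set.univ L =
      Submodule.pi Set.univ (fun i => LinearMap.ker (LinearMap.lsmul A (M i) a) ⊓ L i) := by
  ext x
  constructor
  · rintro ⟨h1, h2⟩ i _
    exact ⟨congrFun (show a • x = 0 from h1) i, h2 i trivial⟩
  · intro h
    exact ⟨funext fun i => (h i trivial).1, fun i _ => (h i trivial).2⟩

theorem map_lsmul_pi (a : A) (L : ∀ i, Submodule A (M i)) :
    (Submodule.pi Set.univ L).map (LinearMap.lsmul A (∀ i, M i) a) =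
      Submodule.pi Set.univ (fun i => (L i).map (LinearMap.lsmul A (M i) a)) := by
  ext x
  constructor
  · rintro ⟨y, hy, rfl⟩ i _
    exact ⟨y i, hy i trivial, rfl⟩
  · intro h
    choose y hy hyx using fun i => h i trivial
    exact ⟨y, fun i _ => hy i, funext hyx⟩

theorem eInv_lsmul_pi [Fintype ι] (a b : A) (L : ∀ i, Submodule A (M i))
    (h1 : ∀ i, Comm (LinearMap.ker (LinearMap.lsmul A (M i) a) ⊓ L i)
      ((L i).map (LinearMap.lsmul A (M i) b)))
    (h2 : ∀ i, Comm (LinearMap.ker (LinearMap.lsmul A (M i) b) ⊓ L i)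
      ((L i).map (LinearMap.lsmul A (M i) a))) :
    eInv (LinearMap.lsmul A (∀ i, M i) a) (LinearMap.lsmul A (∀ i, M i) b)
      (Submodule.pi Set.univ L) =
      ∑ i, eInv (LinearMap.lsmul A (M i) a) (LinearMap.lsmul A (M i) b) (L i) := by
  unfold eInv
  rw [ker_lsmul_pi, ker_lsmul_pi, map_lsmul_pi, map_lsmul_pi, idx_pi _ _ h1, idx_pi _ _ h2,
    Finset.sum_sub_distrib]

theorem eInv_lsmul_eq_sum [IsNoetherianRing A] [IsLocalRing A] [Fintype ι] (a b : A)
    (h1 : ∀ i, LinearMap.ker (LinearMap.lsmul A (M i) a) =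
      LinearMap.range (LinearMap.lsmul A (M i) b))
    (h2 : ∀ i, LinearMap.ker (LinearMap.lsmul A (M i) b) =
      LinearMap.range (LinearMap.lsmul A (M i) a))
    (L : Submodule A (∀ i, M i)) (hL : IsLat ⊤ L) :
    eInv (LinearMap.lsmul A (∀ i, M i) a) (LinearMap.lsmul A (∀ i, M i) b) L =
      ∑ i, eInv (LinearMap.lsmul A (M i) a) (LinearMap.lsmul A (M i) b)
        (L.map (LinearMap.proj i)) := by
  classical
  have hLi : ∀ i, IsLat ⊤ (L.map (LinearMap.proj i : (∀ i, M i) →ₗ[A] M i)) := by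
    intro i
    have := hL.map (LinearMap.proj i : (∀ i, M i) →ₗ[A] M i)
    rwa [Submodule.map_top, LinearMap.range_eq_top.mpr (LinearMap.proj_surjective i)] at this
  have hpi := isLat_pi hLi
  have ex : ∀ (a b : A), (∀ i, LinearMap.ker (LinearMap.lsmul A (M i) a) =
      LinearMap.range (LinearMap.lsmul A (M i) b)) →
      LinearMap.ker (LinearMap.lsmul A (∀ i, M i) a) =
        LinearMap.range (LinearMap.lsmul A (∀ i, M i) b) := by
    intro a b h
    ext x
    constructor
    · intro hx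
      have hx' : ∀ i, x i ∈ LinearMap.range (LinearMap.lsmul A (M i) b) := by
        intro i
        rw [← h i]
        exact congrFun (show a • x = 0 from hx) i
      choose y hy using hx'
      exact ⟨y, funext hy⟩
    · rintro ⟨y, rfl⟩
      refine funext fun i => ?_
      have : (b • y i) ∈ LinearMap.ker (LinearMap.lsmul A (M i) a) := by
        rw [h i]; exact ⟨y i, rfl⟩
      exact this
  rw [eInv_indep (ex a b h1) (ex b a h2) hL hpi]
  refine eInv_lsmul_pi a b _ ?_ ?_
  · intro i
    have k1 : IsLat (LinearMap.ker (LinearMap.lsmul A (M i) a))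
        (LinearMap.ker (LinearMap.lsmul A (M i) a) ⊓ L.map (LinearMap.proj i)) :=
      (hLi i).inf le_top
    have k2 : IsLat (LinearMap.ker (LinearMap.lsmul A (M i) a))
        ((L.map (LinearMap.proj i)).map (LinearMap.lsmul A (M i) b)) := by
      rw [h1 i]; exact (hLi i).map_top _
    exact k1.comm k2
  · intro i
    have k1 : IsLat (LinearMap.ker (LinearMap.lsmul A (M i) b))
        (LinearMap.ker (LinearMap.lsmul A (M i) b) ⊓ L.map (LinearMap.proj i)) :=
      (hLi i).inf le_top
    have k2 : IsLat (LinearMap.ker (LinearMap.lsmul A (M i) b))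
        ((L.map (LinearMap.proj i)).map (LinearMap.lsmul A (M i) a)) := by
      rw [h2 i]; exact (hLi i).map_top _
    exact k1.comm k2

end Groth.Agent.CycB.KeyProd
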