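import Groth.Agent.CycB.KeyLine
import Groth.Agent.CycB.C1Basic

/-!
# `LineData` from invertible modules with sections, and from rational functions
-/

set_option autoImplicit false

universe u

open CategoryTheory CategoryTheory.Limits AlgebraicGeometry TopologicalSpace Opposite

namespace Groth.Agent.CycB.KeySec

open Groth.Agent.CycB.ModStalk Groth.Agent.CycB.C1Basic Groth.Agent.CycB.KeyLine
open Groth.Agent.CycB.DivFun Groth.Agent.CycB.UnitFin

variable {X : Scheme.{u}} {δ : X → ℤ} {ξ : X}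

/-- The constant line data of a rational function (with v = 1 everywhere). -/
noncomputable def funData (δ : X → ℤ) {ξ : X} (f : X.residueField ξ) (hf : f ≠ 0) :
    LineData δ ξ where
  ratio _ := f
  ratio_ne _ := hf
  div _ _ := 0
  div_eq_zero _ _ _ := rfl
  compat _ := ⟨Set.univ, isOpen_univ, trivial, f, hf, fun ζ _ h => ⟨1, by simp, fun y _ => by
    rw [Units.val_one, map_one, OrdFrac.divFun_one]; rfl⟩⟩

@[simp] theorem funData_ordS {f : X.residueField ξ} (hf : f ≠ 0) :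
    (funData δ f hf).ordS = Cyc.divFun δ ξ f := rfl

@[simp] theorem funData_div {f : X.residueField ξ} (hf : f ≠ 0) (ζ y : X) :
    (funData δ f hf).div ζ y = 0 := rfl

variable {L : X.Modules}

/-- a nonzero element of the fibre lifts to a generator of the stalk -/
theorem exists_isGen_cl_eq (hL : PicF.IsInvertible L) (ζ : X) {v : Cyc.secFibre L ζ} (hv : v ≠ 0) :
    ∃ l : L.presheaf.stalk ζ, IsGen L ζ l ∧ cl L ζ l = v := by
  obtain ⟨t, ht⟩ := exists_isGen hL ζ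
  obtain ⟨φ, rfl⟩ := exists_smul_cl ht v
  rw [ne_eq, smul_cl_eq_zero_iff ht] at hv
  have hu : IsUnit φ := (IsLocalRing.residue_ne_zero_iff_isUnit φ).1 hv
  exact ⟨φ • t, ht.unit_smul hu, map_smul _ _ _⟩

/-- a lift of v_ζ to a generator -/
noncomputable def lift (hL : PicF.IsInvertible L) {v : (ζ : X) → Cyc.secFibre L ζ}
    (hv : ∀ ζ, v ζ ≠ 0) (ζ : X) : L.presheaf.stalk ζ :=
  (exists_isGen_cl_eq hL ζ (hv ζ)).choose

theorem isGen_lift (hL : PicF.IsInvertible L) {v : (ζ : X) → Cyc.secFibre L ζ}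
    (hv : ∀ ζ, v ζ ≠ 0) (ζ : X) : IsGen L ζ (lift hL hv ζ) :=
  (exists_isGen_cl_eq hL ζ (hv ζ)).choose_spec.1

theorem cl_lift (hL : PicF.IsInvertible L) {v : (ζ : X) → Cyc.secFibre L ζ}
    (hv : ∀ ζ, v ζ ≠ 0) (ζ : X) : cl L ζ (lift hL hv ζ) = v ζ :=
  (exists_isGen_cl_eq hL ζ (hv ζ)).choose_spec.2

theorem exists_ratio (hL : PicF.IsInvertible L) {s : Cyc.secFibre L ξ}
    {v : (ζ : X) → Cyc.secFibre L ζ} (hv : ∀ ζ, v ζ ≠ 0) (ζ : X) (h : ξ ⤳ ζ) :
    ∃ φ : X.presheaf.stalk ξ,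
      s = φ • cl L ξ (L.presheaf.stalkSpecializes h (lift hL hv ζ)) :=
  exists_smul_cl ((isGen_lift hL hv ζ).stalkSpecializes hL h) s

open Classical in
/-- the ratio s / (lift of v_ζ) -/
noncomputable def ratio (hL : PicF.IsInvertible L) (s : Cyc.secFibre L ξ)
    {v : (ζ : X) → Cyc.secFibre L ζ} (hv : ∀ ζ, v ζ ≠ 0) (ζ : X) : X.residueField ξ :=
  if h : ξ ⤳ ζ then X.residue ξ (exists_ratio (s := s) hL hv ζ h).choose else 1

theorem ratio_eq (hL : PicF.IsInvertible L) {s : Cyc.secFibre L ξ}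
    {v : (ζ : X) → Cyc.secFibre L ζ} (hv : ∀ ζ, v ζ ≠ 0) (ζ : X) (h : ξ ⤳ ζ)
    {φ : X.presheaf.stalk ξ}
    (hφ : s = φ • cl L ξ (L.presheaf.stalkSpecializes h (lift hL hv ζ))) :
    ratio hL s hv ζ = X.residue ξ φ := by
  unfold ratio
  rw [dif_pos h]
  have h1 := (exists_ratio (s := s) hL hv ζ h).choose_spec
  exact ((smul_cl_eq_iff ((isGen_lift hL hv ζ).stalkSpecializes hL h) _ _).1
    (hφ.symm.trans h1)).symm

theorem ratio_ne (hL : PicF.IsInvertible L) {s : Cyc.secFibre L ξ} (hs : s ≠ 0)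
    {v : (ζ : X) → Cyc.secFibre L ζ} (hv : ∀ ζ, v ζ ≠ 0) (ζ : X) :
    ratio hL s hv ζ ≠ 0 := by
  by_cases h : ξ ⤳ ζ
  · obtain ⟨φ, hφ⟩ := exists_ratio (s := s) hL hv ζ h
    rw [ratio_eq hL hv ζ h hφ]
    intro h0
    apply hs
    rw [hφ, smul_cl_eq_zero_iff ((isGen_lift hL hv ζ).stalkSpecializes hL h), h0]
  · unfold ratio
    rw [dif_neg h]
    exact one_ne_zero

/-- the divisor of the section v_ζ computed with respect to a local generator -/
theorem secDivFun_eq_of_isGenOn (hL : PicF.IsInvertible L) (δ : X → ℤ) {U : X.Opens}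
    {t : Γ(L, U)} (ht : IsGenOn L U t) {ζ : X} (hζ : ζ ∈ U) {φ : X.presheaf.stalk ζ}
    (hφ : X.residue ζ φ ≠ 0) {y : X} (hy : y ∈ U) :
    Cyc.secDivFun δ L ζ (φ • cl L ζ (L.presheaf.germ U ζ hζ t)) y =
      Cyc.divFun δ ζ (X.residue ζ φ) y := by
  simp only [Cyc.secDivFun, Cyc.divFun]
  split_ifs with h
  · have e : L.presheaf.germ U ζ hζ t =
        L.presheaf.stalkSpecializes h.1 (L.presheaf.germ U y hy t) :=
      (TopCat.Presheaf.germ_stalkSpecializes_apply L.presheaf hy h.1 t).symm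
    rw [e, secOrdAt_smul hL h.1 (ht.isGen y hy) _ hφ]
  · rfl

/-- The line data of an invertible module L with a nonzero rational section s at ξ and nonzero
rational sections v_ζ. -/
noncomputable def secData (δ : X → ℤ) (hL : PicF.IsInvertible L) {s : Cyc.secFibre L ξ}
    (hs : s ≠ 0) {v : (ζ : X) → Cyc.secFibre L ζ} (hv : ∀ ζ, v ζ ≠ 0) : LineData δ ξ where
  ratio := ratio hL s hv
  ratio_ne := ratio_ne hL hs hv
  div ζ y := Cyc.secDivFun δ L ζ (v ζ) y
  div_eq_zero ζ y h := by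
    unfold Cyc.secDivFun
    rw [dif_neg h]
  compat x := by
    obtain ⟨U, hxU, t, ht⟩ := exists_isGenOn hL x
    refine ⟨U, U.2, hxU, ?_⟩
    by_cases hξ : ξ ∈ U
    swap
    · exact ⟨1, one_ne_zero, fun ζ hζ h => absurd (h.mem_open U.2 hζ) hξ⟩
    have htξ := ht.isGen ξ hξ
    obtain ⟨φ, hφ⟩ := exists_smul_cl htξ s
    refine ⟨X.residue ξ φ, ?_, ?_⟩
    · intro h0
      apply hs
      rw [hφ, smul_cl_eq_zero_iff htξ, h0]
    intro ζ hζ h
    obtain ⟨d, hd⟩ := (ht.isGen ζ hζ).exists_unit_smul (isGen_lift hL hv ζ)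
    refine ⟨d, ?_, ?_⟩
    · obtain ⟨φ', hφ'⟩ := exists_ratio (s := s) hL hv ζ h
      rw [ratio_eq hL hv ζ h hφ']
      rw [Units.smul_def] at hd
      have e : L.presheaf.stalkSpecializes h (L.presheaf.germ U ζ hζ t) =
          L.presheaf.germ U ξ hξ t :=
        TopCat.Presheaf.germ_stalkSpecializes_apply L.presheaf hζ h t
      rw [hd, stalkSpecializes_smul, map_smul, smul_smul, e, hφ, smul_cl_eq_iff htξ,
        map_mul] at hφ'
      rw [hφ']
      rfl
    · intro y hy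
      have e2 : v ζ = (d : X.presheaf.stalk ζ) • cl L ζ (L.presheaf.germ U ζ hζ t) := by
        rw [← cl_lift hL hv ζ, hd, Units.smul_def, map_smul]
      rw [e2]
      exact secDivFun_eq_of_isGenOn hL δ ht hζ (d.isUnit.map (X.residue ζ).hom).ne_zero hy

@[simp] theorem secData_div (hL : PicF.IsInvertible L) {s : Cyc.secFibre L ξ}
    (hs : s ≠ 0) {v : (ζ : X) → Cyc.secFibre L ζ} (hv : ∀ ζ, v ζ ≠ 0) (ζ y : X) :
    (secData δ hL hs hv).div ζ y = Cyc.secDivFun δ L ζ (v ζ) y := rfl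

/-- the divisor of the rational section s -/
theorem secData_ordS (hL : PicF.IsInvertible L) {s : Cyc.secFibre L ξ}
    (hs : s ≠ 0) {v : (ζ : X) → Cyc.secFibre L ζ} (hv : ∀ ζ, v ζ ≠ 0) (ζ : X) :
    (secData δ hL hs hv).ordS ζ = Cyc.secDivFun δ L ξ s ζ := by
  change Cyc.divFun δ ξ (ratio hL s hv ζ) ζ = _
  simp only [Cyc.secDivFun, Cyc.divFun]
  split_ifs with h
  · obtain ⟨φ, hφ⟩ := exists_ratio (s := s) hL hv ζ h.1
    have h0 := ratio_ne hL hs hv ζ
    rw [ratio_eq hL hv ζ h.1 hφ] at h0 ⊢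
    conv_rhs => rw [hφ]
    exact (secOrdAt_smul hL h.1 (isGen_lift hL hv ζ) φ h0).symm
  · rfl

/-- If s and v_ζ are both the class of one element m of L_ζ, the ratio is a unit with residue
class 1. -/
theorem exists_ratio_eq_unit (hL : PicF.IsInvertible L) {s : Cyc.secFibre L ξ}
    {v : (ζ : X) → Cyc.secFibre L ζ} (hv : ∀ ζ, v ζ ≠ 0) (ζ : X) (h : ξ ⤳ ζ)
    (m : L.presheaf.stalk ζ) (hm : cl L ζ m = v ζ)
    (hm' : cl L ξ (L.presheaf.stalkSpecializes h m) = s) :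
    ∃ u : (X.presheaf.stalk ζ)ˣ, Cyc.specMap ζ ξ h (u : X.presheaf.stalk ζ) = ratio hL s hv ζ ∧
      X.residue ζ (u : X.presheaf.stalk ζ) = 1 := by
  have hl := isGen_lift hL hv ζ
  obtain ⟨a, ha⟩ := hl.2 m
  dsimp only at ha
  have h1 : X.residue ζ a = 1 := by
    rw [← ha, map_smul, ← cl_lift hL hv ζ] at hm
    have := (smul_cl_eq_iff hl a 1).1 (by rw [hm, one_smul])
    rw [this, map_one]
  have hu : IsUnit a := (IsLocalRing.residue_ne_zero_iff_isUnit a).1 (by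
    change X.residue ζ a ≠ 0
    rw [h1]
    exact one_ne_zero)
  refine ⟨hu.unit, ?_, h1⟩
  have e : s = (X.presheaf.stalkSpecializes h a) •
      cl L ξ (L.presheaf.stalkSpecializes h (lift hL hv ζ)) := by
    rw [← hm', ← ha, stalkSpecializes_smul, map_smul]
  rw [ratio_eq hL hv ζ h e]
  rfl

end Groth.Agent.CycB.KeySec
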