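import Groth.Agent.CycB.KeySec

/-!
# Summation lemmas for the key formula
-/

set_option autoImplicit false

universe u v w

open CategoryTheory CategoryTheory.Limits AlgebraicGeometry TopologicalSpace Opposite

namespace Groth.Agent.CycB.KeySum

open Groth.Agent.CycB.DivFun Groth.Agent.CycB.UnitFin Groth.Agent.CycB.KeyLine
open Groth.Agent.CycB.KeySec Groth.Agent.CycB.KeyLocal

section Top

variable {X : Type u} [TopologicalSpace X]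

/-- A locally finite family of locally finite families of specializations is locally finite. -/
theorem locFin_sigma {J : Type v} {ι : J → Type w} {ξ : J → X} (hξ : LocFin ξ)
    {ζ : (j : J) → ι j → X} (hζ : ∀ j, LocFin (ζ j)) (h : ∀ j i, ξ j ⤳ ζ j i) :
    LocFin (fun p : Σ j, ι j => ζ p.1 p.2) := by
  intro x
  obtain ⟨U, hU, hxU, hfin⟩ := hξ x
  choose V hV hxV hVfin using fun j => hζ j x
  refine ⟨U ∩ ⋂ j ∈ {j | ξ j ∈ U}, V j, hU.inter (hfin.isOpen_biInter fun j _ => hV j),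
    ⟨hxU, Set.mem_iInter₂.2 fun j _ => hxV j⟩, ?_⟩
  refine (hfin.biUnion (t := fun j => Sigma.mk j '' {i | ζ j i ∈ V j})
    (fun j _ => (hVfin j).image _)).subset ?_
  rintro ⟨j, i⟩ ⟨h1, h2⟩
  have hj : ξ j ∈ U := (h j i).mem_open hU h1
  exact Set.mem_biUnion hj ⟨i, Set.mem_iInter₂.1 h2 j hj, rfl⟩

/-- Interchange of sums for locally finite families. -/
theorem finsum_mul_comm {ι : Type v} {ξ : ι → X} (hξ : LocFin ξ) (a : ι → X → ℤ)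
    (ha : ∀ i ζ, a i ζ ≠ 0 → ξ i ⤳ ζ) (b : X → X → ℤ) (hb : ∀ ζ x, b ζ x ≠ 0 → ζ ⤳ x) (x : X)
    (hfin : ∀ i, (Function.support fun ζ => a i ζ * b ζ x).Finite) :
    ∑ᶠ ζ, (∑ᶠ i, a i ζ) * b ζ x = ∑ᶠ i, ∑ᶠ ζ, a i ζ * b ζ x := by
  have hS := hξ.finite_specializes x
  have h1 : ∀ ζ, (∑ᶠ i, a i ζ) * b ζ x = ∑ i ∈ hS.toFinset, a i ζ * b ζ x := by
    intro ζ
    by_cases hbx : b ζ x = 0
    · simp [hbx]
    · rw [finsum_eq_sum_of_support_subset (s := hS.toFinset), Finset.sum_mul]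
      intro i hi
      simp only [Set.Finite.coe_toFinset, Set.mem_ofPred_eq]
      exact (ha i ζ hi).trans (hb ζ x hbx)
  rw [finsum_congr h1, finsum_sum_comm _ _ (fun i _ => hfin i)]
  symm
  apply finsum_eq_sum_of_support_subset
  intro i hi
  simp only [Set.Finite.coe_toFinset, Set.mem_ofPred_eq]
  by_contra h2
  apply hi
  change ∑ᶠ ζ, a i ζ * b ζ x = 0
  apply finsum_eq_zero_of_forall_eq_zero
  intro ζ
  by_contra h3
  exact h2 ((ha i ζ (left_ne_zero_of_mul h3)).trans (hb ζ x (right_ne_zero_of_mul h3)))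

end Top

variable {X : Scheme.{u}} {δ : X → ℤ} {ξ : X}

theorem ordS_eq_zero (D : LineData δ ξ) {ζ : X} (h : ¬ (ξ ⤳ ζ ∧ δ ζ + 1 = δ ξ)) :
    D.ordS ζ = 0 := OrdFrac.divFun_eq_zero δ h _

theorem specializes_of_div_ne_zero (D : LineData δ ξ) {ζ x : X} (h : D.div ζ x ≠ 0) : ζ ⤳ x := by
  by_contra h'
  exact h (D.div_eq_zero ζ x fun h'' => h' h''.1)

variable [IsLocallyNoetherian X] (hδ : Cyc.IsDimFun X δ)

include hδ in
/-- The points where s is not a generator, for which ζ ⤳ x, are finite in number. -/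
theorem finite_ordS_mul (D : LineData δ ξ) (b : X → X → ℤ) (hb : ∀ ζ x, b ζ x ≠ 0 → ζ ⤳ x)
    (x : X) : (Function.support fun ζ => D.ordS ζ * b ζ x).Finite := by
  obtain ⟨U, hU, hxU, hfin⟩ := D.locallyFinite hδ x
  refine hfin.subset fun ζ hζ => ?_
  rw [Function.mem_support] at hζ
  have h1 := left_ne_zero_of_mul hζ
  have h2 := hb ζ x (right_ne_zero_of_mul hζ)
  refine ⟨h2.mem_open hU hxU, ?_⟩
  have h3 : ξ ⤳ ζ ∧ δ ζ + 1 = δ ξ := by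
    by_contra h
    exact h1 (ordS_eq_zero D h)
  refine ⟨h3, fun h4 => h1 ?_⟩
  exact (OrdFrac.divFun_apply δ h3.1 h3.2 _).trans (ordAt_of_isUnitAt h3.1 h4)

include hδ in
theorem locallyFinite_ordS (D : LineData δ ξ) (x : X) :
    ∃ U : Set X, IsOpen U ∧ x ∈ U ∧ (U ∩ Function.support D.ordS).Finite := by
  obtain ⟨U, hU, hxU, hfin⟩ := D.locallyFinite hδ x
  refine ⟨U, hU, hxU, hfin.subset ?_⟩
  rintro ζ ⟨h1, h2⟩
  rw [Function.mem_support] at h2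
  have h3 : ξ ⤳ ζ ∧ δ ζ + 1 = δ ξ := by
    by_contra h
    exact h2 (ordS_eq_zero D h)
  refine ⟨h1, h3, fun h4 => h2 ?_⟩
  exact (OrdFrac.divFun_apply δ h3.1 h3.2 _).trans (ordAt_of_isUnitAt h3.1 h4)

/-- The sum of the divisors of the symbols over the set of bad points equals the sum over all
codimension one points. -/
theorem finsum_bad (hδ : Cyc.IsDimFun X δ) (D₁ D₂ : LineData δ ξ) (x : X) :
    ∑ᶠ ζ : D₁.bad D₂, Cyc.divFun δ ζ.1 (D₁.sym D₂ ⟨ζ.1, ζ.2.1⟩) x =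
      ∑ᶠ ζ : {ζ : X // ξ ⤳ ζ ∧ δ ζ + 1 = δ ξ}, Cyc.divFun δ ζ.1 (D₁.sym D₂ ζ) x := by
  have h1 : ∑ᶠ ζ : {ζ : {ζ : X // ξ ⤳ ζ ∧ δ ζ + 1 = δ ξ} // ζ.1 ∈ D₁.bad D₂},
      Cyc.divFun δ ζ.1.1 (D₁.sym D₂ ζ.1) x =
      ∑ᶠ ζ : {ζ : X // ξ ⤳ ζ ∧ δ ζ + 1 = δ ξ}, Cyc.divFun δ ζ.1 (D₁.sym D₂ ζ) x :=
    finsum_subtype_of_zero (fun ζ : {ζ : X // ξ ⤳ ζ ∧ δ ζ + 1 = δ ξ} => ζ.1 ∈ D₁.bad D₂)
      (fun ζ => Cyc.divFun δ ζ.1 (D₁.sym D₂ ζ) x) (by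
        intro ζ hζ
        have h : IsUnitAt ζ.1 ξ (D₁.ratio ζ) ∧ IsUnitAt ζ.1 ξ (D₂.ratio ζ) := by
          by_contra h
          exact hζ ⟨ζ.2, h⟩
        change Cyc.divFun δ ζ.1 (D₁.sym D₂ ζ) x = 0
        rw [D₁.sym_eq_one hδ D₂ ζ h.1 h.2, OrdFrac.divFun_one]
        rfl)
  rw [← h1]
  let e : D₁.bad D₂ ≃ {ζ : {ζ : X // ξ ⤳ ζ ∧ δ ζ + 1 = δ ξ} // ζ.1 ∈ D₁.bad D₂} :=
    { toFun := fun ζ => ⟨⟨ζ.1, ζ.2.1⟩, ζ.2⟩
      invFun := fun ζ => ⟨ζ.1.1, ζ.2⟩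
      left_inv := fun ζ => rfl
      right_inv := fun ζ => rfl }
  exact finsum_comp_equiv e (f := fun ζ => Cyc.divFun δ ζ.1.1 (D₁.sym D₂ ζ.1) x)

/-- **Key formula**, packaged: the family D₁.bad D₂ is locally finite (`LineData.locFin_bad`). -/
theorem key_bad (hδ : Cyc.IsDimFun X δ) (D₁ D₂ : LineData δ ξ) (x : X) :
    ∑ᶠ ζ : D₁.bad D₂, Cyc.divFun δ ζ.1 (D₁.sym D₂ ⟨ζ.1, ζ.2.1⟩) x =
      ∑ᶠ ζ : X, D₁.ordS ζ * D₂.div ζ x - ∑ᶠ ζ : X, D₂.ordS ζ * D₁.div ζ x := by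
  rw [finsum_bad hδ, LineData.key hδ, ← finsum_sub_distrib
    (finite_ordS_mul hδ D₁ D₂.div (fun ζ x => specializes_of_div_ne_zero D₂) x)
    (finite_ordS_mul hδ D₂ D₁.div (fun ζ x => specializes_of_div_ne_zero D₁) x)]
  refine finsum_subtype_of_zero (fun ζ => ξ ⤳ ζ ∧ δ ζ + 1 = δ ξ)
    (fun ζ => D₁.ordS ζ * D₂.div ζ x - D₂.ordS ζ * D₁.div ζ x) ?_
  intro ζ hζ
  rw [ordS_eq_zero D₁ hζ, ordS_eq_zero D₂ hζ]
  simp

end Groth.Agent.CycB.KeySum
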