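import Groth.Agent.CycB.KeyLoc
import Groth.Agent.CycB.KeyProd
import Mathlib.RingTheory.LocalRing.ResidueField.Ideal
import Mathlib.RingTheory.Spectrum.Prime.Topology
import Mathlib.RingTheory.LocalProperties.Basic
import Mathlib.RingTheory.Spectrum.Prime.Noetherian

/-!
# The invariant `eInv` of `B/(ab)` and the tame symbol
-/

set_option autoImplicit false

universe u

namespace Groth.Agent.CycB.KeyTame

open Submodule IsLocalRing Groth.Agent.CycB.KeyIdx Groth.Agent.CycB.KeyLat
  Groth.Agent.CycB.KeyDet Groth.Agent.CycB.KeyLoc Groth.Agent.CycB.KeyProd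

variable {A : Type*} [CommRing A] [IsNoetherianRing A] [IsLocalRing A]

/-- Local computation on `R'/I` with `I = (ab)`. -/
theorem eInv_local' {R' : Type*} [CommRing R'] [Algebra A R']
    {q : Ideal A} [q.IsPrime] (hq : DimOne q) [Ring.KrullDimLE 1 (A ⧸ q)]
    {K : Type*} [Field K] [Algebra A K] [Algebra (A ⧸ q) K] [IsScalarTower A (A ⧸ q) K]
    [IsFractionRing (A ⧸ q) K] [IsLocalRing R'] [Algebra K (ResidueField R')]
    [IsScalarTower A K (ResidueField R')] [FiniteDimensional K (ResidueField R')]
    (a b : A) (π : R') (hπ : π ∈ nonZeroDivisors R') (e₁ e₂ : ℕ) (u₁ u₂ : R')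
    (hu₁ : IsUnit u₁) (hu₂ : IsUnit u₂)
    (h₁ : algebraMap A R' a = u₁ * π ^ e₁) (h₂ : algebraMap A R' b = u₂ * π ^ e₂)
    (hfl : Module.length R' (R' ⧸ Ideal.span {π}) ≠ ⊤)
    (hn : 0 < e₁ + e₂) (I : Ideal R') (hI : I = Ideal.span {algebraMap A R' (a * b)})
    (L : Submodule A (R' ⧸ I)) (hL : IsLat ⊤ L) :
    eInv (LinearMap.lsmul A (R' ⧸ I) a) (LinearMap.lsmul A (R' ⧸ I) b) L =
      - ((((Ring.ord R' π).toNat : ℕ) : ℤ) * (e₂ * cN q K u₁ - e₁ * cN q K u₂)) := by
  rw [span_eq a b π e₁ e₂ u₁ u₂ hu₁ hu₂ h₁ h₂] at hI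
  subst hI
  have e1 : LinearMap.lsmul A (R' ⧸ Ideal.span {π ^ (e₁ + e₂)}) a =
      mulE A (R' ⧸ Ideal.span {π ^ (e₁ + e₂)}) (u₁ * π ^ e₁) := by
    rw [← h₁, mulE_algebraMap]
  have e2 : LinearMap.lsmul A (R' ⧸ Ideal.span {π ^ (e₁ + e₂)}) b =
      mulE A (R' ⧸ Ideal.span {π ^ (e₁ + e₂)}) (u₂ * π ^ e₂) := by
    rw [← h₂, mulE_algebraMap]
  rw [e1, e2]
  exact eInv_local hq π hπ e₁ e₂ u₁ u₂ hu₁ hu₂ hfl hn L hL

theorem comap_max {B : Type*} [CommRing B] (q : Ideal B) [q.IsPrime] :
    (maximalIdeal (Localization.AtPrime q)).comap (algebraMap B (Localization.AtPrime q)) = q :=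
  Localization.AtPrime.under_maximalIdeal

/-- The maximal ideal of `A_q` has a power inside `(t)` when `q` is minimal over `t`. -/
theorem exists_maximalIdeal_pow_le (q : Ideal A) [q.IsPrime] (t : A)
    (hmin : ∀ p : Ideal A, p.IsPrime → p ≤ q → t ∈ p → p = q) :
    ∃ k, maximalIdeal (Localization.AtPrime q) ^ k ≤
      Ideal.span {algebraMap A (Localization.AtPrime q) t} := by
  have : IsNoetherianRing (Localization.AtPrime q) :=
    IsLocalization.isNoetherianRing q.primeCompl _ inferInstance
  refine Ideal.exists_pow_le_of_le_radical_of_fg ?_ (IsNoetherian.noetherian _)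
  rw [Ideal.radical_eq_sInf]
  refine le_sInf ?_
  rintro P ⟨hP1, hP2⟩
  have hPm : P ≤ maximalIdeal _ := le_maximalIdeal hP2.ne_top
  have h1 : (P.comap (algebraMap A (Localization.AtPrime q))) = q := by
    refine hmin _ (hP2.comap _) ?_ (hP1 (Ideal.mem_span_singleton_self _))
    have := Ideal.comap_mono (f := algebraMap A (Localization.AtPrime q)) hPm
    exact this.trans (comap_max q).le
  rw [← Localization.AtPrime.map_eq_maximalIdeal]
  calc q.map (algebraMap A (Localization.AtPrime q))
      = (P.comap (algebraMap A (Localization.AtPrime q))).map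
        (algebraMap A (Localization.AtPrime q)) := by rw [h1]
    _ ≤ P := Ideal.map_comap_le

section SemiLocal

variable (q : Ideal A) [q.IsPrime] (B : Type*) [CommRing B] [Algebra (Localization.AtPrime q) B]
  [Algebra A B] [IsScalarTower A (Localization.AtPrime q) B]
  [Module.Finite (Localization.AtPrime q) B]
  (t : A) (hmin : ∀ p : Ideal A, p.IsPrime → p ≤ q → t ∈ p → p = q) (ht : t ∈ q)

include hmin in
theorem isArtinianRing_quot : IsArtinianRing (B ⧸ Ideal.span {algebraMap A B t}) := by
  have : IsNoetherianRing (Localization.AtPrime q) :=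
    IsLocalization.isNoetherianRing q.primeCompl _ inferInstance
  obtain ⟨k, hk⟩ := exists_maximalIdeal_pow_le q t hmin
  have hlen : Module.length (Localization.AtPrime q) (B ⧸ Ideal.span {algebraMap A B t}) ≠ ⊤ := by
    refine length_ne_top_of_fg_of_torsion ?_
    intro v
    refine ⟨k, fun r hr => ?_⟩
    obtain ⟨s, rfl⟩ := Ideal.mem_span_singleton'.mp (hk hr)
    obtain ⟨v, rfl⟩ := Ideal.Quotient.mk_surjective v
    have h2 : (s * algebraMap A (Localization.AtPrime q) t) •
        (Ideal.Quotient.mk (Ideal.span {algebraMap A B t}) v) =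
        Ideal.Quotient.mk (Ideal.span {algebraMap A B t})
          ((algebraMap (Localization.AtPrime q) B s * v) * algebraMap A B t) := by
      rw [Algebra.smul_def, map_mul, ← IsScalarTower.algebraMap_apply A (Localization.AtPrime q)
        (B ⧸ Ideal.span {algebraMap A B t}),
        IsScalarTower.algebraMap_apply A B (B ⧸ Ideal.span {algebraMap A B t}),
        IsScalarTower.algebraMap_apply (Localization.AtPrime q) B
          (B ⧸ Ideal.span {algebraMap A B t})]
      rw [map_mul, map_mul]
      simp only [Ideal.Quotient.algebraMap_eq]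
      ring
    rw [h2, Ideal.Quotient.eq_zero_iff_mem]
    exact Ideal.mul_mem_left _ _ (Ideal.mem_span_singleton_self _)
  rw [Module.length_ne_top_iff, isFiniteLength_iff_isNoetherian_isArtinian] at hlen
  have := hlen.2
  exact isArtinian_of_tower (Localization.AtPrime q) this

/-- The local quotients. -/
abbrev T (t : A) (q' : MaximalSpectrum B) : Type _ :=
  Localization.AtPrime q'.asIdeal ⧸
    Ideal.span {algebraMap A (Localization.AtPrime q'.asIdeal) t}

/-- The map from `B` to the product of the local quotients. -/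
noncomputable def psi0 : B →ₗ[A] (∀ q' : MaximalSpectrum B, T B t q') :=
  LinearMap.pi fun q' =>
    ((Submodule.mkQ (Ideal.span {algebraMap A (Localization.AtPrime q'.asIdeal) t})).restrictScalars
      A).comp (IsScalarTower.toAlgHom A B (Localization.AtPrime q'.asIdeal)).toLinearMap

omit [IsNoetherianRing A] [IsLocalRing A] in
@[simp] theorem psi0_apply (x : B) (q' : MaximalSpectrum B) :
    psi0 B t x q' = Ideal.Quotient.mk _ (algebraMap B (Localization.AtPrime q'.asIdeal) x) := rfl

omit [IsNoetherianRing A] [IsLocalRing A] in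
theorem ker_psi0 : LinearMap.ker (psi0 B t) = LinearMap.range (LinearMap.lsmul A B t) := by
  ext x
  constructor
  · intro hx
    have hx' : ∀ q' : MaximalSpectrum B, Ideal.Quotient.mk
        (Ideal.span {algebraMap A (Localization.AtPrime q'.asIdeal) t})
        (algebraMap B (Localization.AtPrime q'.asIdeal) x) = 0 :=
      fun q' => congrFun (show psi0 B t x = 0 from hx) q'
    have hmem : x ∈ Ideal.span {algebraMap A B t} := by
      refine Ideal.mem_of_localization_maximal fun P hP => ?_
      have := hx' ⟨P, hP⟩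
      rw [Ideal.Quotient.eq_zero_iff_mem] at this
      rw [Ideal.map_span, Set.image_singleton,
        ← IsScalarTower.algebraMap_apply A B (Localization.AtPrime P)]
      exact this
    obtain ⟨y, hy⟩ := Ideal.mem_span_singleton'.mp hmem
    refine ⟨y, ?_⟩
    rw [LinearMap.lsmul_apply, Algebra.smul_def, mul_comm]
    exact hy
  · rintro ⟨y, rfl⟩
    rw [LinearMap.mem_ker]
    funext q'
    rw [psi0_apply, LinearMap.lsmul_apply, Algebra.smul_def, map_mul,
      ← IsScalarTower.algebraMap_apply A B (Localization.AtPrime q'.asIdeal)]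
    exact Ideal.Quotient.eq_zero_iff_mem.mpr
      (Ideal.mul_mem_right _ _ (Ideal.mem_span_singleton_self _))

/-- The maximal ideal of `B` below a maximal ideal of a quotient. -/
def below {I : Ideal B} (J : MaximalSpectrum (B ⧸ I)) : MaximalSpectrum B :=
  ⟨J.asIdeal.comap (Ideal.Quotient.mk I), by
    have := J.isMaximal
    exact Ideal.comap_isMaximal_of_surjective _ Ideal.Quotient.mk_surjective⟩

theorem exists_below {I : Ideal B} (q' : MaximalSpectrum B) (h : I ≤ q'.asIdeal) :
    ∃ J : MaximalSpectrum (B ⧸ I), below B J = q' := by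
  have hm := q'.isMaximal
  have hcm : (q'.asIdeal.map (Ideal.Quotient.mk I)).comap (Ideal.Quotient.mk I) = q'.asIdeal := by
    rw [Ideal.comap_map_of_surjective _ Ideal.Quotient.mk_surjective]
    have : (⊥ : Ideal (B ⧸ I)).comap (Ideal.Quotient.mk I) = I := by
      rw [← RingHom.ker_eq_comap_bot, Ideal.mk_ker]
    rw [this]
    exact sup_eq_left.mpr h
  have hmax : (q'.asIdeal.map (Ideal.Quotient.mk I)).IsMaximal := by
    rcases Ideal.map_eq_top_or_isMaximal_of_surjective (Ideal.Quotient.mk I)
      Ideal.Quotient.mk_surjective hm with h1 | h1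
    · exfalso
      rw [h1, Ideal.comap_top] at hcm
      exact hm.ne_top hcm.symm
    · exact h1
  exact ⟨⟨_, hmax⟩, MaximalSpectrum.ext hcm⟩

/-- All maximal ideals of `B` contain `q`. -/
theorem algebraMap_mem_maximal [hloc : ∀ q' : MaximalSpectrum B,
    IsLocalHom (algebraMap (Localization.AtPrime q) (Localization.AtPrime q'.asIdeal))]
    {r : A} (hr : r ∈ q) (q' : MaximalSpectrum B) : algebraMap A B r ∈ q'.asIdeal := by
  have h1 : algebraMap A (Localization.AtPrime q) r ∈ maximalIdeal (Localization.AtPrime q) := by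
    rw [← Localization.AtPrime.map_eq_maximalIdeal]
    exact Ideal.mem_map_of_mem _ hr
  have h2 : algebraMap (Localization.AtPrime q) (Localization.AtPrime q'.asIdeal)
      (algebraMap A (Localization.AtPrime q) r) ∈ maximalIdeal _ := by
    rw [mem_maximalIdeal, mem_nonunits_iff]
    intro h
    exact (mem_maximalIdeal _).mp h1 ((hloc q').map_nonunit _ h)
  rw [← IsScalarTower.algebraMap_apply A (Localization.AtPrime q),
    IsScalarTower.algebraMap_apply A B] at h2
  have h3 : algebraMap A B r ∈
      (maximalIdeal (Localization.AtPrime q'.asIdeal)).comap (algebraMap B _) := h2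
  exact (comap_max q'.asIdeal).le h3

include hmin ht in
theorem psi0_surjective [hloc : ∀ q' : MaximalSpectrum B,
    IsLocalHom (algebraMap (Localization.AtPrime q) (Localization.AtPrime q'.asIdeal))] :
    Function.Surjective (psi0 B t) := by
  have hart := isArtinianRing_quot q B t hmin
  let I := Ideal.span {algebraMap A B t}
  have hI : ∀ q' : MaximalSpectrum B, I ≤ q'.asIdeal := by
    intro q'
    rw [Ideal.span_singleton_le_iff_mem]
    exact algebraMap_mem_maximal q B ht q'
  -- the ring maps
  let g : ∀ q' : MaximalSpectrum B, (B ⧸ I) →+* T B t q' := fun q' =>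
    Ideal.Quotient.lift I ((Ideal.Quotient.mk _).comp
      (algebraMap B (Localization.AtPrime q'.asIdeal))) (by
        intro x hx
        obtain ⟨y, rfl⟩ := Ideal.mem_span_singleton'.mp hx
        rw [RingHom.comp_apply, map_mul,
          ← IsScalarTower.algebraMap_apply A B (Localization.AtPrime q'.asIdeal)]
        exact Ideal.Quotient.eq_zero_iff_mem.mpr
          (Ideal.mul_mem_left _ _ (Ideal.mem_span_singleton_self _)))
  have hgmk : ∀ (q' : MaximalSpectrum B) (x : B), g q' (Ideal.Quotient.mk I x) =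
      Ideal.Quotient.mk _ (algebraMap B (Localization.AtPrime q'.asIdeal) x) := fun q' x => rfl
  have hgunit : ∀ (J : MaximalSpectrum (B ⧸ I)) (y : J.asIdeal.primeCompl),
      IsUnit (g (below B J) y) := by
    rintro J ⟨y, hy⟩
    obtain ⟨y, rfl⟩ := Ideal.Quotient.mk_surjective y
    rw [hgmk]
    refine IsUnit.map _ ?_
    exact IsLocalization.map_units (M := (below B J).asIdeal.primeCompl) _
      ⟨y, fun h => hy h⟩
  let G : ∀ J : MaximalSpectrum (B ⧸ I), Localization.AtPrime J.asIdeal →+* T B t (below B J) :=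
    fun J => IsLocalization.lift (M := J.asIdeal.primeCompl) (hgunit J)
  have hG : ∀ (J : MaximalSpectrum (B ⧸ I)) (x : B ⧸ I), G J (algebraMap _ _ x) =
      g (below B J) x := fun J x => IsLocalization.lift_eq _ _
  have hGsurj : ∀ J, Function.Surjective (G J) := by
    intro J y
    obtain ⟨y, rfl⟩ := Ideal.Quotient.mk_surjective y
    obtain ⟨x, s, rfl⟩ := IsLocalization.exists_mk'_eq (below B J).asIdeal.primeCompl y
    have hs : Ideal.Quotient.mk I (s : B) ∈ J.asIdeal.primeCompl := s.2
    refine ⟨IsLocalization.mk' _ (Ideal.Quotient.mk I x) (⟨_, hs⟩ : J.asIdeal.primeCompl), ?_⟩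
    change IsLocalization.lift (hgunit J) _ = _
    rw [IsLocalization.lift_mk'_spec]
    change g (below B J) (Ideal.Quotient.mk I x) = g (below B J) (Ideal.Quotient.mk I (s : B)) * _
    rw [hgmk, hgmk, ← map_mul, mul_comm, IsLocalization.mk'_spec]
  intro y
  choose z hz using fun J : MaximalSpectrum (B ⧸ I) => hGsurj J (y (below B J))
  have hdisc : DiscreteTopology (PrimeSpectrum (B ⧸ I)) := inferInstance
  obtain ⟨x, hx⟩ := (MaximalSpectrum.toPiLocalizationEquiv (B ⧸ I)).surjective z
  obtain ⟨x, rfl⟩ := Ideal.Quotient.mk_surjective x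
  refine ⟨x, ?_⟩
  funext q'
  obtain ⟨J, rfl⟩ := exists_below B q' (hI q')
  rw [← hz J, ← hx, MaximalSpectrum.toPiLocalizationEquiv_apply_apply, hG, hgmk, psi0_apply]

include hmin in
theorem finite_maximalSpectrum (ht : t ∈ q) [hloc : ∀ q' : MaximalSpectrum B,
    IsLocalHom (algebraMap (Localization.AtPrime q) (Localization.AtPrime q'.asIdeal))] :
    Finite (MaximalSpectrum B) := by
  have hart := isArtinianRing_quot q B t hmin
  refine Finite.of_surjective (below B (I := Ideal.span {algebraMap A B t})) ?_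
  intro q'
  refine exists_below B q' ?_
  rw [Ideal.span_singleton_le_iff_mem]
  exact algebraMap_mem_maximal q B ht q'

end SemiLocal

end Groth.Agent.CycB.KeyTame
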