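import Groth.Agent.CycB.KeyComm

/-!
# c_1(L) ∩ − kills cycles rationally equivalent to zero
-/

set_option autoImplicit false

universe u v w

open CategoryTheory CategoryTheory.Limits AlgebraicGeometry TopologicalSpace Opposite

namespace Groth.Agent.CycB.KeyZero

open Groth.Agent.CycB.DivFun Groth.Agent.CycB.UnitFin Groth.Agent.CycB.KeyLine
open Groth.Agent.CycB.KeySec Groth.Agent.CycB.KeyLocal Groth.Agent.CycB.KeySum

variable {X : Scheme.{u}} {δ : X → ℤ}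

theorem secDivFun_ne_zero {L : X.Modules} {ζ x : X} {s : Cyc.secFibre L ζ}
    (h : Cyc.secDivFun δ L ζ s x ≠ 0) : ζ ⤳ x := by
  by_contra h'
  apply h
  unfold Cyc.secDivFun
  rw [dif_neg]
  exact fun h'' => h' h''.1

variable [IsLocallyNoetherian X] (hδ : Cyc.IsDimFun X δ)

include hδ in
/-- The key formula for a rational function f on the closure of ξ and a module L with sections. -/
theorem finsum_divFun_mul {ξ : X} {L : X.Modules} (hL : PicF.IsInvertible L)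
    {f : X.residueField ξ} (hf : f ≠ 0) {t : Cyc.secFibre L ξ} (ht : t ≠ 0)
    {s : (ζ : X) → Cyc.secFibre L ζ} (hs : ∀ ζ, s ζ ≠ 0) (x : X) :
    ∑ᶠ ζ : X, Cyc.divFun δ ξ f ζ * Cyc.secDivFun δ L ζ (s ζ) x =
      ∑ᶠ ζ : (funData δ f hf).bad (secData δ hL ht hs),
        Cyc.divFun δ ζ.1 ((funData δ f hf).sym (secData δ hL ht hs) ⟨ζ.1, ζ.2.1⟩) x := by
  rw [key_bad hδ]
  have h0 : ∑ᶠ ζ : X, (secData δ hL ht hs).ordS ζ * (funData δ f hf).div ζ x = 0 := by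
    apply finsum_eq_zero_of_forall_eq_zero
    intro ζ
    rw [funData_div, mul_zero]
  rw [h0, sub_zero]
  rfl

include hδ in
/-- Interchange of summations in c_1(L) ∩ (Σ_j div(f_j)). -/
theorem c1CapFun_eq {ι : Type v} {ξ : ι → X} (hξ : LocFin ξ) (f : (j : ι) → X.residueField (ξ j))
    (hf : ∀ j, f j ≠ 0) {L : X.Modules} (s : (ζ : X) → Cyc.secFibre L ζ) {α : X → ℤ}
    (hα : ∀ x, α x = ∑ᶠ j, Cyc.divFun δ (ξ j) (f j) x) (x : X) :
    Cyc.c1CapFun δ L α s x =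
      ∑ᶠ j, ∑ᶠ ζ : X, Cyc.divFun δ (ξ j) (f j) ζ * Cyc.secDivFun δ L ζ (s ζ) x := by
  unfold Cyc.c1CapFun
  rw [finsum_congr (fun ζ => by rw [hα ζ])]
  refine finsum_mul_comm hξ (fun j => Cyc.divFun δ (ξ j) (f j))
    (fun j ζ h => (divFun_ne_zero h).1) (fun ζ x => Cyc.secDivFun δ L ζ (s ζ) x)
    (fun ζ x h => secDivFun_ne_zero h) x ?_
  intro j
  exact finite_ordS_mul hδ (funData δ (f j) (hf j)) (fun ζ x => Cyc.secDivFun δ L ζ (s ζ) x)
    (fun ζ x h => secDivFun_ne_zero h) x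

include hδ in
/-- Stacks 02TI. -/
theorem ratEquivZero_c1Cap {L : X.Modules} (hL : PicF.IsInvertible L) {k : ℤ}
    {α : AlgebraicCycle X ℤ} (h0 : Cyc.RatEquivZero δ (k + 1) α)
    {s : (ξ : X) → Cyc.secFibre L ξ} (hs : ∀ ξ, s ξ ≠ 0) {γ : AlgebraicCycle X ℤ}
    (hγ : ⇑γ = Cyc.c1CapFun δ L ⇑α s) : Cyc.RatEquivZero δ k γ := by
  rw [ratEquivZero_iff] at h0
  obtain ⟨ι, ξ, f, h1, h2, h3, h4⟩ := h0
  refine ratEquivZero_sigma
    (J := ι) (ι := fun j => (funData δ (f j) (h2 j)).bad (secData δ hL (hs (ξ j)) hs))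
    (fun j ζ => ζ.1)
    (fun j ζ => (funData δ (f j) (h2 j)).sym (secData δ hL (hs (ξ j)) hs) ⟨ζ.1, ζ.2.1⟩)
    ?_ ?_ ?_ γ ?_
  · intro j ζ
    have := ζ.2.1.2
    have := h1 j
    omega
  · intro j ζ
    exact LineData.sym_ne_zero hδ _ _ _
  · exact locFin_sigma h3 (fun j => LineData.locFin_bad hδ _ _) (fun j ζ => ζ.2.1.1)
  · intro x
    rw [hγ, c1CapFun_eq hδ h3 f h2 s h4 x]
    apply finsum_congr
    intro j
    exact finsum_divFun_mul hδ hL (h2 j) (hs (ξ j)) hs x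

end Groth.Agent.CycB.KeyZero
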