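import Mathlib.RingTheory.Length
import Mathlib.RingTheory.LocalRing.Length
import Mathlib.Algebra.Module.SnakeLemma
import Mathlib.RingTheory.Ideal.AssociatedPrime.Finiteness
import Mathlib.RingTheory.Ideal.MinimalPrime.Noetherian
import Mathlib.RingTheory.Localization.AtPrime.Basic
import Mathlib.Algebra.Module.LocalizedModule.Exact
import Mathlib.RingTheory.KrullDimension.Zero
import Mathlib.RingTheory.Localization.Module
import Mathlib.RingTheory.Localization.Finiteness
import Mathlib.RingTheory.Localization.Submodule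
import Mathlib.RingTheory.HopkinsLevitzki
import Mathlib.RingTheory.OrderOfVanishing.Basic
import Mathlib.RingTheory.Ideal.MinimalPrime.Localization
import Mathlib.RingTheory.Ideal.Quotient.Noetherian
import Mathlib.Algebra.Module.Torsion.Basic
import Mathlib.Algebra.BigOperators.Finprod

/-!
# Length formulas in dimension one (Stacks 02QF, 02QG)
-/

universe u v w

namespace Groth.Agent.CycB.LenSum

open Module

section Six

variable {R : Type u} [CommRing R]

theorem length_six {A₁ A₂ A₃ B₁ B₂ B₃ : Type*} [AddCommGroup A₁] [Module R A₁]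
    [AddCommGroup A₂] [Module R A₂] [AddCommGroup A₃] [Module R A₃]
    [AddCommGroup B₁] [Module R B₁] [AddCommGroup B₂] [Module R B₂] [AddCommGroup B₃] [Module R B₃]
    (f₁ : A₁ →ₗ[R] A₂) (f₂ : A₂ →ₗ[R] A₃) (d : A₃ →ₗ[R] B₁) (g₁ : B₁ →ₗ[R] B₂) (g₂ : B₂ →ₗ[R] B₃)
    (hf₁ : Function.Injective f₁) (hg₂ : Function.Surjective g₂)
    (e₁ : Function.Exact f₁ f₂) (e₂ : Function.Exact f₂ d) (e₃ : Function.Exact d g₁)
    (e₄ : Function.Exact g₁ g₂) :
    length R A₁ + length R A₃ + length R B₂ = length R A₂ + length R B₁ + length R B₃ := by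
  have h1 : length R A₂ = length R A₁ + length R (LinearMap.range f₂) := by
    refine length_eq_add_of_exact f₁ f₂.rangeRestrict hf₁ (LinearMap.surjective_rangeRestrict _) ?_
    intro x
    rw [← e₁ x]
    simp [LinearMap.rangeRestrict, Subtype.ext_iff]
  have h2 : length R A₃ = length R (LinearMap.range f₂) + length R (LinearMap.range d) := by
    refine length_eq_add_of_exact (LinearMap.range f₂).subtype d.rangeRestrict
      (Submodule.injective_subtype _) (LinearMap.surjective_rangeRestrict _) ?_
    intro x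
    rw [show (d.rangeRestrict x = 0) ↔ d x = 0 by simp [LinearMap.rangeRestrict, Subtype.ext_iff],
      e₂ x]
    simp
  have h3 : length R B₁ = length R (LinearMap.range d) + length R (LinearMap.range g₁) := by
    refine length_eq_add_of_exact (LinearMap.range d).subtype g₁.rangeRestrict
      (Submodule.injective_subtype _) (LinearMap.surjective_rangeRestrict _) ?_
    intro x
    rw [show (g₁.rangeRestrict x = 0) ↔ g₁ x = 0 by simp [LinearMap.rangeRestrict, Subtype.ext_iff],
      e₃ x]
    simp
  have h4 : length R B₂ = length R (LinearMap.range g₁) + length R B₃ := by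
    refine length_eq_add_of_exact (LinearMap.range g₁).subtype g₂
      (Submodule.injective_subtype _) hg₂ ?_
    intro x
    rw [e₄ x]
    simp
  rw [h1, h2, h3, h4]
  ring

end Six

section Herb

variable {R : Type u} [CommRing R]

/-- kernel of multiplication by `g`. -/
abbrev tor (g : R) (M : Type*) [AddCommGroup M] [Module R M] : Submodule R M :=
  LinearMap.ker (LinearMap.lsmul R M g)

/-- image of multiplication by `g`. -/
abbrev img (g : R) (M : Type*) [AddCommGroup M] [Module R M] : Submodule R M :=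
  LinearMap.range (LinearMap.lsmul R M g)

theorem length_tor_quot {M₁ M₂ M₃ : Type*} [AddCommGroup M₁] [Module R M₁]
    [AddCommGroup M₂] [Module R M₂] [AddCommGroup M₃] [Module R M₃]
    (f : M₁ →ₗ[R] M₂) (p : M₂ →ₗ[R] M₃) (hf : Function.Injective f) (hp : Function.Surjective p)
    (e : Function.Exact f p) (g : R) :
    length R (tor g M₁) + length R (tor g M₃) + length R (M₂ ⧸ img g M₂) =
      length R (tor g M₂) + length R (M₁ ⧸ img g M₁) + length R (M₃ ⧸ img g M₃) := by
  let i₁ := LinearMap.lsmul R M₁ g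
  let i₂ := LinearMap.lsmul R M₂ g
  let i₃ := LinearMap.lsmul R M₃ g
  have h₁ : f.comp i₁ = i₂.comp f := by ext x; simp [i₁, i₂]
  have h₂ : p.comp i₂ = i₃.comp p := by ext x; simp [i₂, i₃]
  let K₁ : tor g M₁ →ₗ[R] tor g M₂ := f.restrict (fun x hx => by
    have : i₁ x = 0 := hx
    show i₂ (f x) = 0
    rw [← LinearMap.comp_apply, ← h₁, LinearMap.comp_apply, this, map_zero])
  let K₂ : tor g M₂ →ₗ[R] tor g M₃ := p.restrict (fun x hx => by
    have : i₂ x = 0 := hx
    show i₃ (p x) = 0
    rw [← LinearMap.comp_apply, ← h₂, LinearMap.comp_apply, this, map_zero])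
  let C₁ : (M₁ ⧸ img g M₁) →ₗ[R] (M₂ ⧸ img g M₂) := Submodule.mapQ _ _ f (by
    rintro _ ⟨x, rfl⟩
    exact ⟨f x, by simp⟩)
  let C₂ : (M₂ ⧸ img g M₂) →ₗ[R] (M₃ ⧸ img g M₃) := Submodule.mapQ _ _ p (by
    rintro _ ⟨x, rfl⟩
    exact ⟨p x, by simp⟩)
  have ek₂ : Function.Exact (tor g M₂).subtype i₂ := by
    intro x; simp [i₂]
  have ek₃ : Function.Exact (tor g M₃).subtype i₃ := by
    intro x; simp [i₃]
  have ec₁ : Function.Exact i₁ (img g M₁).mkQ := by
    intro x; simp [i₁]
  have ec₂ : Function.Exact i₂ (img g M₂).mkQ := by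
    intro x; simp [i₂]
  let δ := SnakeLemma.δ' i₁ i₂ i₃ f p e f p e h₁ h₂ (tor g M₃).subtype ek₃ (img g M₁).mkQ ec₁ hp hf
  refine length_six K₁ K₂ δ C₁ C₂ ?_ ?_ ?_ ?_ ?_ ?_
  · intro x y hxy
    ext
    exact hf (congrArg Subtype.val hxy)
  · rintro ⟨x⟩
    obtain ⟨y, rfl⟩ := hp x
    exact ⟨Submodule.Quotient.mk y, rfl⟩
  · intro x
    constructor
    · intro hx
      have : p x.1 = 0 := congrArg Subtype.val hx
      obtain ⟨y, hy⟩ := (e x.1).1 this
      refine ⟨⟨y, ?_⟩, ?_⟩
      · show i₁ y = 0
        apply hf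
        rw [← LinearMap.comp_apply, h₁, LinearMap.comp_apply, hy, map_zero]
        exact x.2
      · ext
        exact hy
    · rintro ⟨y, rfl⟩
      ext
      exact (e _).2 ⟨y.1, rfl⟩
  · exact SnakeLemma.exact_δ'_right i₁ i₂ i₃ f p e f p e h₁ h₂ (tor g M₂).subtype ek₂
      (tor g M₃).subtype ek₃ (img g M₁).mkQ ec₁ hp hf K₂ (by ext; rfl) (Submodule.injective_subtype _)
  · exact SnakeLemma.exact_δ'_left i₁ i₂ i₃ f p e f p e h₁ h₂
      (tor g M₃).subtype ek₃ (img g M₁).mkQ ec₁ (img g M₂).mkQ ec₂ hp hf C₁ (by ext; rfl)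
      (Submodule.mkQ_surjective _)
  · intro x
    obtain ⟨x, rfl⟩ := Submodule.mkQ_surjective _ x
    constructor
    · intro hx
      have : p x ∈ img g M₃ := by
        rw [← Submodule.Quotient.mk_eq_zero]
        exact hx
      obtain ⟨y, hy⟩ := this
      obtain ⟨z, rfl⟩ := hp y
      have : p (x - g • z) = 0 := by
        rw [map_sub, map_smul, ← hy]; simp
      obtain ⟨w, hw⟩ := (e _).1 this
      refine ⟨Submodule.Quotient.mk w, ?_⟩
      show Submodule.Quotient.mk (f w) = Submodule.Quotient.mk x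
      rw [hw, Submodule.Quotient.eq]
      exact ⟨-z, by simp⟩
    · rintro ⟨y, hy⟩
      obtain ⟨y, rfl⟩ := Submodule.mkQ_surjective _ y
      rw [← hy]
      show Submodule.Quotient.mk (p (f y)) = 0
      rw [(e _).2 ⟨y, rfl⟩]
      rfl

end Herb

section Loc

variable {R : Type u} [CommRing R]

/-- length of the localization of `M` at the prime `q`. -/
noncomputable def locLen (q : Ideal R) [q.IsPrime] (M : Type v) [AddCommGroup M] [Module R M] :
    ℕ∞ :=
  length (Localization.AtPrime q) (LocalizedModule q.primeCompl M)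

theorem locLen_exact (q : Ideal R) [q.IsPrime] {M₁ M₂ M₃ : Type*} [AddCommGroup M₁] [Module R M₁]
    [AddCommGroup M₂] [Module R M₂] [AddCommGroup M₃] [Module R M₃]
    (f : M₁ →ₗ[R] M₂) (p : M₂ →ₗ[R] M₃) (hf : Function.Injective f) (hp : Function.Surjective p)
    (e : Function.Exact f p) : locLen q M₂ = locLen q M₁ + locLen q M₃ := by
  refine length_eq_add_of_exact (LocalizedModule.map q.primeCompl f)
    (LocalizedModule.map q.primeCompl p) ?_ ?_ ?_
  · exact IsLocalizedModule.map_injective q.primeCompl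
      (LocalizedModule.mkLinearMap q.primeCompl M₁) (LocalizedModule.mkLinearMap q.primeCompl M₂) f hf
  · exact IsLocalizedModule.map_surjective q.primeCompl
      (LocalizedModule.mkLinearMap q.primeCompl M₂) (LocalizedModule.mkLinearMap q.primeCompl M₃) p hp
  · exact LocalizedModule.map_exact q.primeCompl f p e

theorem locLen_congr (q : Ideal R) [q.IsPrime] {M N : Type*} [AddCommGroup M] [Module R M]
    [AddCommGroup N] [Module R N] (e : M ≃ₗ[R] N) : locLen q M = locLen q N := by
  have h := locLen_exact q (0 : (PUnit : Type) →ₗ[R] M) e.toLinearMap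
    (fun x y _ => Subsingleton.elim _ _) e.surjective (fun x => by simp [eq_comm (a := (0 : M))])
  have h0 : locLen q (PUnit : Type) = 0 := by
    unfold locLen
    rw [Module.length_eq_zero_iff]
    exact (LocalizedModule.subsingleton_iff).2 fun m => ⟨1, one_mem _, Subsingleton.elim _ _⟩
  rw [h, h0, zero_add]

theorem locLen_quot_self (q : Ideal R) [q.IsPrime] : locLen q (R ⧸ q) = 1 := by
  unfold locLen
  rw [Module.length_eq_one_iff]
  let m : LocalizedModule q.primeCompl (R ⧸ q) := LocalizedModule.mk 1 1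
  have hsm : ∀ (r : R) (s : q.primeCompl),
      (IsLocalization.mk' (Localization.AtPrime q) r s) • m
        = LocalizedModule.mk (Ideal.Quotient.mk q r) s := by
    intro r s
    show (IsLocalization.mk' (Localization.AtPrime q) r s) • LocalizedModule.mk 1 1 = _
    rw [← Localization.mk_eq_mk', LocalizedModule.mk_smul_mk, mul_one]
    congr 1
    rw [Algebra.smul_def, mul_one]
    rfl
  have hmk0 : ∀ (r : R) (s : q.primeCompl),
      (LocalizedModule.mk (Ideal.Quotient.mk q r) s : LocalizedModule q.primeCompl (R ⧸ q)) = 0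
        ↔ r ∈ q := by
    intro r s
    rw [← LocalizedModule.zero_mk s, LocalizedModule.mk_eq]
    constructor
    · rintro ⟨u, hu⟩
      simp only [smul_zero] at hu
      have h2 : Ideal.Quotient.mk q ((u : R) * ((s : R) * r)) = 0 := by
        rw [map_mul, map_mul]
        simpa [Submonoid.smul_def, Algebra.smul_def] using hu
      rw [Ideal.Quotient.eq_zero_iff_mem] at h2
      exact ((Ideal.IsPrime.mem_or_mem ‹_› h2).resolve_left u.2 |>
        (Ideal.IsPrime.mem_or_mem ‹q.IsPrime›)).resolve_left s.2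
    · intro h
      exact ⟨1, by simp [Ideal.Quotient.eq_zero_iff_mem.2 h]⟩
  let φ : Localization.AtPrime q →ₗ[Localization.AtPrime q]
      LocalizedModule q.primeCompl (R ⧸ q) := LinearMap.toSpanSingleton _ _ m
  have hφ : Function.Surjective φ := by
    intro x
    induction x using LocalizedModule.induction_on with
    | _ a s =>
      obtain ⟨r, rfl⟩ := Ideal.Quotient.mk_surjective a
      exact ⟨IsLocalization.mk' (Localization.AtPrime q) r s, hsm r s⟩
  rw [isSimpleModule_iff_quot_maximal]
  refine ⟨LinearMap.ker φ, ?_, ⟨(LinearMap.quotKerEquivOfSurjective φ hφ).symm⟩⟩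
  have : (LinearMap.ker φ : Ideal (Localization.AtPrime q)) =
      IsLocalRing.maximalIdeal (Localization.AtPrime q) := by
    ext x
    obtain ⟨r, s, rfl⟩ := IsLocalization.exists_mk'_eq q.primeCompl x
    rw [LinearMap.mem_ker]
    show (IsLocalization.mk' (Localization.AtPrime q) r s) • m = 0 ↔ _
    rw [hsm, hmk0, IsLocalization.AtPrime.mk'_mem_maximal_iff (Localization.AtPrime q) q]
  rw [this]
  infer_instance

theorem locLen_eq_zero_of_exists (q : Ideal R) [q.IsPrime] (M : Type*) [AddCommGroup M] [Module R M]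
    (s : R) (hs : s ∉ q) (h : ∀ m : M, s • m = 0) : locLen q M = 0 := by
  unfold locLen
  rw [Module.length_eq_zero_iff]
  exact (LocalizedModule.subsingleton_iff).2 fun m => ⟨s, hs, h m⟩

theorem locLen_quot_eq_zero (p q : Ideal R) [q.IsPrime] (h : ¬ p ≤ q) : locLen q (R ⧸ p) = 0 := by
  obtain ⟨s, hs, hsq⟩ := Set.not_subset.1 h
  refine locLen_eq_zero_of_exists q _ s hsq fun m => ?_
  obtain ⟨r, rfl⟩ := Ideal.Quotient.mk_surjective m
  rw [Algebra.smul_def, Ideal.Quotient.algebraMap_eq, ← map_mul, Ideal.Quotient.eq_zero_iff_mem]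
  exact p.mul_mem_right _ hs

theorem locLen_ne_top [IsNoetherianRing R] (q : Ideal R) [q.IsPrime] (hq : q ∈ minimalPrimes R)
    (M : Type*) [AddCommGroup M] [Module R M] [Module.Finite R M] : locLen q M ≠ ⊤ := by
  unfold locLen
  have : IsNoetherianRing (Localization.AtPrime q) :=
    IsLocalization.isNoetherianRing q.primeCompl _ inferInstance
  have : Ring.KrullDimLE 0 (Localization.AtPrime q) := .of_isLocalization q hq _
  have : IsArtinianRing (Localization.AtPrime q) := by
    rw [isArtinianRing_iff_krullDimLE_zero]; infer_instance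
  have : Module.Finite (Localization.AtPrime q) (LocalizedModule q.primeCompl M) :=
    Module.Finite.of_isLocalizedModule q.primeCompl (LocalizedModule.mkLinearMap q.primeCompl M)
  exact Module.length_ne_top

end Loc

section Main

variable {R : Type u} [CommRing R]

/-- the minimal primes which are not maximal. -/
abbrev NMin (R : Type u) [CommRing R] : Type u :=
  {q : PrimeSpectrum R // q.asIdeal ∈ minimalPrimes R ∧ ¬ q.asIdeal.IsMaximal}

instance finite_NMin [IsNoetherianRing R] : Finite (NMin R) := by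
  have h : (minimalPrimes R).Finite := minimalPrimes.finite_of_isNoetherianRing R
  have := h.to_subtype
  refine Finite.of_injective (fun q : NMin R => (⟨q.1.asIdeal, q.2.1⟩ : minimalPrimes R)) ?_
  intro a b hab
  have : a.1.asIdeal = b.1.asIdeal := congrArg Subtype.val hab
  exact Subtype.ext (PrimeSpectrum.ext this)

variable [IsNoetherianRing R] [Ring.KrullDimLE 1 R]

theorem isArtinianRing_quot (g : R) (hg : ∀ q : NMin R, g ∉ q.1.asIdeal) :
    IsArtinianRing (R ⧸ Ideal.span {g}) := by
  rw [isArtinianRing_iff_krullDimLE_zero]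
  refine Ring.KrullDimLE.mk₀ fun I hI => ?_
  have hJ : (I.comap (Ideal.Quotient.mk (Ideal.span {g}))).IsPrime := Ideal.IsPrime.comap _
  have hgJ : g ∈ I.comap (Ideal.Quotient.mk (Ideal.span {g})) := by
    rw [Ideal.mem_comap, Ideal.Quotient.eq_zero_iff_mem.2 (Ideal.mem_span_singleton_self g)]
    exact I.zero_mem
  have hmax : (I.comap (Ideal.Quotient.mk (Ideal.span {g}))).IsMaximal := by
    rcases Ring.krullDimLE_one_iff.1 ‹_› _ hJ with h | h
    · by_contra hne
      exact hg ⟨⟨_, hJ⟩, h, hne⟩ hgJ
    · exact h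
  rw [← Ideal.map_comap_of_surjective _ Ideal.Quotient.mk_surjective I]
  refine Or.resolve_right (Ideal.map_eq_top_or_isMaximal_of_surjective _
    Ideal.Quotient.mk_surjective hmax).symm ?_
  rw [Ideal.map_comap_of_surjective _ Ideal.Quotient.mk_surjective I]
  exact hI.ne_top

theorem length_ne_top_of_smul_eq_zero (g : R) (hg : ∀ q : NMin R, g ∉ q.1.asIdeal)
    (N : Type v) [AddCommGroup N] [Module R N] [Module.Finite R N] (h : ∀ n : N, g • n = 0) :
    length R N ≠ ⊤ := by
  have hA := isArtinianRing_quot g hg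
  have htor : Module.IsTorsionBySet R N (Ideal.span {g} : Ideal R) := by
    rw [Module.isTorsionBySet_span_singleton_iff]
    exact fun n => h n
  let := htor.module
  have : IsScalarTower R (R ⧸ Ideal.span {g}) N := htor.isScalarTower
  have : Module.Finite (R ⧸ Ideal.span {g}) N := Module.Finite.of_restrictScalars_finite R _ _
  rw [Module.length_eq_of_surjective (S := R) (R := R ⧸ Ideal.span {g}) (M := N)
    Ideal.Quotient.mk_surjective]
  exact Module.length_ne_top

theorem length_tor_ne_top (g : R) (hg : ∀ q : NMin R, g ∉ q.1.asIdeal)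
    (M : Type v) [AddCommGroup M] [Module R M] [Module.Finite R M] :
    length R (tor g M) ≠ ⊤ :=
  length_ne_top_of_smul_eq_zero g hg _ fun n => Subtype.ext n.2

theorem length_quot_ne_top (g : R) (hg : ∀ q : NMin R, g ∉ q.1.asIdeal)
    (M : Type v) [AddCommGroup M] [Module R M] [Module.Finite R M] :
    length R (M ⧸ img g M) ≠ ⊤ := by
  refine length_ne_top_of_smul_eq_zero g hg _ fun n => ?_
  obtain ⟨n, rfl⟩ := Submodule.mkQ_surjective _ n
  rw [← map_smul, Submodule.mkQ_apply, Submodule.Quotient.mk_eq_zero]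
  exact ⟨n, rfl⟩

/-- Stacks 02QG: for a finite module `M` over a Noetherian ring of dimension at most one,
`ℓ(M/gM) = ℓ(M[g]) + ∑_q ℓ(M_q) ℓ(R/(q + g))`. -/
theorem length_quot_eq (g : R) (hg : ∀ q : NMin R, g ∉ q.1.asIdeal)
    (M : Type v) [AddCommGroup M] [Module R M] [Module.Finite R M] :
    length R (M ⧸ img g M) = length R (tor g M) +
      ∑ᶠ q : NMin R, locLen q.1.asIdeal M * length R (R ⧸ (q.1.asIdeal ⊔ Ideal.span {g})) := by
  classical
  have htor0 : ∀ p : PrimeSpectrum R, g ∉ p.asIdeal → length R (tor g (R ⧸ p.asIdeal)) = 0 := by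
    intro p hgp
    rw [Module.length_eq_zero_iff]
    refine ⟨fun x y => ?_⟩
    have key : ∀ z : tor g (R ⧸ p.asIdeal), z = 0 := by
      rintro ⟨z, hz⟩
      obtain ⟨z, rfl⟩ := Ideal.Quotient.mk_surjective z
      have hz' : g • (Ideal.Quotient.mk p.asIdeal z) = 0 := hz
      rw [Algebra.smul_def, Ideal.Quotient.algebraMap_eq, ← map_mul,
            Ideal.Quotient.eq_zero_iff_mem] at hz'
      refine Subtype.ext ?_
      exact Ideal.Quotient.eq_zero_iff_mem.2 ((p.2.mem_or_mem hz').resolve_left hgp)
    rw [key x, key y]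
  refine IsNoetherianRing.induction_on_isQuotientEquivQuotientPrime R (M := M) ‹_›
    (motive := fun N _ _ _ => length R (N ⧸ img g N) = length R (tor g N) +
      ∑ᶠ q : NMin R, locLen q.1.asIdeal N * length R (R ⧸ (q.1.asIdeal ⊔ Ideal.span {g})))
    ?_ ?_ ?_
  · intro N _ _ _ _
    have : ∀ q : NMin R, locLen q.1.asIdeal N = 0 := fun q =>
      locLen_eq_zero_of_exists q.1.asIdeal N 1 (fun h => q.1.2.ne_top
        ((Ideal.eq_top_iff_one _).2 h)) (fun m => Subsingleton.elim _ _)
    simp only [this, zero_mul, finsum_zero, add_zero]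
    rw [Module.length_eq_zero, Module.length_eq_zero]
  · intro N _ _ _ p e
    have hN : length R (N ⧸ img g N) = length R (R ⧸ (p.asIdeal ⊔ Ideal.span {g})) := by
      have e1 : (N ⧸ img g N) ≃ₗ[R] ((R ⧸ p.asIdeal) ⧸ img g (R ⧸ p.asIdeal)) := by
        refine Submodule.Quotient.equiv _ _ e ?_
        ext x
        constructor
        · rintro ⟨_, ⟨y, rfl⟩, rfl⟩
          exact ⟨e y, by simp⟩
        · rintro ⟨y, rfl⟩
          exact ⟨g • e.symm y, ⟨e.symm y, rfl⟩, by simp⟩
      rw [e1.length_eq]
      let φ : R →ₗ[R] ((R ⧸ p.asIdeal) ⧸ img g (R ⧸ p.asIdeal)) :=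
        (img g (R ⧸ p.asIdeal)).mkQ ∘ₗ (Submodule.mkQ p.asIdeal)
      have hφ : Function.Surjective φ :=
        (Submodule.mkQ_surjective _).comp (Submodule.mkQ_surjective _)
      have hker : LinearMap.ker φ = (p.asIdeal ⊔ Ideal.span {g} : Ideal R) := by
        ext x
        rw [LinearMap.mem_ker]
        show Submodule.Quotient.mk (Submodule.mkQ p.asIdeal x) = 0 ↔ _
        rw [Submodule.Quotient.mk_eq_zero, sup_comm, Ideal.mem_span_singleton_sup]
        constructor
        · rintro ⟨y, hy⟩
          obtain ⟨y, rfl⟩ := Submodule.mkQ_surjective _ y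
          refine ⟨y, x - y * g, ?_, by ring⟩
          have : Submodule.mkQ p.asIdeal (x - y * g) = 0 := by
            rw [map_sub, ← hy]
            simp only [LinearMap.lsmul_apply, ← map_smul, smul_eq_mul, mul_comm y g, sub_self]
          exact (Submodule.Quotient.mk_eq_zero p.asIdeal).1 this
        · rintro ⟨a, b, hb, rfl⟩
          refine ⟨Submodule.mkQ _ a, ?_⟩
          rw [map_add, (Submodule.Quotient.mk_eq_zero p.asIdeal (x := b)).2 hb |> fun h =>
            (show Submodule.mkQ p.asIdeal b = 0 from h), add_zero]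
          simp only [LinearMap.lsmul_apply, ← map_smul, smul_eq_mul, mul_comm a g]
      rw [← ((Submodule.quotEquivOfEq _ _ hker.symm).trans
        (LinearMap.quotKerEquivOfSurjective φ hφ)).length_eq]
    have hT : length R (tor g N) = length R (tor g (R ⧸ p.asIdeal)) := by
      refine (LinearEquiv.ofSubmodules e _ _ ?_).length_eq
      ext x
      constructor
      · rintro ⟨y, hy, rfl⟩
        have hy' : g • y = 0 := hy
        show g • (e y) = 0
        rw [← map_smul, hy', map_zero]
      · intro hx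
        have hx' : g • x = 0 := hx
        refine ⟨e.symm x, ?_, by simp⟩
        show g • (e.symm x) = 0
        rw [← map_smul, hx', map_zero]
    by_cases hp : p.asIdeal.IsMaximal
    · have h0 : ∀ q : NMin R, locLen q.1.asIdeal N = 0 := by
        intro q
        rw [locLen_congr q.1.asIdeal e]
        refine locLen_quot_eq_zero p.asIdeal q.1.asIdeal fun h => ?_
        exact q.2.2 (hp.eq_of_le q.1.2.ne_top h ▸ hp)
      simp only [h0, zero_mul, finsum_zero, add_zero]
      rw [hN, hT]
      by_cases hgp : g ∈ p.asIdeal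
      · have h1 : (p.asIdeal ⊔ Ideal.span {g} : Ideal R) = p.asIdeal := by
          rw [sup_eq_left, Ideal.span_singleton_le_iff_mem]; exact hgp
        have h2 : tor g (R ⧸ p.asIdeal) = ⊤ := by
          rw [eq_top_iff]
          rintro x -
          obtain ⟨x, rfl⟩ := Ideal.Quotient.mk_surjective x
          show g • (Ideal.Quotient.mk p.asIdeal x) = 0
          rw [Algebra.smul_def, Ideal.Quotient.algebraMap_eq, ← map_mul,
            Ideal.Quotient.eq_zero_iff_mem]
          exact p.asIdeal.mul_mem_right _ hgp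
        rw [h1, h2, Module.length_top]
      · have h1 : (p.asIdeal ⊔ Ideal.span {g} : Ideal R) = ⊤ := by
          refine hp.1.2 _ (lt_of_le_of_ne le_sup_left fun h => hgp ?_)
          rw [h]
          exact Ideal.mem_sup_right (Ideal.mem_span_singleton_self g)
        rw [h1, htor0 p hgp, Module.length_eq_zero]
    · have hpmin : p.asIdeal ∈ minimalPrimes R :=
        (Ring.krullDimLE_one_iff.1 ‹_› _ p.2).resolve_right hp
      have hgp : g ∉ p.asIdeal := hg ⟨p, hpmin, hp⟩
      rw [hN, hT, htor0 p hgp, zero_add, finsum_eq_single _ (⟨p, hpmin, hp⟩ : NMin R)]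
      · rw [locLen_congr _ e, locLen_quot_self, one_mul]
      · intro q hq
        rw [locLen_congr _ e, locLen_quot_eq_zero, zero_mul]
        intro hle
        apply hq
        have : q.1.asIdeal = p.asIdeal := le_antisymm (q.2.1.2 ⟨p.2, bot_le⟩ hle) hle
        exact Subtype.ext (PrimeSpectrum.ext this)
  · intro N₁ _ _ _ N₂ _ _ _ N₃ _ _ _ f p hf hp hfp h₁ h₃
    have key := length_tor_quot f p hf hp hfp g
    have hsum : ∑ᶠ q : NMin R, locLen q.1.asIdeal N₂ *
          length R (R ⧸ (q.1.asIdeal ⊔ Ideal.span {g})) =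
        (∑ᶠ q : NMin R, locLen q.1.asIdeal N₁ * length R (R ⧸ (q.1.asIdeal ⊔ Ideal.span {g}))) +
        ∑ᶠ q : NMin R, locLen q.1.asIdeal N₃ * length R (R ⧸ (q.1.asIdeal ⊔ Ideal.span {g})) := by
      rw [← finsum_add_distrib (Set.toFinite _) (Set.toFinite _)]
      refine finsum_congr fun q => ?_
      rw [locLen_exact q.1.asIdeal f p hf hp hfp, add_mul]
    rw [h₁, h₃] at key
    rw [hsum]
    have hA := length_tor_ne_top g hg N₁
    have hB := length_tor_ne_top g hg N₃
    have hAB : length R (tor g N₁) + length R (tor g N₃) ≠ ⊤ := fun h => by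
      rcases ENat.add_eq_top.1 h with h | h
      exacts [hA h, hB h]
    refine ENat.add_right_injective_of_ne_top hAB ?_
    refine Eq.trans key ?_
    ring

end Main

section SelfVersion

variable {R : Type u} [CommRing R] [IsNoetherianRing R] [Ring.KrullDimLE 1 R]

omit [IsNoetherianRing R] [Ring.KrullDimLE 1 R] in
theorem length_img_eq_ord (g : R) : length R (R ⧸ img g R) = Ring.ord R g := by
  unfold Ring.ord
  refine (Submodule.quotEquivOfEq _ _ ?_).length_eq
  ext x
  rw [Ideal.mem_span_singleton']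
  constructor
  · rintro ⟨y, rfl⟩
    exact ⟨y, by simp [mul_comm]⟩
  · rintro ⟨y, rfl⟩
    exact ⟨y, by simp [mul_comm]⟩

omit [IsNoetherianRing R] [Ring.KrullDimLE 1 R] in
theorem length_quot_sup_eq_ord (q : Ideal R) (g : R) :
    length R (R ⧸ (q ⊔ Ideal.span {g})) = Ring.ord (R ⧸ q) (Ideal.Quotient.mk q g) := by
  unfold Ring.ord
  rw [← Module.length_eq_of_surjective (S := R) (R := R ⧸ q) Ideal.Quotient.mk_surjective]
  have h : (Ideal.span {g}).map (Ideal.Quotient.mk q) = Ideal.span {Ideal.Quotient.mk q g} := by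
    rw [Ideal.map_span, Set.image_singleton]
  rw [← h]
  exact (DoubleQuot.quotQuotEquivQuotSupₐ R q (Ideal.span {g})).toLinearEquiv.length_eq.symm

/-- the version of `length_quot_eq` for `M = R` and `g` a nonzerodivisor. -/
theorem ord_eq_finsum (g : R) (hg : g ∈ nonZeroDivisors R) :
    Ring.ord R g =
      ∑ᶠ q : NMin R, locLen q.1.asIdeal R * Ring.ord (R ⧸ q.1.asIdeal) (Ideal.Quotient.mk _ g) := by
  have hg' : ∀ q : NMin R, g ∉ q.1.asIdeal := fun q h => by
    have := q.1.2
    exact (Set.disjoint_left.1 (Ideal.disjoint_nonZeroDivisors_of_mem_minimalPrimes q.2.1)) h hg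
  have h0 : length R (tor g R) = 0 := by
    rw [Module.length_eq_zero_iff]
    refine ⟨fun x y => ?_⟩
    have key : ∀ z : tor g R, z = 0 := by
      rintro ⟨z, hz⟩
      have hz' : g * z = 0 := hz
      exact Subtype.ext ((mul_left_mem_nonZeroDivisors_eq_zero_iff hg).1 hz')
    rw [key x, key y]
  rw [← length_img_eq_ord, length_quot_eq g hg' R, h0, zero_add]
  refine finsum_congr fun q => ?_
  rw [length_quot_sup_eq_ord]

end SelfVersion

end Groth.Agent.CycB.LenSum
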