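import Groth.Agent.CycB.DivFun
import Groth.Agent.CycB.LenSum
import Groth.Agent.CycB.DivNat
import Groth.Agent.CycB.C1Basic
import Mathlib.Data.ENat.BigOperators

set_option autoImplicit false
universe u

open AlgebraicGeometry CategoryTheory TopologicalSpace

namespace Groth.Agent.CycB.LenPt

open Groth.Agent.CycB.LenSum Groth.Agent.CycB.LocQuot

section Algebra

variable {R : Type u} [CommRing R]

theorem krullDimLE_quot (q : Ideal R) [Ring.KrullDimLE 1 R] : Ring.KrullDimLE 1 (R ⧸ q) := by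
  have h : ringKrullDim (R ⧸ q) ≤ 1 :=
    (ringKrullDim_quotient_le q).trans (Order.KrullDimLE.krullDim_le)
  exact (Order.krullDimLE_iff _ _).mpr h

/-- `ℤ`-valued version of `LenSum.ord_eq_finsum`. -/
theorem ord_toNat_eq_finsum [IsNoetherianRing R] [Ring.KrullDimLE 1 R]
    (g : R) (hg : g ∈ nonZeroDivisors R) :
    ((Ring.ord R g).toNat : ℤ) =
      ∑ᶠ q : NMin R, ((locLen q.1.asIdeal R).toNat : ℤ) *
        ((Ring.ord (R ⧸ q.1.asIdeal) (Ideal.Quotient.mk _ g)).toNat : ℤ) := by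
  have hg' : ∀ q : NMin R, g ∉ q.1.asIdeal := fun q h => by
    have := q.1.2
    exact (Set.disjoint_left.1 (Ideal.disjoint_nonZeroDivisors_of_mem_minimalPrimes q.2.1)) h hg
  have h1 : ∀ q : NMin R, locLen q.1.asIdeal R ≠ ⊤ := fun q => locLen_ne_top _ q.2.1 _
  have h2 : ∀ q : NMin R, Ring.ord (R ⧸ q.1.asIdeal) (Ideal.Quotient.mk _ g) ≠ ⊤ := fun q => by
    have := q.1.2
    have := krullDimLE_quot q.1.asIdeal
    apply Ring.ord_ne_top
    rw [mem_nonZeroDivisors_iff_ne_zero]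
    intro h
    exact hg' q (Ideal.Quotient.eq_zero_iff_mem.mp h)
  rw [ord_eq_finsum g hg]
  have := Fintype.ofFinite (NMin R)
  rw [finsum_eq_sum_of_fintype, finsum_eq_sum_of_fintype]
  have h3 : ∀ q ∈ (Finset.univ : Finset (NMin R)), locLen q.1.asIdeal R *
      Ring.ord (R ⧸ q.1.asIdeal) (Ideal.Quotient.mk _ g) ≠ ⊤ := fun q _ =>
    WithTop.mul_ne_top (h1 q) (h2 q)
  rw [ENat.toNat_sum h3]
  push_cast
  refine Finset.sum_congr rfl fun q _ => ?_
  rw [ENat.toNat_mul]
  push_cast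
  rfl

theorem locLen_self (q : Ideal R) [q.IsPrime] (B : Type u) [CommRing B] [Algebra R B]
    [IsLocalization.AtPrime B q] : locLen q R = Module.length B B := by
  let e : LocalizedModule q.primeCompl R ≃ₗ[R] B :=
    IsLocalizedModule.linearEquiv q.primeCompl (LocalizedModule.mkLinearMap q.primeCompl R)
      (Algebra.linearMap R B)
  let σ : Localization.AtPrime q ≃ₐ[R] B := IsLocalization.algEquiv q.primeCompl _ _
  unfold locLen
  refine Groth.Agent.CycB.DivNat.length_eq_of_semilinear (σ : Localization.AtPrime q →+* B)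
    σ.surjective { toFun := e, map_add' := map_add e, map_smul' := ?_ } e.bijective
  intro a m
  obtain ⟨r, s, rfl⟩ := IsLocalization.exists_mk'_eq q.primeCompl a
  have hs : IsUnit (algebraMap R B s) := IsLocalization.map_units B s
  have e0 : algebraMap R (Localization.AtPrime q) s *
      IsLocalization.mk' (Localization.AtPrime q) r s = algebraMap R _ r :=
    IsLocalization.mk'_spec' _ r s
  apply hs.mul_left_cancel
  have e1 : algebraMap R B s * e (IsLocalization.mk' (Localization.AtPrime q) r s • m) =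
      r • e m := by
    rw [← Algebra.smul_def, ← map_smul e, ← algebraMap_smul (Localization.AtPrime q) (s : R),
      smul_smul, e0, algebraMap_smul, map_smul]
  have e2 : algebraMap R B s * (σ (IsLocalization.mk' (Localization.AtPrime q) r s) * e m) =
      r • e m := by
    rw [← mul_assoc, ← AlgEquiv.commutes σ, ← map_mul, e0, AlgEquiv.commutes, Algebra.smul_def]
  exact e1.trans e2.symm

end Algebra

/-! ### geometric version -/

variable {X : Scheme.{u}} {δ : X → ℤ}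

theorem krullDimLE_stalk (hδ : Cyc.IsDimFun X δ) (x : X) (h : ∀ z : X, z ⤳ x → δ z ≤ δ x + 1) :
    Ring.KrullDimLE 1 (X.presheaf.stalk x) := by
  refine (Order.krullDimLE_iff _ _).mpr ?_
  refine iSup_le fun p => ?_
  have h1 := length_le_of_lTSeries hδ (ptOf_specializes p.head) p (by rw [primeOf_ptOf])
  have h2 := h _ (ptOf_specializes p.head)
  have h3 : p.length ≤ 1 := by omega
  exact_mod_cast h3

theorem ord_quot_congr {R : Type u} [CommRing R] {I J : Ideal R} (h : I = J) (g : R) :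
    Ring.ord (R ⧸ I) (Ideal.Quotient.mk I g) = Ring.ord (R ⧸ J) (Ideal.Quotient.mk J g) := by
  subst h; rfl

theorem locLen_ptOf {x ξ : X} (h : ξ ⤳ x) (q : PrimeSpectrum (X.presheaf.stalk x))
    (hq : primeOf h = q) : locLen q.asIdeal (X.presheaf.stalk x) =
      Module.length (X.presheaf.stalk ξ) (X.presheaf.stalk ξ) := by
  subst hq
  have h1 := isLocalization_stalkSpecializes h
  let := (X.presheaf.stalkSpecializes h).hom.toAlgebra
  have h2 : IsLocalization.AtPrime (X.presheaf.stalk ξ) (primeOf h).asIdeal := by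
    have h3 := primeOf_asIdeal h
    convert h1 using 1
  exact locLen_self (primeOf h).asIdeal (X.presheaf.stalk ξ)

theorem ord_ptOf [IsLocallyNoetherian X] (hδ : Cyc.IsDimFun X δ) {x ξ : X} (h : ξ ⤳ x)
    (hd : δ x + 1 = δ ξ) (q : PrimeSpectrum (X.presheaf.stalk x))
    (hq : primeOf h = q) (g : X.presheaf.stalk x) (hg : g ∉ q.asIdeal) :
    ((Ring.ord (X.presheaf.stalk x ⧸ q.asIdeal) (Ideal.Quotient.mk _ g)).toNat : ℤ) =
      Cyc.ordAt x ξ h (Cyc.specMap x ξ h g) := by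
  subst hq
  have h1 := krullDimLE_one_locQuot hδ h hd
  have hg' : (Ideal.Quotient.mk (RingHom.ker (Cyc.specMap x ξ h)) g) ≠ 0 := by
    intro h0
    rw [Ideal.Quotient.eq_zero_iff_mem, ← primeOf_asIdeal] at h0
    exact hg h0
  have h4 : Ring.ord (X.presheaf.stalk x ⧸ (primeOf h).asIdeal) (Ideal.Quotient.mk _ g) =
      Ring.ord (X.presheaf.stalk x ⧸ RingHom.ker (Cyc.specMap x ξ h)) (Ideal.Quotient.mk _ g) :=
    ord_quot_congr (primeOf_asIdeal h) g
  have h5 : Cyc.ordAt x ξ h (algebraMap (Cyc.LocQuot x ξ h) (X.residueField ξ)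
      (Ideal.Quotient.mk (RingHom.ker (Cyc.specMap x ξ h)) g)) =
      ((Ring.ord (Cyc.LocQuot x ξ h) (Ideal.Quotient.mk (RingHom.ker (Cyc.specMap x ξ h)) g)).toNat
        : ℤ) :=
    Groth.Agent.CycB.C1Basic.ordFrac_algebraMap _ _ hg'
  rw [h4, ← Groth.Agent.CycB.C1Basic.algebraMap_locQuot_mk h g, h5]

theorem mem_nmin_iff (hδ : Cyc.IsDimFun X δ) (x : X) (h : ∀ z : X, z ⤳ x → δ z ≤ δ x + 1)
    {ξ : X} (hξ : ξ ⤳ x) :
    ((primeOf hξ).asIdeal ∈ minimalPrimes (X.presheaf.stalk x) ∧ ¬ (primeOf hξ).asIdeal.IsMaximal) ↔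
      δ x + 1 = δ ξ := by
  constructor
  · rintro ⟨-, hm⟩
    have hne : ξ ≠ x := by
      rintro rfl
      apply hm
      rw [primeOf_refl]
      exact IsLocalRing.maximalIdeal.isMaximal _
    have h1 := lt_of_specializes hδ hξ hne
    have h2 := h _ hξ
    omega
  · intro hd
    refine ⟨⟨⟨(primeOf hξ).2, bot_le⟩, fun Q hQ hle => ?_⟩, fun hm => ?_⟩
    · have h4 : (⟨Q, hQ.1⟩ : PrimeSpectrum _) ≤ primeOf hξ := hle
      rw [← primeOf_ptOf ⟨Q, hQ.1⟩, primeOf_le_iff] at h4
      have h5 := h _ (ptOf_specializes ⟨Q, hQ.1⟩)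
      have h6 : ptOf ⟨Q, hQ.1⟩ = ξ := by
        by_contra hne
        have := lt_of_specializes hδ h4 hne
        omega
      have h7 : primeOf hξ = ⟨Q, hQ.1⟩ := by
        rw [← primeOf_ptOf ⟨Q, hQ.1⟩, primeOf_inj]
        exact h6.symm
      rw [h7]
    · have h7 : primeOf hξ = IsLocalRing.closedPoint (X.presheaf.stalk x) :=
        PrimeSpectrum.ext (IsLocalRing.eq_maximalIdeal hm)
      rw [← primeOf_refl, primeOf_inj] at h7
      rw [h7] at hd
      omega

open Classical in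
/-- Length formula at a point where `X` is of dimension at most one. -/
theorem ord_toNat_eq_finsum_pt [IsLocallyNoetherian X] (hδ : Cyc.IsDimFun X δ) (x : X)
    (h : ∀ z : X, z ⤳ x → δ z ≤ δ x + 1) (g : X.presheaf.stalk x)
    (hg : g ∈ nonZeroDivisors (X.presheaf.stalk x)) :
    ((Ring.ord (X.presheaf.stalk x) g).toNat : ℤ) =
      ∑ᶠ ξ : X, if hξ : ξ ⤳ x ∧ δ x + 1 = δ ξ then
        ((Module.length (X.presheaf.stalk ξ) (X.presheaf.stalk ξ)).toNat : ℤ) *
          Cyc.ordAt x ξ hξ.1 (Cyc.specMap x ξ hξ.1 g) else 0 := by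
  have := krullDimLE_stalk hδ x h
  rw [ord_toNat_eq_finsum g hg]
  let e : NMin (X.presheaf.stalk x) → X := fun q => ptOf q.1
  have he : Function.Injective e := (ptOf_injective x).comp Subtype.val_injective
  let F : X → ℤ := fun ξ => if hξ : ξ ⤳ x ∧ δ x + 1 = δ ξ then
        ((Module.length (X.presheaf.stalk ξ) (X.presheaf.stalk ξ)).toNat : ℤ) *
          Cyc.ordAt x ξ hξ.1 (Cyc.specMap x ξ hξ.1 g) else 0
  have hF : ∀ q : NMin (X.presheaf.stalk x), ((locLen q.1.asIdeal (X.presheaf.stalk x)).toNat : ℤ) *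
        ((Ring.ord (X.presheaf.stalk x ⧸ q.1.asIdeal) (Ideal.Quotient.mk _ g)).toNat : ℤ) =
        F (e q) := by
    intro q
    have hsp : e q ⤳ x := ptOf_specializes q.1
    have hpq : primeOf hsp = q.1 := primeOf_ptOf q.1
    have hd : δ x + 1 = δ (e q) := (mem_nmin_iff hδ x h hsp).1 (by rw [hpq]; exact q.2)
    have hgq : g ∉ q.1.asIdeal := fun h0 =>
      (Set.disjoint_left.1 (Ideal.disjoint_nonZeroDivisors_of_mem_minimalPrimes q.2.1)) h0 hg
    simp only [F]
    rw [dif_pos ⟨hsp, hd⟩, locLen_ptOf hsp q.1 hpq, ord_ptOf hδ hsp hd q.1 hpq g hgq]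
  have h1 : ∑ᶠ q : NMin (X.presheaf.stalk x), F (e q) = ∑ᶠ ξ ∈ Set.range e, F ξ :=
    (finsum_mem_range he).symm
  have h2 : ∑ᶠ ξ ∈ Set.range e, F ξ = ∑ᶠ ξ ∈ (Set.univ : Set X), F ξ := by
    refine finsum_mem_inter_support_eq' _ _ _ fun ξ hξ => ⟨fun _ => trivial, fun _ => ?_⟩
    have hξ' : ξ ⤳ x ∧ δ x + 1 = δ ξ := by
      by_contra hcon
      exact hξ (dif_neg hcon)
    exact ⟨⟨primeOf hξ'.1, (mem_nmin_iff hδ x h hξ'.1).2 hξ'.2⟩, ptOf_primeOf _⟩
  rw [finsum_congr hF, h1, h2, finsum_mem_univ]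

end Groth.Agent.CycB.LenPt
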