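import Groth.Agent.CycB.PidRT
import Groth.Agent.CycB.FlatRat
import Groth.Agent.CycB.FiberStalk

/-!
# Flat morphisms with integral fibres, and lines over a base
-/

set_option autoImplicit false
universe u v

open AlgebraicGeometry CategoryTheory TopologicalSpace

namespace Groth.Agent.CycB.LineRT

open FinRat LocQuot FlatDiv FlatRat DivFun

/-! ### integral fibres -/

section IntFib

variable {X Z : Scheme.{u}} (p : X ⟶ Z)

/-- the generic point of the fibre over `z` -/
noncomputable def fg (z : Z) [IsIntegral (p.fiber z)] : X := p.fiberι z (genericPoint _)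

theorem fiberι_apply (z : Z) (x : p.fiber z) : p (p.fiberι z x) = z := by
  have : p.fiberι z x ∈ Set.range (p.fiberι z) := ⟨x, rfl⟩
  rw [Scheme.Hom.range_fiberι] at this
  exact this

theorem exists_fiberι {z : Z} {x : X} (h : p x = z) : ∃ x₀ : p.fiber z, p.fiberι z x₀ = x := by
  have : x ∈ p ⁻¹' {z} := h
  rw [← Scheme.Hom.range_fiberι] at this
  exact this

variable [∀ z, IsIntegral (p.fiber z)]

theorem map_fg (z : Z) : p (fg p z) = z := fiberι_apply p z _

theorem fg_specializes {z : Z} {x : X} (h : p x = z) : fg p z ⤳ x := by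
  obtain ⟨x, rfl⟩ := exists_fiberι p h
  exact (genericPoint_specializes x).map (p.fiberι z).continuous

theorem fibGen_fg (z : Z) : FibGen p (fg p z) := by
  intro y hy hys
  rw [map_fg] at hy
  exact (hys.antisymm (fg_specializes p hy)).eq

theorem eq_fg_of_fibGen {x : X} (h : FibGen p x) : x = fg p (p x) :=
  (h _ (map_fg p _) (fg_specializes p rfl)).symm

theorem eq_fg_of_fibGen' {x : X} (h : FibGen p x) {z : Z} (hz : p x = z) : x = fg p z := by
  subst hz; exact eq_fg_of_fibGen p h

theorem mult_fg (z : Z) : mult p (fg p z) = 1 := by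
  have h1 : mult p (fg p z) = Module.length ((p.fiber z).presheaf.stalk (genericPoint _))
      ((p.fiber z).presheaf.stalk (genericPoint _)) :=
    FiberStalk.length_stalk_fiber' p z (genericPoint _) (fg p z) rfl
  rw [h1]
  have hF : IsField ((p.fiber z).presheaf.stalk (genericPoint _)) :=
    Field.toIsField ((p.fiber z).functionField)
  have : IsSimpleModule ((p.fiber z).presheaf.stalk (genericPoint _))
      ((p.fiber z).presheaf.stalk (genericPoint _)) := by
    let := hF.toField
    infer_instance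
  exact Module.length_eq_one _ _

/-- the flat pullback as an additive map -/
noncomputable def pull (δ : X → ℤ) (δZ : Z → ℤ) (c : ℤ) : (Z → ℤ) →+ (X → ℤ) where
  toFun := Cyc.pullFun p δ δZ c
  map_zero' := by
    funext x; simp [Cyc.pullFun]
  map_add' a b := by
    funext x
    simp only [Cyc.pullFun, Pi.add_apply]
    split_ifs <;> ring

omit [∀ z, IsIntegral (p.fiber z)] in
theorem pull_apply (δ : X → ℤ) (δZ : Z → ℤ) (c : ℤ) (a : Z → ℤ) (x : X) :
    pull p δ δZ c a x = if δ x = δZ (p x) + c then a (p x) * ((mult p x).toNat : ℤ) else 0 := rfl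

variable {δ : X → ℤ} {δZ : Z → ℤ} {c : ℤ}

theorem pull_divFun [Flat p] [IsLocallyNoetherian X] [IsLocallyNoetherian Z]
    (hδ : Cyc.IsDimFun Z δZ) (hδ' : Cyc.IsDimFun X δ)
    (hc : ∀ x : X, FibGen p x → δ x = δZ (p x) + c) (ζ : Z) (h : Z.residueField ζ)
    (hh : h ≠ 0) :
    pull p δ δZ c (Cyc.divFun δZ ζ h) = Cyc.divFun δ (fg p ζ) (pullRes p (map_fg p ζ) h) := by
  funext x
  change Cyc.pullFun p δ δZ c (Cyc.divFun δZ ζ h) x = _
  rw [pullFun_divFun p c hδ hδ' hc ζ h hh x]
  rw [finsum_eq_single _ (⟨fg p ζ, map_fg p ζ, fibGen_fg p ζ⟩ : AllGenPts p ζ)]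
  · simp only [mult_fg]
    simp
  · intro ξ' hξ'
    exact absurd (Subtype.ext (eq_fg_of_fibGen' p ξ'.2.2 ξ'.2.1)) hξ'

theorem pull_mem_finRat [Flat p] [IsLocallyNoetherian X] [IsLocallyNoetherian Z]
    (hδ : Cyc.IsDimFun Z δZ) (hδ' : Cyc.IsDimFun X δ)
    (hc : ∀ x : X, FibGen p x → δ x = δZ (p x) + c) {k : ℤ} {a : Z → ℤ} (ha : a ∈ finRat δZ k) :
    pull p δ δZ c a ∈ finRat δ (k + c) := by
  induction ha using AddSubgroup.closure_induction with
  | mem a ha =>
    obtain ⟨ζ, h, h1, h2, rfl⟩ := ha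
    rw [pull_divFun p hδ hδ' hc ζ h h2]
    refine divFun_mem δ ?_ ((map_ne_zero _).2 h2)
    rw [hc _ (fibGen_fg p ζ), map_fg, h1]
    ring
  | zero => rw [map_zero]; exact AddSubgroup.zero_mem _
  | add a b _ _ ha hb => rw [map_add]; exact AddSubgroup.add_mem _ ha hb
  | neg a _ ha => rw [map_neg]; exact AddSubgroup.neg_mem _ ha

theorem pull_pt [Flat p] (hδ' : Cyc.IsDimFun X δ)
    (hc : ∀ x : X, FibGen p x → δ x = δZ (p x) + c) (z : Z) :
    pull p δ δZ c (pt z) = pt (fg p z) := by
  funext x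
  rw [pull_apply]
  by_cases hx : x = fg p z
  · rw [hx, if_pos (hc _ (fibGen_fg p z)), map_fg, mult_fg]
    simp
  · rw [pt_of_ne hx]
    split_ifs with h
    · by_cases hz : p x = z
      · exact absurd (eq_fg_of_fibGen' p (fibGen_of_eq p c hδ' hc h) hz) hx
      · rw [pt_of_ne hz, zero_mul]
    · rfl

end IntFib

/-! ### lines over a base -/

section Line

/-- dimension one integral: proper generizations of a point are generic. -/
def DimOne (F : Scheme.{u}) : Prop :=
  ∀ a b : F, a ⤳ b → a ≠ b → ∀ c : F, a ⤳ c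

theorem DimOne.of_iso {F F' : Scheme.{u}} (e : F ≅ F') (h : DimOne F') : DimOne F := by
  intro a b hab hne c
  have := h (e.hom a) (e.hom b) (hab.map e.hom.continuous)
    (fun h' => hne (e.hom.isEmbedding.injective h')) (e.hom c)
  exact (DivNat.specializes_iff e.hom c a).1 this

theorem dimOne_Spec (R : CommRingCat.{u}) [IsDomain R] [IsPrincipalIdealRing R] :
    DimOne (Spec R) := by
  intro a b hab hne c
  have h1 : a.asIdeal ≤ b.asIdeal := (PrimeSpectrum.le_iff_specializes (x := a) (y := b)).2 hab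
  have h2 : a.asIdeal = ⊥ := by
    by_contra h
    have h3 : a.asIdeal.IsMaximal := Ring.DimensionLEOne.maximalOfPrime h a.isPrime
    exact hne (PrimeSpectrum.ext (h3.eq_of_le b.isPrime.ne_top h1))
  refine (PrimeSpectrum.le_iff_specializes (x := a) (y := c)).1 ?_
  show a.asIdeal ≤ c.asIdeal
  rw [h2]; exact bot_le

theorem finite_support_of_mem {X : Scheme.{u}} [CompactSpace X] [IsLocallyNoetherian X] {δ : X → ℤ}
    (hδ : Cyc.IsDimFun X δ) {k : ℤ} {c : X → ℤ} (hc : c ∈ finRat δ k) :
    (Function.support c).Finite := by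
  obtain ⟨ι, hι, ξ, g, h1, h2, h3⟩ := (mem_finRat_iff δ k c).1 hc
  obtain ⟨γ, hγ⟩ := exists_cycle_sum_divFun hδ (LocFin.of_finite ξ) g
  have h4 := (locFin_support γ).finite_of_isCompact (K := Set.univ) isCompact_univ
  have h5 : Function.support c ⊆ (fun x : {x // γ x ≠ 0} => x.1) ''
      {i : {x // γ x ≠ 0} | i.1 ∈ Set.univ} := by
    intro x hx
    have : γ x ≠ 0 := by rw [hγ, ← h3]; exact hx
    exact ⟨⟨x, this⟩, trivial, rfl⟩
  exact (h4.image _).subset h5

theorem exists_of_mem_ne_zero {X : Scheme.{u}} {δ : X → ℤ} {k : ℤ} {ι : Type v} {ξ : ι → X}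
    {g : (i : ι) → X.residueField (ξ i)} (h1 : ∀ i, δ (ξ i) = k + 1) {x : X}
    (hx : ∑ᶠ i, Cyc.divFun δ (ξ i) (g i) x ≠ 0) : δ x = k ∧ ∃ i, ξ i ⤳ x ∧ ξ i ≠ x := by
  obtain ⟨i, hi⟩ : ∃ i, Cyc.divFun δ (ξ i) (g i) x ≠ 0 := by
    by_contra h
    push Not at h
    exact hx (finsum_eq_zero_of_forall_eq_zero h)
  obtain ⟨h3, h4⟩ := divFun_ne_zero hi
  rw [h1] at h4
  refine ⟨by omega, i, h3, ?_⟩
  rintro rfl
  have := h1 i
  omega

variable {X Z : Scheme.{u}} (p : X ⟶ Z) [Flat p] [IsLocallyNoetherian X] [IsLocallyNoetherian Z]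

theorem RT_line [CompactSpace X] (s : Z ⟶ X) [IsClosedImmersion s] (hs : s ≫ p = 𝟙 Z)
    [∀ z, IsIntegral (p.fiber z)] (hdim : ∀ z, DimOne (p.fiber z))
    (hne : ∀ z, ∃ a b : p.fiber z, a ≠ b) (hfib : ∀ z, RT (p.fiber z)) (hZ : RT Z) : RT X := by
  classical
  intro δ hδ w hw
  have hps : ∀ z, p (s z) = z := fun z => by
    rw [← Scheme.Hom.comp_apply, hs]; rfl
  -- the dimension function on the base
  have hδZ : Cyc.IsDimFun Z (fun z => δ (s z)) := by
    refine isDimFun_comp s hδ fun x y z h1 h2 => ?_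
    exact h1.mem_closed s.isClosedEmbedding.isClosed_range ⟨x, rfl⟩
  -- points of the fibre other than the generic point
  have himm : ∀ x : X, x ≠ fg p (p x) → δ x + 1 = δ (fg p (p x)) := by
    intro x hx
    have h1 := fg_specializes p (z := p x) (x := x) rfl
    refine ((hδ _ _ h1 (Ne.symm hx)).2 fun z hz hz' => ?_).symm
    have hpz : p z = p x := by
      have h2 : p (fg p (p x)) ⤳ p z := hz.map p.continuous
      rw [map_fg] at h2
      exact ((hz'.map p.continuous).antisymm h2).eq
    by_cases h : z = x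
    · exact Or.inr h
    · left
      obtain ⟨z₀, hz₀⟩ := exists_fiberι p hpz
      obtain ⟨x₀, hx₀⟩ := exists_fiberι p (z := p x) (x := x) rfl
      obtain ⟨f₀, hf₀⟩ := exists_fiberι p (map_fg p (p x))
      have h3 : z₀ ⤳ x₀ := by
        rw [← DivNat.specializes_iff (p.fiberι (p x)), hz₀, hx₀]; exact hz'
      have h4 := hdim (p x) z₀ x₀ h3 (fun h' => h (hz₀.symm.trans ((congrArg _ h').trans hx₀))) f₀
      have h5 := h4.map (p.fiberι (p x)).continuous
      rw [hz₀, hf₀] at h5
      exact (h5.antisymm hz).eq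
  have hsfg : ∀ z, s z ≠ fg p z := by
    intro z h
    obtain ⟨a, b, hab⟩ := hne z
    have key : ∀ x₀ : p.fiber z, p.fiberι z x₀ = s z := by
      intro x₀
      have h1 : s z ⤳ p.fiberι z x₀ := by rw [h]; exact fg_specializes p (fiberι_apply p z x₀)
      obtain ⟨z', hz'⟩ := h1.mem_closed s.isClosedEmbedding.isClosed_range ⟨z, rfl⟩
      have h2 : z' = z := by
        rw [← hps z', hz', fiberι_apply]
      rw [← hz', h2]
    exact hab ((p.fiberι z).isEmbedding.injective ((key a).trans (key b).symm))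
  have hfgδ : ∀ z, δ (fg p z) = δ (s z) + 1 := by
    intro z
    have h1 := himm (s z) (by rw [hps]; exact hsfg z)
    rw [hps] at h1
    exact h1.symm
  have hnfg : ∀ x : X, x ≠ fg p (p x) → δ x = δ (s (p x)) := by
    intro x hx
    have h1 := himm x hx
    have h2 := hfgδ (p x)
    omega
  have hc : ∀ x : X, FibGen p x → δ x = δ (s (p x)) + 1 := by
    intro x hx
    have := eq_fg_of_fibGen p hx
    rw [this, map_fg]
    exact hfgδ _
  -- generic points of fibres over non generic points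
  have hgen : ∀ z : Z, (∃ z', z' ⤳ z ∧ z' ≠ z) → pt (fg p z) ∈ finRat δ (δ (fg p z)) := by
    intro z hz
    have h1 := pull_mem_finRat p hδZ hδ hc (hZ _ hδZ z hz)
    rw [pull_pt p hδ hc, ← hfgδ] at h1
    exact h1
  by_cases hwf : w = fg p (p w)
  · obtain ⟨w', hw', hw'ne⟩ := hw
    have h1 := hgen (p w) ⟨p w', hw'.map p.continuous, fun h => hw'ne ?_⟩
    · rw [← hwf] at h1; exact h1
    · have := fibGen_fg p (p w)
      rw [← hwf] at this
      exact this w' h hw'
  · obtain ⟨w₀, hw₀⟩ := exists_fiberι p (z := p w) (x := w) rfl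
    obtain ⟨f₀, hf₀⟩ := exists_fiberι p (map_fg p (p w))
    have hδF : Cyc.IsDimFun (p.fiber (p w)) (fun z => δ (p.fiberι (p w) z)) := by
      refine isDimFun_comp _ hδ fun x y z h1 h2 => ?_
      rw [Scheme.Hom.range_fiberι]
      have h3 : p (p.fiberι (p w) x) ⤳ p z := h1.map p.continuous
      have h4 : p z ⤳ p (p.fiberι (p w) y) := h2.map p.continuous
      rw [fiberι_apply] at h3 h4
      exact (h4.antisymm h3).eq
    have h1 := hfib (p w) _ hδF w₀ ⟨f₀, by
      rw [← DivNat.specializes_iff (p.fiberι (p w)), hf₀, hw₀]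
      exact fg_specializes p rfl, fun h => hwf (by rw [← hw₀, ← h, hf₀, map_fg])⟩
    obtain ⟨ι, hι, ξ, g, h2, h3, h4⟩ := exists_family_of_mem (p.fiberι (p w)) δ h1
    rw [hw₀] at h2
    let c : X → ℤ := fun x => ∑ᶠ j, Cyc.divFun δ (p.fiberι (p w) (ξ j)) (g j) x
    have hcmem : c ∈ finRat δ (δ w) := (mem_finRat_iff δ _ c).2
      ⟨ι, hι, fun j => p.fiberι (p w) (ξ j), g, h2, h3, fun x => rfl⟩
    have hfin := finite_support_of_mem hδ hcmem
    have hc1 : ∀ x, p x = p w → c x = pt w x := by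
      intro x hx
      obtain ⟨x₀, rfl⟩ := exists_fiberι p hx
      change ∑ᶠ j, Cyc.divFun δ (p.fiberι (p w) (ξ j)) (g j) (p.fiberι (p w) x₀) = _
      rw [h4]
      by_cases h : x₀ = w₀
      · rw [h, hw₀]; simp
      · rw [pt_of_ne h, pt_of_ne]
        exact fun h' => h ((p.fiberι (p w)).isEmbedding.injective (h'.trans hw₀.symm))
    have hcx : ∀ x, p x ≠ p w → c x ≠ 0 → pt x ∈ finRat δ (δ w) := by
      intro x hx hx0
      obtain ⟨h5, j, h6, -⟩ := exists_of_mem_ne_zero (ξ := fun j => p.fiberι (p w) (ξ j)) h2 hx0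
      have h7 : p w ⤳ p x := by
        have := h6.map p.continuous
        rwa [fiberι_apply] at this
      have h8 : δ (s (p x)) < δ (s (p w)) := lt_of_specializes hδZ h7 (Ne.symm hx)
      have h9 := hnfg w hwf
      have h10 : x = fg p (p x) := by
        by_contra h
        have := hnfg x h
        omega
      have h11 := hgen (p x) ⟨p w, h7, Ne.symm hx⟩
      rw [← h10, h5] at h11
      exact h11
    have hsum : pt w = c - ∑ x ∈ hfin.toFinset with p x ≠ p w, c x • pt x := by
      funext y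
      rw [Pi.sub_apply, Finset.sum_apply]
      by_cases hy : p y = p w
      · rw [hc1 y hy, Finset.sum_eq_zero, sub_zero]
        intro x hx
        rw [Finset.mem_filter] at hx
        rw [Pi.smul_apply, pt_of_ne, smul_zero]
        rintro rfl
        exact hx.2 hy
      · have h5 : pt w y = 0 := pt_of_ne (fun h => hy (by rw [h]))
        rw [h5]
        by_cases h0 : c y = 0
        · rw [h0, Finset.sum_eq_zero, sub_zero]
          intro x hx
          rw [Finset.mem_filter, Set.Finite.mem_toFinset] at hx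
          rw [Pi.smul_apply, pt_of_ne, smul_zero]
          rintro rfl
          exact hx.1 h0
        · rw [Finset.sum_eq_single y]
          · simp
          · intro x _ hxy
            rw [Pi.smul_apply, pt_of_ne hxy.symm, smul_zero]
          · intro hy'
            exact (hy' (Finset.mem_filter.2 ⟨(Set.Finite.mem_toFinset _).2 h0, hy⟩)).elim
    rw [hsum]
    refine AddSubgroup.sub_mem _ hcmem (AddSubgroup.sum_mem _ fun x hx => ?_)
    rw [Finset.mem_filter, Set.Finite.mem_toFinset] at hx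
    exact AddSubgroup.zsmul_mem _ (hcx x hx.2 hx.1) _

end Line

end Groth.Agent.CycB.LineRT
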