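import Groth.Agent.CycB.SpPush
import Groth.Prelude.Def_IntMult

/-!
# The projection formula for a flat proper morphism: reduction to a local statement
-/

set_option autoImplicit false
universe u

open AlgebraicGeometry CategoryTheory TopologicalSpace

namespace Groth.Agent.CycB.PFAssemble

open Classical in
/-- the intersection multiplicity with the incidence and dimension conditions built in -/
noncomputable def mm {X : Scheme.{u}} (δ : X → ℤ) (n : ℤ) (ξ η ζ : X) : ℤ :=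
  if ξ ⤳ ζ ∧ η ⤳ ζ ∧ δ ξ + δ η - n = δ ζ then
    IntMult.mult (IntMult.ptIdeal ξ) (IntMult.ptIdeal η) ζ else 0

theorem mm_eq {X : Scheme.{u}} {δ : X → ℤ} {n : ℤ} {ξ η ζ : X}
    (h : ξ ⤳ ζ ∧ η ⤳ ζ ∧ δ ξ + δ η - n = δ ζ) :
    mm δ n ξ η ζ = IntMult.mult (IntMult.ptIdeal ξ) (IntMult.ptIdeal η) ζ := if_pos h

theorem mm_ne_zero {X : Scheme.{u}} {δ : X → ℤ} {n : ℤ} {ξ η ζ : X} (h : mm δ n ξ η ζ ≠ 0) :
    ξ ⤳ ζ ∧ η ⤳ ζ ∧ δ ξ + δ η - n = δ ζ := by
  by_contra h'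
  exact h (if_neg h')

theorem interProd_apply {X : Scheme.{u}} (δ : X → ℤ) (n : ℤ) (α β : X → ℤ) (ζ : X) :
    IntMult.interProd δ n α β ζ = ∑ᶠ p : X × X, α p.1 * β p.2 * mm δ n p.1 p.2 ζ := by
  unfold IntMult.interProd
  refine (finsum_subtype_eq_finsum_cond (f := fun p : X × X => α p.1 * β p.2 *
    IntMult.mult (IntMult.ptIdeal p.1) (IntMult.ptIdeal p.2) ζ)
    (fun p => p.1 ⤳ ζ ∧ p.2 ⤳ ζ ∧ δ p.1 + δ p.2 - n = δ ζ)).trans ?_
  classical
  refine finsum_congr fun p => ?_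
  by_cases hp : p.1 ⤳ ζ ∧ p.2 ⤳ ζ ∧ δ p.1 + δ p.2 - n = δ ζ
  · rw [finsum_eq_if, if_pos hp, mm_eq hp]
  · rw [finsum_eq_if, if_neg hp, mm, if_neg hp, mul_zero]

theorem interProd_eq_sum {X : Scheme.{u}} (δ : X → ℤ) (n : ℤ) (α β : X → ℤ) (ζ : X)
    (S T : Finset X) (hS : ∀ ξ, α ξ ≠ 0 → ξ ⤳ ζ → ξ ∈ S) (hT : ∀ η, β η ≠ 0 → η ⤳ ζ → η ∈ T) :
    IntMult.interProd δ n α β ζ = ∑ ξ ∈ S, ∑ η ∈ T, α ξ * β η * mm δ n ξ η ζ := by
  rw [interProd_apply, ← Finset.sum_product']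
  refine finsum_eq_sum_of_support_subset _ ?_
  rintro ⟨ξ, η⟩ h
  have h1 := left_ne_zero_of_mul h
  have h2 := mm_ne_zero (right_ne_zero_of_mul h)
  rw [Finset.coe_product]
  exact ⟨hS ξ (left_ne_zero_of_mul h1) h2.1, hT η (right_ne_zero_of_mul h1) h2.2.1⟩

/-- coefficients of the flat pullback of the constant function one -/
noncomputable def LL {X Y : Scheme.{u}} (f : X ⟶ Y) (δX : X → ℤ) (δY : Y → ℤ) (e : ℤ) (x : X) : ℤ :=
  Cyc.pullFun f δX δY e (fun _ => 1) x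

theorem pullFun_eq {X Y : Scheme.{u}} (f : X ⟶ Y) (δX : X → ℤ) (δY : Y → ℤ) (e : ℤ) (β : Y → ℤ)
    (x : X) : Cyc.pullFun f δX δY e β x = β (f x) * LL f δX δY e x := by
  unfold LL Cyc.pullFun
  split_ifs
  · rw [one_mul]
  · rw [mul_zero]

theorem LL_ne_zero {X Y : Scheme.{u}} {f : X ⟶ Y} {δX : X → ℤ} {δY : Y → ℤ} {e : ℤ} {x : X}
    (h : LL f δX δY e x ≠ 0) : δX x = δY (f x) + e := by
  by_contra h'
  exact h (if_neg h')

/-- the local contribution -/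
noncomputable def G {X Y : Scheme.{u}} (f : X ⟶ Y) (δX : X → ℤ) (δY : Y → ℤ) (n e : ℤ) (ξ : X)
    (η : Y) (x : X) : ℤ :=
  ∑ᶠ η' ∈ {η' | f η' = η}, LL f δX δY e η' * mm δX n ξ η' x

theorem G_ne_zero {X Y : Scheme.{u}} {f : X ⟶ Y} {δX : X → ℤ} {δY : Y → ℤ} {n e : ℤ} {ξ : X}
    {η : Y} {x : X} (h : G f δX δY n e ξ η x ≠ 0) :
    ξ ⤳ x ∧ η ⤳ f x ∧ δX ξ + (δY η + e) - n = δX x := by
  obtain ⟨η', hη', h1⟩ := exists_ne_zero_of_finsum_mem_ne_zero h
  obtain rfl : f η' = η := hη'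
  have h2 := LL_ne_zero (left_ne_zero_of_mul h1)
  have h3 := mm_ne_zero (right_ne_zero_of_mul h1)
  refine ⟨h3.1, h3.2.1.map f.continuous, ?_⟩
  rw [← h3.2.2, h2]

theorem finite_gen_support {Y : Scheme.{u}} (β : AlgebraicCycle Y ℤ) (y : Y) :
    {η : Y | β η ≠ 0 ∧ η ⤳ y}.Finite := by
  obtain ⟨V, hV, hyV, -⟩ := exists_isAffineOpen_mem_and_subset (X := Y) (x := y) (U := ⊤) trivial
  refine (Push.finite_support_preimage (𝟙 Y) β V hV.isCompact).subset ?_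
  rintro η ⟨h1, h2⟩
  exact ⟨h2.mem_open V.2 hyV, h1⟩

theorem finite_push_support {X Y : Scheme.{u}} (f : X ⟶ Y) [QuasiCompact f]
    (α : AlgebraicCycle X ℤ) (y : Y) : {ξ : X | α ξ ≠ 0 ∧ f ξ ⤳ y}.Finite := by
  obtain ⟨V, hV, hyV, -⟩ := exists_isAffineOpen_mem_and_subset (X := Y) (x := y) (U := ⊤) trivial
  refine (Push.finite_support_preimage f α V hV.isCompact).subset ?_
  rintro η ⟨h1, h2⟩
  exact ⟨h2.mem_open V.2 hyV, h1⟩

/-- **Projection formula, reduction to the local statement.** -/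
theorem assembly {X Y : Scheme.{u}} (f : X ⟶ Y) [QuasiCompact f] (δX : X → ℤ) (δY : Y → ℤ)
    (n m e : ℤ) (he : e = n - m) (α : AlgebraicCycle X ℤ) (β : AlgebraicCycle Y ℤ)
    (β' : AlgebraicCycle X ℤ) (hβ' : ⇑β' = Cyc.pullFun f δX δY e ⇑β)
    (hloc : ∀ (ξ : X) (η y : Y), α ξ ≠ 0 → β η ≠ 0 → η ⤳ y → δX ξ + δY η - m = δY y →
      {x : X | f x = y ∧ ξ ⤳ x}.Finite ∧
      ∑ᶠ x ∈ {x : X | f x = y}, G f δX δY n e ξ η x * (AlgebraicCycle.mapCoeff f δX δY x : ℤ) =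
        (AlgebraicCycle.mapCoeff f δX δY ξ : ℤ) * mm δY m (f ξ) η y)
    (γ : AlgebraicCycle X ℤ) (hγ : ⇑γ = IntMult.interProd δX n ⇑α ⇑β') :
    IntMult.interProd δY m ⇑(AlgebraicCycle.map f δX δY α) ⇑β =
      ⇑(AlgebraicCycle.map f δX δY γ) := by
  classical
  funext y
  have hS1 := finite_push_support f α y
  have hS2 := finite_gen_support β y
  -- LHS
  have hL : IntMult.interProd δY m ⇑(AlgebraicCycle.map f δX δY α) ⇑β y =
      ∑ ξ ∈ hS1.toFinset, ∑ η ∈ hS2.toFinset, α ξ * β η *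
        ((AlgebraicCycle.mapCoeff f δX δY ξ : ℤ) * mm δY m (f ξ) η y) := by
    have h1 : ∀ ω : Y, (AlgebraicCycle.map f δX δY α) ω ≠ 0 → ω ⤳ y →
        ω ∈ hS1.toFinset.image f := by
      intro ω h h'
      rw [Push.map_apply] at h
      obtain ⟨ξ, (hξ : f ξ = ω), h2⟩ := exists_ne_zero_of_finsum_mem_ne_zero h
      exact Finset.mem_image.2 ⟨ξ, hS1.mem_toFinset.2 ⟨left_ne_zero_of_mul h2, hξ ▸ h'⟩, hξ⟩
    rw [interProd_eq_sum δY m _ _ y (hS1.toFinset.image f) hS2.toFinset h1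
      (fun η h h' => hS2.mem_toFinset.2 ⟨h, h'⟩)]
    have h2 : ∀ ω : Y, ∑ η ∈ hS2.toFinset, (AlgebraicCycle.map f δX δY α) ω * β η * mm δY m ω η y =
        (AlgebraicCycle.map f δX δY α) ω * ∑ η ∈ hS2.toFinset, β η * mm δY m ω η y := by
      intro ω
      rw [Finset.mul_sum]
      exact Finset.sum_congr rfl fun η _ => mul_assoc _ _ _
    have h3 : ∑ᶠ ω, (AlgebraicCycle.map f δX δY α) ω *
        ∑ η ∈ hS2.toFinset, β η * mm δY m ω η y =
        ∑ ω ∈ hS1.toFinset.image f, (AlgebraicCycle.map f δX δY α) ω *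
          ∑ η ∈ hS2.toFinset, β η * mm δY m ω η y := by
      refine finsum_eq_sum_of_support_subset _ ?_
      intro ω hω
      refine h1 ω (left_ne_zero_of_mul hω) ?_
      obtain ⟨η, -, h4⟩ := Finset.exists_ne_zero_of_sum_ne_zero (right_ne_zero_of_mul hω)
      exact (mm_ne_zero (right_ne_zero_of_mul h4)).1
    rw [Finset.sum_congr rfl (fun ω _ => h2 ω), ← h3]
    have h4 := SpPush.finsum_fiberwise f
      (fun ξ => α ξ * (AlgebraicCycle.mapCoeff f δX δY ξ : ℤ))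
      (fun ω => ∑ η ∈ hS2.toFinset, β η * mm δY m ω η y) hS1.toFinset (by
        intro ξ h5 h6
        obtain ⟨η, -, h7⟩ := Finset.exists_ne_zero_of_sum_ne_zero h6
        exact hS1.mem_toFinset.2 ⟨left_ne_zero_of_mul h5,
          (mm_ne_zero (right_ne_zero_of_mul h7)).1⟩)
    refine h4.trans (Finset.sum_congr rfl fun ξ _ => ?_)
    rw [Finset.mul_sum]
    exact Finset.sum_congr rfl fun η _ => by ring
  -- the coefficients of `γ`
  have hγx : ∀ x : X, f x = y → γ x = ∑ ξ ∈ hS1.toFinset, ∑ η ∈ hS2.toFinset,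
      α ξ * β η * G f δX δY n e ξ η x := by
    rintro x hx
    have hU := finite_gen_support β' x
    rw [hγ, interProd_eq_sum δX n _ _ x hS1.toFinset hU.toFinset
      (fun ξ h h' => hS1.mem_toFinset.2 ⟨h, hx ▸ h'.map f.continuous⟩)
      (fun η h h' => hU.mem_toFinset.2 ⟨h, h'⟩)]
    refine Finset.sum_congr rfl fun ξ hξ => ?_
    have h1 := SpPush.finsum_fiberwise f
      (fun η' => LL f δX δY e η' * mm δX n ξ η' x) ⇑β hU.toFinset (by
        intro η' h5 h6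
        refine hU.mem_toFinset.2 ⟨?_, (mm_ne_zero (right_ne_zero_of_mul h5)).2.1⟩
        rw [hβ', pullFun_eq]
        exact mul_ne_zero h6 (left_ne_zero_of_mul h5))
    have h2 : ∑ᶠ ω, (∑ᶠ η' ∈ {η' | f η' = ω}, LL f δX δY e η' * mm δX n ξ η' x) * β ω =
        ∑ η ∈ hS2.toFinset, G f δX δY n e ξ η x * β η := by
      refine finsum_eq_sum_of_support_subset _ ?_
      intro ω hω
      refine hS2.mem_toFinset.2 ⟨right_ne_zero_of_mul hω, ?_⟩
      have h3 := G_ne_zero (left_ne_zero_of_mul hω)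
      exact hx ▸ h3.2.1
    have h3 : ∑ η' ∈ hU.toFinset, α ξ * β' η' * mm δX n ξ η' x =
        α ξ * ∑ η' ∈ hU.toFinset, LL f δX δY e η' * mm δX n ξ η' x * β (f η') := by
      rw [Finset.mul_sum]
      refine Finset.sum_congr rfl fun η' _ => ?_
      rw [hβ', pullFun_eq]
      ring
    rw [h3, ← h1, h2, Finset.mul_sum]
    exact Finset.sum_congr rfl fun η _ => by ring
  -- RHS
  have hR : ∑ᶠ x ∈ {x : X | f x = y}, γ x * (AlgebraicCycle.mapCoeff f δX δY x : ℤ) =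
      ∑ᶠ x ∈ {x : X | f x = y}, (∑ ξ ∈ hS1.toFinset, ∑ η ∈ hS2.toFinset,
        α ξ * β η * G f δX δY n e ξ η x) * (AlgebraicCycle.mapCoeff f δX δY x : ℤ) :=
    finsum_mem_congr rfl (fun x hx => by rw [hγx x hx])
  rw [hL, Push.map_apply, hR]
  have hG0 : ∀ (ξ : X) (η : Y) (x : X), f x = y → δX ξ + δY η - m ≠ δY y →
      G f δX δY n e ξ η x * (AlgebraicCycle.mapCoeff f δX δY x : ℤ) = 0 := by
    intro ξ η x hx hne
    by_contra h
    have h1 := G_ne_zero (left_ne_zero_of_mul h)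
    have h2 : δX x = δY (f x) := by
      by_contra h2
      apply right_ne_zero_of_mul h
      rw [AlgebraicCycle.mapCoeff, if_neg h2, Nat.cast_zero]
    rw [hx] at h2
    omega
  have key := SpPush.finsum_swap {x : X | f x = y} (fun p : X × Y => α p.1 * β p.2)
    (fun p x => G f δX δY n e p.1 p.2 x * (AlgebraicCycle.mapCoeff f δX δY x : ℤ))
    (fun _ => 1) (hS1.toFinset ×ˢ hS2.toFinset) (by
      rintro ⟨ξ, η⟩ x (hx : f x = y) h1 h2
      have h3 := G_ne_zero (left_ne_zero_of_mul h2)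
      rw [Finset.mem_product]
      exact ⟨hS1.mem_toFinset.2 ⟨left_ne_zero_of_mul h1, hx ▸ h3.1.map f.continuous⟩,
        hS2.mem_toFinset.2 ⟨right_ne_zero_of_mul h1, hx ▸ h3.2.1⟩⟩) (by
      rintro ⟨ξ, η⟩ hp
      rw [Finset.mem_product] at hp
      have h1 := hS1.mem_toFinset.1 hp.1
      have h2 := hS2.mem_toFinset.1 hp.2
      by_cases hd : δX ξ + δY η - m = δY y
      · refine (hloc ξ η y h1.1 h2.1 h2.2 hd).1.subset ?_
        rintro x ⟨hx, hx'⟩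
        exact ⟨hx, (G_ne_zero (left_ne_zero_of_mul hx')).1⟩
      · convert Set.finite_empty
        ext x
        simp only [Set.mem_ofPred_eq, Set.mem_empty_iff_false, iff_false, not_and, not_not]
        exact fun hx => hG0 ξ η x hx hd)
  have hsum : ∀ x ∈ {x : X | f x = y}, (∑ᶠ p : X × Y, α p.1 * β p.2 *
      (G f δX δY n e p.1 p.2 x * (AlgebraicCycle.mapCoeff f δX δY x : ℤ))) * 1 =
      (∑ ξ ∈ hS1.toFinset, ∑ η ∈ hS2.toFinset, α ξ * β η * G f δX δY n e ξ η x) *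
        (AlgebraicCycle.mapCoeff f δX δY x : ℤ) := by
    intro x (hx : f x = y)
    rw [mul_one, finsum_eq_sum_of_support_subset (s := hS1.toFinset ×ˢ hS2.toFinset),
      Finset.sum_product, Finset.sum_mul]
    · refine Finset.sum_congr rfl fun ξ _ => ?_
      rw [Finset.sum_mul]
      exact Finset.sum_congr rfl fun η _ => by ring
    · rintro ⟨ξ, η⟩ h
      have h1 := left_ne_zero_of_mul h
      have h3 := G_ne_zero (left_ne_zero_of_mul (right_ne_zero_of_mul h))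
      rw [Finset.coe_product]
      exact ⟨hS1.mem_toFinset.2 ⟨left_ne_zero_of_mul h1, hx ▸ h3.1.map f.continuous⟩,
        hS2.mem_toFinset.2 ⟨right_ne_zero_of_mul h1, hx ▸ h3.2.1⟩⟩
  rw [finsum_mem_congr rfl hsum] at key
  rw [key, Finset.sum_product]
  refine Finset.sum_congr rfl fun ξ hξ => Finset.sum_congr rfl fun η hη => ?_
  have h1 := hS1.mem_toFinset.1 hξ
  have h2 := hS2.mem_toFinset.1 hη
  congr 1
  simp only [mul_one]
  by_cases hd : δX ξ + δY η - m = δY y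
  · exact (hloc ξ η y h1.1 h2.1 h2.2 hd).2.symm
  · rw [show (∑ᶠ x ∈ {x : X | f x = y}, G f δX δY n e ξ η x *
      (AlgebraicCycle.mapCoeff f δX δY x : ℤ)) = 0 from
      finsum_mem_of_eqOn_zero (fun x hx => hG0 ξ η x hx hd)]
    by_contra h
    have h3 := (mm_ne_zero (right_ne_zero_of_mul h)).2.2
    have h4 : δX ξ = δY (f ξ) := by
      by_contra h4
      apply left_ne_zero_of_mul h
      rw [AlgebraicCycle.mapCoeff, if_neg h4, Nat.cast_zero]
    omega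

end Groth.Agent.CycB.PFAssemble
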