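import Groth.Agent.CycB.PFAssemble
import Groth.Agent.CycA.PFFib
import Groth.Agent.CycB.GenLocFin

/-!
# The projection formula for a flat proper morphism from the local formula
-/

set_option autoImplicit false
universe u

open AlgebraicGeometry CategoryTheory TopologicalSpace

namespace Groth.Agent.CycB.PFFinal

open Groth.Agent.CycA.PFFib Groth.Agent.CycB.RelDim Groth.Agent.CycB.PFAssemble

variable {X Y : Scheme.{u}} {f : X ⟶ Y} {δX : X → ℤ} {δY : Y → ℤ}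

theorem fm_ne_zero [IsLocallyNoetherian X] {w' : X} (h : FibGeneric f w') : fm f w' ≠ 0 := by
  have h1 : FlatDiv.mult f w' ≠ ⊤ := FlatDiv.mult_ne_top f h
  have h2 : FlatDiv.mult f w' ≠ 0 := by
    have : Nontrivial (X.presheaf.stalk w' ⧸ FiberStalk.fibIdeal f w') := inferInstance
    rw [FlatDiv.mult, Ne, Module.length_eq_zero_iff, not_subsingleton_iff_nontrivial]
    exact this
  change ((FlatDiv.mult f w').toNat : ℤ) ≠ 0
  rw [Ne, Nat.cast_eq_zero, ENat.toNat_eq_zero]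
  exact fun h3 => h3.elim h2 h1

theorem LL_eq {e : ℤ} {x : X} (h : δX x = δY (f x) + e) : LL f δX δY e x = fm f x := by
  unfold LL Cyc.pullFun
  rw [if_pos h, one_mul]
  rfl

theorem le_of_intersectProperly [Flat f] [LocallyOfFiniteType f] [IsLocallyNoetherian X] {e : ℕ}
    (hrel : Cyc.HasRelDim f e) (hδ : Cyc.DeltaCompat f δX δY) {n m : ℤ} (he : (e : ℤ) = n - m)
    {α : X → ℤ} {β : Y → ℤ}
    (hprop : IntMult.IntersectProperly δX n α (Cyc.pullFun f δX δY e β)) {v z : X} {w : Y}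
    (hv : α v ≠ 0) (hw : β w ≠ 0) (hvz : v ⤳ z) (hwz : w ⤳ f z) :
    δX z ≤ δX v + δY w - m := by
  obtain ⟨w', h1, rfl, h3⟩ := exists_lift hrel hδ hwz
  have h4 := hprop v w' z hv (by
    rw [pullFun_eq, LL_eq h3]
    exact mul_ne_zero hw (fm_ne_zero ((fibGeneric_iff_delta hrel hδ w').2 h3))) hvz h1
  omega

theorem intersectProperly_map [Flat f] [IsProper f] [IsLocallyNoetherian X] {e : ℕ}
    (hrel : Cyc.HasRelDim f e) (hδ : Cyc.DeltaCompat f δX δY) {n m : ℤ} (he : (e : ℤ) = n - m)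
    {α : AlgebraicCycle X ℤ} {β : Y → ℤ}
    (hprop : IntMult.IntersectProperly δX n ⇑α (Cyc.pullFun f δX δY e β)) :
    IntMult.IntersectProperly δY m ⇑(AlgebraicCycle.map f δX δY α) β := by
  intro ω η ζ hω hη h1 h2
  rw [Push.map_apply] at hω
  obtain ⟨ξ, (hξ : f ξ = ω), h3⟩ := exists_ne_zero_of_finsum_mem_ne_zero hω
  subst hξ
  have h4 : δX ξ = δY (f ξ) := by
    by_contra h4
    apply right_ne_zero_of_mul h3
    rw [AlgebraicCycle.mapCoeff, if_neg h4, Nat.cast_zero]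
  obtain ⟨x, h5, rfl⟩ := f.isClosedMap.specializingMap h1
  have h6 := le_of_intersectProperly hrel hδ he hprop (left_ne_zero_of_mul h3) hη h5 h2
  obtain ⟨k, -, hk⟩ := hδ x
  omega

theorem final [Flat f] [IsProper f] (hX : Cyc.IsSetup X δX)
    (hδ : Cyc.DeltaCompat f δX δY) (n m : ℤ) (e : ℕ) (he : (e : ℤ) = n - m)
    (hrel : Cyc.HasRelDim f e)
    (hLF : ∀ {v : X} {w ζ : Y} (_ : f v ⤳ ζ) (_ : w ⤳ ζ)
      (_ : ∀ z, v ⤳ z → w ⤳ f z → δX z ≤ δX v + δY w - m) (_ : δY ζ = δX v + δY w - m),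
      δX v = δY (f v) ∧ {z : X | f z = ζ ∧ v ⤳ z}.Finite ∧
      (∀ z, f z = ζ → v ⤳ z → δX z = δY ζ) ∧
      (f.residueDegree v : ℤ) * IntMult.mult (IntMult.ptIdeal (f v)) (IntMult.ptIdeal w) ζ =
      ∑ᶠ z ∈ {z : X | f z = ζ ∧ v ⤳ z}, (f.residueDegree z : ℤ) *
        ∑ᶠ w' ∈ {w' : X | w' ⤳ z ∧ f w' = w ∧ δX w' = δY w + e},
          fm f w' * IntMult.mult (IntMult.ptIdeal v) (IntMult.ptIdeal w') z)
    (α : AlgebraicCycle X ℤ) (β : AlgebraicCycle Y ℤ)
    (hprop : IntMult.IntersectProperly δX n ⇑α (Cyc.pullFun f δX δY e ⇑β))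
    (γ : AlgebraicCycle X ℤ) (hγ : ⇑γ = IntMult.interProd δX n ⇑α (Cyc.pullFun f δX δY e ⇑β)) :
    IntMult.IntersectProperly δY m ⇑(AlgebraicCycle.map f δX δY α) ⇑β ∧
      IntMult.interProd δY m ⇑(AlgebraicCycle.map f δX δY α) ⇑β =
        ⇑(AlgebraicCycle.map f δX δY γ) := by
  have hnX := hX.1
  refine ⟨intersectProperly_map hrel hδ he hprop, ?_⟩
  obtain ⟨β', hβ'⟩ := GenLocFin.exists_pullFun_cycle (p := f) (e : ℤ) hX.2.2
    (fun x' hx' => (fibGeneric_iff_delta hrel hδ x').1 hx') β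
  rw [← hβ'] at hγ
  refine assembly f δX δY n m e he α β β' hβ' ?_ γ hγ
  intro ξ η y hξ hη hηy hd
  have hle : ∀ z, ξ ⤳ z → η ⤳ f z → δX z ≤ δX ξ + δY η - m := fun z h1 h2 =>
    le_of_intersectProperly hrel hδ he hprop hξ hη h1 h2
  by_cases hy : f ξ ⤳ y
  · obtain ⟨h1, h2, h3, h4⟩ := hLF hy hηy hle hd.symm
    refine ⟨h2, ?_⟩
    rw [AlgebraicCycle.mapCoeff, if_pos h1, mm_eq ⟨hy, hηy, by rw [← h1]; exact hd⟩, h4]
    have h5 : ∑ᶠ x ∈ {x : X | f x = y}, G f δX δY n e ξ η x *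
        (AlgebraicCycle.mapCoeff f δX δY x : ℤ) = ∑ᶠ x ∈ {x : X | f x = y ∧ ξ ⤳ x},
          G f δX δY n e ξ η x * (AlgebraicCycle.mapCoeff f δX δY x : ℤ) := by
      apply finsum_mem_inter_support_eq'
      intro x hx
      exact ⟨fun h => ⟨h, (G_ne_zero (left_ne_zero_of_mul hx)).1⟩, fun h => h.1⟩
    rw [h5]
    refine finsum_mem_congr rfl ?_
    rintro z ⟨hz, hz'⟩
    have h6 : δX z = δY (f z) := by rw [h3 z hz hz', hz]
    rw [AlgebraicCycle.mapCoeff, if_pos h6, mul_comm]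
    congr 1
    unfold G
    have h7 : ∑ᶠ w' ∈ {w' : X | f w' = η}, LL f δX δY e w' * mm δX n ξ w' z =
        ∑ᶠ w' ∈ {w' : X | w' ⤳ z ∧ f w' = η ∧ δX w' = δY η + e},
          LL f δX δY e w' * mm δX n ξ w' z := by
      apply finsum_mem_inter_support_eq'
      intro w' hw'
      constructor
      · rintro (h : f w' = η)
        refine ⟨(mm_ne_zero (right_ne_zero_of_mul hw')).2.1, h, ?_⟩
        rw [← h]
        exact LL_ne_zero (left_ne_zero_of_mul hw')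
      · exact fun h => h.2.1
    rw [h7]
    refine finsum_mem_congr rfl ?_
    rintro w' ⟨h8, rfl, h9⟩
    rw [LL_eq h9, mm_eq ⟨hz', h8, ?_⟩]
    rw [h6, h9, hz]
    omega
  · have h5 : {x : X | f x = y ∧ ξ ⤳ x} = ∅ := by
      ext x
      simp only [Set.mem_ofPred_eq, Set.mem_empty_iff_false, iff_false]
      rintro ⟨rfl, h⟩
      exact hy (h.map f.continuous)
    refine ⟨by rw [h5]; exact Set.finite_empty, ?_⟩
    rw [mm, if_neg (fun h => hy h.1), mul_zero]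
    refine finsum_mem_of_eqOn_zero ?_
    rintro x rfl
    by_contra h
    exact hy ((G_ne_zero (left_ne_zero_of_mul h)).1.map f.continuous)

end Groth.Agent.CycB.PFFinal
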