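import Groth.Agent.CycB.FinRat
import Groth.Agent.CycB.FlatAlg

/-!
# Non-generic points of the spectrum of a PID are rationally trivial
-/

set_option autoImplicit false
universe u v

open AlgebraicGeometry CategoryTheory TopologicalSpace

namespace Groth.Agent.CycB.PidRT

open FinRat LocQuot

theorem ord_eq_one {A : Type u} [CommRing A] [IsLocalRing A] {a : A}
    (h : Ideal.span {a} = IsLocalRing.maximalIdeal A) : Ring.ord A a = 1 := by
  unfold Ring.ord
  rw [h, Module.length_eq_one_iff, isSimpleModule_iff_quot_maximal]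
  exact ⟨_, inferInstance, ⟨LinearEquiv.refl _ _⟩⟩

/-- the map from `R` to the stalk of `Spec R` at `x` -/
noncomputable def toStalk (R : CommRingCat.{u}) (x : Spec R) : R →+* (Spec R).presheaf.stalk x :=
  ((Scheme.ΓSpecIso R).inv ≫ (Spec R).presheaf.germ ⊤ x trivial).hom

theorem isLocalization_toStalk (R : CommRingCat.{u}) (x : Spec R) :
    letI := (toStalk R x).toAlgebra
    IsLocalization.AtPrime ((Spec R).presheaf.stalk x) x.asIdeal :=
  StructureSheaf.IsLocalization.to_stalk (R := R) x

theorem isUnit_toStalk_iff (R : CommRingCat.{u}) (x : Spec R) (a : R) :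
    IsUnit (toStalk R x a) ↔ a ∉ x.asIdeal := by
  let := (toStalk R x).toAlgebra
  have := isLocalization_toStalk R x
  exact IsLocalization.AtPrime.isUnit_to_map_iff ((Spec R).presheaf.stalk x) x.asIdeal a

theorem map_toStalk (R : CommRingCat.{u}) (x : Spec R) :
    x.asIdeal.map (toStalk R x) = IsLocalRing.maximalIdeal ((Spec R).presheaf.stalk x) := by
  let := (toStalk R x).toAlgebra
  have := isLocalization_toStalk R x
  exact IsLocalization.AtPrime.map_eq_maximalIdeal x.asIdeal ((Spec R).presheaf.stalk x)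

theorem RT_Spec_PID (R : CommRingCat.{u}) [IsDomain R] [IsPrincipalIdealRing R] :
    RT (Spec R) := by
  intro δ hδ w hw
  obtain ⟨w', hw', hne⟩ := hw
  let ξ : Spec R := (⟨⊥, Ideal.isPrime_bot⟩ : PrimeSpectrum R)
  have hgen : ∀ x : Spec R, ξ ⤳ x := fun x =>
    (PrimeSpectrum.le_iff_specializes (x := ξ) (y := x)).1 (fun a ha => by
      rw [show a = 0 from ha]; exact Ideal.zero_mem _)
  have hbot : ∀ x : Spec R, x ≠ ξ → x.asIdeal ≠ ⊥ := fun x hx h =>
    hx (PrimeSpectrum.ext (by rw [h]))
  have hmax : ∀ x : Spec R, x ≠ ξ → x.asIdeal.IsMaximal := fun x hx =>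
    Ring.DimensionLEOne.maximalOfPrime (hbot x hx) x.isPrime
  have hwξ : w ≠ ξ := by
    rintro rfl
    exact hne ((hw'.antisymm (hgen w')).eq)
  have himm : ∀ x : Spec R, x ≠ ξ → δ x + 1 = δ ξ := by
    intro x hx
    refine ((hδ ξ x (hgen x) (Ne.symm hx)).2 fun z hz hz' => ?_).symm
    by_cases h : z = ξ
    · exact Or.inl h
    · right
      have h1 : z.asIdeal ≤ x.asIdeal := (PrimeSpectrum.le_iff_specializes (x := z) (y := x)).2 hz'
      exact PrimeSpectrum.ext ((hmax z h).eq_of_le x.isPrime.ne_top h1)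
  obtain ⟨P, hP⟩ := (IsPrincipalIdealRing.principal w.asIdeal).principal
  have hP' : w.asIdeal = Ideal.span {P} := hP
  let a : Γ(Spec R, ⊤) := (Scheme.ΓSpecIso R).inv P
  let g : (Spec R).residueField ξ := (Spec R).evaluation ⊤ ξ trivial a
  have hg : ∀ x : Spec R, g = Cyc.specMap x ξ (hgen x) (toStalk R x P) := by
    intro x
    exact (DivFun.specMap_germ (U := ⊤) (hgen x) trivial a).symm
  have hP0 : P ≠ 0 := by
    rintro rfl
    exact hbot w hwξ (by rw [hP']; simp)
  have hg0 : g ≠ 0 := by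
    rw [hg ξ]
    have h1 : IsUnit (toStalk R ξ P) := (isUnit_toStalk_iff R ξ P).2 fun h => hP0 h
    exact (h1.map (Cyc.specMap ξ ξ (hgen ξ))).ne_zero
  have key : pt w = Cyc.divFun δ ξ g := by
    funext x
    by_cases hx : x = ξ
    · rw [OrdFrac.divFun_eq_zero, pt_of_ne]
      · rw [hx]; exact hwξ.symm
      · rintro ⟨-, h⟩
        rw [hx] at h
        omega
    rw [OrdFrac.divFun_apply δ (hgen x) (himm x hx)]
    have hconv : Cyc.ordAt x ξ (hgen x) g =
        Cyc.ordAt x ξ (hgen x) (Cyc.specMap x ξ (hgen x) (toStalk R x P)) := by rw [← hg x]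
    rw [hconv]
    by_cases hxw : x = w
    · subst hxw
      have h0 : Cyc.specMap x ξ (hgen x) (toStalk R x P) ≠ 0 := by rw [← hg x]; exact hg0
      rw [pt_self, OrdFrac.ordAt_specMap hδ (hgen x) (himm x hx) h0]
      have h1 : Ideal.span {(Ideal.Quotient.mk (RingHom.ker (Cyc.specMap x ξ (hgen x))))
          (toStalk R x P)} = IsLocalRing.maximalIdeal (Cyc.LocQuot x ξ (hgen x)) := by
        rw [← Set.image_singleton, ← Ideal.map_span, ← Set.image_singleton, ← Ideal.map_span,
          ← hP', map_toStalk]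
        exact FlatAlg.map_mk_maximalIdeal _
      rw [ord_eq_one h1]
      rfl
    · rw [pt_of_ne hxw]
      refine (OrdFrac.ordAt_specMap_of_isUnit (hgen x) ?_).symm
      rw [isUnit_toStalk_iff]
      intro hPx
      apply hxw
      have h1 : w.asIdeal ≤ x.asIdeal := by
        rw [hP', Ideal.span_singleton_le_iff_mem]; exact hPx
      exact PrimeSpectrum.ext ((hmax w hwξ).eq_of_le x.isPrime.ne_top h1).symm
  rw [key]
  exact divFun_mem δ (himm w hwξ).symm hg0

end Groth.Agent.CycB.PidRT
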