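import Groth.Agent.Fdesc.PullbackStalk
import Groth.Prelude.Def_Cyc
import Mathlib.AlgebraicGeometry.Morphisms.Flat
import Mathlib.RingTheory.LocalRing.Length

/-!
# Length of the stalks of a flat pullback of a module
-/

set_option autoImplicit false
universe u

open CategoryTheory CategoryTheory.Limits AlgebraicGeometry TopologicalSpace TensorProduct

namespace Groth.Agent.CycB.PullLen

variable {X Y : Scheme.{u}}

/-- `ℓ((f^*F)_x) = ℓ(F_{f x}) · ℓ(O_{X,x}/𝔪_{f x}O_{X,x})` for `f` flat. -/
theorem length_stalk_pullback (f : X ⟶ Y) [Flat f] (F : Y.Modules) (x : X) :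
    Module.length (X.presheaf.stalk x) (((Scheme.Modules.pullback f).obj F).presheaf.stalk x) =
      Module.length (Y.presheaf.stalk (f x)) (F.presheaf.stalk (f x)) *
        Module.length (X.presheaf.stalk x) (X.presheaf.stalk x ⧸ Ideal.map (f.stalkMap x).hom
          (IsLocalRing.maximalIdeal (Y.presheaf.stalk (f x)))) := by
  letI := Fdesc.PullbackStalk.stalkAlg f x
  haveI : IsLocalHom (algebraMap (Y.presheaf.stalk (f x)) (X.presheaf.stalk x)) :=
    inferInstanceAs (IsLocalHom (f.stalkMap x).hom)
  haveI : Module.Flat (Y.presheaf.stalk (f x)) (X.presheaf.stalk x) :=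
    Flat.stalkMap f x
  rw [← (Fdesc.PullbackStalk.stalkPullbackEquiv f F x).length_eq]
  exact IsLocalRing.length_baseChange (Y.presheaf.stalk (f x)) (X.presheaf.stalk x)
    (F.presheaf.stalk (f x))

/-- `(f^*F)_x` is zero as soon as `F_{f x}` is zero (no flatness needed). -/
theorem subsingleton_stalk_pullback (f : X ⟶ Y) (F : Y.Modules) (x : X)
    [Subsingleton (F.presheaf.stalk (f x))] :
    Subsingleton (((Scheme.Modules.pullback f).obj F).presheaf.stalk x) := by
  letI := Fdesc.PullbackStalk.stalkAlg f x
  haveI : Subsingleton (F.presheaf.stalk (f.base x)) :=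
    inferInstanceAs (Subsingleton (F.presheaf.stalk (f x)))
  exact (Fdesc.PullbackStalk.stalkPullbackEquiv f F x).symm.toEquiv.subsingleton

end Groth.Agent.CycB.PullLen
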