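import Groth.Agent.CycB.C1Push
import Groth.Agent.CycB.PushLocal
set_option autoImplicit false
universe u
open CategoryTheory AlgebraicGeometry Cyc
namespace Groth.Agent.CycB.PushDivMain

/-- The pointwise push formula holds for proper morphisms. -/
theorem pushDiv {X Y : Scheme.{u}} (p : X ⟶ Y) [IsProper p] {δX : X → ℤ} {δY : Y → ℤ}
    (hX : IsSetup X δX) (hY : IsSetup Y δY) (hδ : DeltaCompat p δX δY) :
    Groth.Agent.CycB.C1Push.PushDiv p δX δY := by
  have := hY.1
  intro ξ g hg heq y
  exact PushLocal.finsum_divFun_of_eq hX.2.2 hY.2.2 p hδ ξ g hg heq y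

end Groth.Agent.CycB.PushDivMain
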