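import Groth.Agent.CycB.PushRat
import Groth.Agent.CycB.FiberStalk
import Groth.Agent.CycB.RelDim2
import Groth.Agent.S1860

/-!
# Pushforward of principal divisors: the dimension-dropping case
-/

set_option autoImplicit false
universe u v

open AlgebraicGeometry CategoryTheory TopologicalSpace

namespace Groth.Agent.CycB.PushDrop

theorem ker_specMap_of_eq {Y : Scheme.{u}} {y η : Y} (h : η ⤳ y) (e : y = η) :
    RingHom.ker (Cyc.specMap y η h) = IsLocalRing.maximalIdeal (Y.presheaf.stalk y) := by
  subst e
  exact LocQuot.ker_refl y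

section Fiber

variable {Z Y : Scheme.{u}} [IsIntegral Z] (f : Z ⟶ Y)

/-- The maximal ideal at the image of the generic point generates zero upstairs. -/
theorem fibIdeal_eq_bot {ζ : Z} (hζ : ζ = genericPoint Z) (z : Z) (hz : f z = f ζ) :
    FiberStalk.fibIdeal f z = ⊥ := by
  rw [eq_bot_iff, FiberStalk.fibIdeal, Ideal.map_le_iff_le_comap]
  intro a ha
  have h := PushFinite.genericPoint_specializes' hζ z
  rw [Ideal.mem_comap, Ideal.mem_bot]
  apply PushFinite.specMap_injective hζ h
  rw [map_zero, ← DivNat.residueFieldMap_specMap f z ζ h a]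
  have h1 : a ∈ RingHom.ker (Cyc.specMap (f z) (f ζ) (h.map f.continuous)) := by
    rw [ker_specMap_of_eq _ hz]; exact ha
  rw [RingHom.mem_ker] at h1
  rw [h1, map_zero]

variable {η : Y} {c₀ : f.fiber η}

theorem stalkMap_fiberι_bijective (hc : f.fiberι η c₀ = genericPoint Z) (c : f.fiber η) :
    Function.Bijective ((f.fiberι η).stalkMap c).hom := by
  refine ⟨?_, FiberStalk.stalkMap_fiberι_surjective f η c⟩
  rw [RingHom.injective_iff_ker_eq_bot, FiberStalk.ker_stalkMap_fiberι]
  exact fibIdeal_eq_bot f hc _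
    ((FiberStalk.fiberι_mem f η c).trans (FiberStalk.fiberι_mem f η c₀).symm)

theorem specializes_fiber (hc : f.fiberι η c₀ = genericPoint Z) (c : f.fiber η) : c₀ ⤳ c := by
  rw [← (f.fiberι η).isEmbedding.isInducing.specializes_iff]
  exact PushFinite.genericPoint_specializes' hc _

theorem closure_fiber (hc : f.fiberι η c₀ = genericPoint Z) :
    closure {c₀} = (Set.univ : Set (f.fiber η)) := by
  rw [Set.eq_univ_iff_forall]
  intro c
  exact (specializes_fiber f hc c).mem_closure

theorem isIntegral_fiber (hc : f.fiberι η c₀ = genericPoint Z) : IsIntegral (f.fiber η) := by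
  have h1 : IrreducibleSpace (f.fiber η) := by
    rw [irreducibleSpace_def]
    change IsIrreducible (Set.univ : Set (f.fiber η))
    rw [← closure_fiber f hc]
    exact isIrreducible_singleton.closure
  have h2 : ∀ c : f.fiber η, _root_.IsReduced ((f.fiber η).presheaf.stalk c) := by
    intro c
    exact isReduced_of_injective
      (RingEquiv.ofBijective _ (stalkMap_fiberι_bijective f hc c)).symm
      (RingEquiv.ofBijective _ (stalkMap_fiberι_bijective f hc c)).symm.injective
  have h3 : IsReduced (f.fiber η) := isReduced_of_isReduced_stalk _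
  exact isIntegral_of_irreducibleSpace_of_isReduced _

theorem eq_genericPoint_fiber (hc : f.fiberι η c₀ = genericPoint Z) [IsIntegral (f.fiber η)] :
    c₀ = genericPoint (f.fiber η) :=
  ((specializes_fiber f hc _).antisymm ((genericPoint_spec (f.fiber η)).specializes trivial)).eq

theorem topologicalKrullDim_fiber [LocallyOfFiniteType f]
    (hc : f.fiberι η c₀ = genericPoint Z) {n : ℕ}
    (hn : RelDim.rtd f (f.fiberι η c₀) = n) : topologicalKrullDim (f.fiber η) = n := by
  obtain ⟨m, hm, hm'⟩ := RelDim.exists_dim_closure_fiber f η c₀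
  rw [hn] at hm
  have : n = m := by exact_mod_cast hm
  subst this
  rw [closure_fiber f hc] at hm'
  rw [← hm']
  exact (IsHomeomorph.topologicalKrullDim_eq _ (Homeomorph.Set.univ (f.fiber η)).isHomeomorph).symm

omit [IsIntegral Z] in
theorem residueDegree_fiber (c : f.fiber η) :
    (f.fiberToSpecResidueField η).residueDegree c = f.residueDegree (f.fiberι η c) := by
  have h1 := Push.residueDegree_comp (f.fiberι η) f c
  have h2 := Push.residueDegree_comp (f.fiberToSpecResidueField η) (Y.fromSpecResidueField η) c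
  rw [DivNat.residueDegree_eq_one (f.fiberι η), mul_one] at h1
  rw [DivNat.residueDegree_eq_one (Y.fromSpecResidueField η), one_mul] at h2
  rw [← h1, ← h2]
  have : ∀ g g' : f.fiber η ⟶ Y, g = g' → g.residueDegree c = g'.residueDegree c := by
    rintro g _ rfl; rfl
  exact this _ _ (f.fiber_fac η).symm

/-- S1860 for the fibre over the image of the generic point. -/
theorem finsum_ordAt_fiber [IsProper f] (hc : f.fiberι η c₀ = genericPoint Z)
    (hn : RelDim.rtd f (f.fiberι η c₀) = 1) (g : Z.residueField (f.fiberι η c₀)) (hg : g ≠ 0) :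
    ∑ᶠ (c : f.fiber η) (_ : IsClosed ({c} : Set (f.fiber η))),
      (f.residueDegree (f.fiberι η c) : ℤ) * Cyc.ordAt (f.fiberι η c) (f.fiberι η c₀)
        ((specializes_fiber f hc c).map (f.fiberι η).continuous) g = 0 := by
  have hint := isIntegral_fiber f hc
  have hgen := eq_genericPoint_fiber f hc
  have hdim : topologicalKrullDim (f.fiber η) = 1 := by
    have := topologicalKrullDim_fiber f hc (n := 1) (by rw [hn]; simp)
    simpa using this
  have hprop : IsProper (f.fiberToSpecResidueField η) :=
    MorphismProperty.pullback_snd _ _ inferInstance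
  subst hgen
  have hbij : Function.Bijective ((f.fiber η).residue (genericPoint (f.fiber η))).hom :=
    ⟨PushFinite.residue_injective rfl, (f.fiber η).residue_surjective _⟩
  obtain ⟨g', hg'⟩ := hbij.2 (((f.fiberι η).residueFieldMap (genericPoint (f.fiber η))).hom g)
  have hg0 : g' ≠ 0 := by
    rintro rfl
    rw [map_zero] at hg'
    exact hg ((map_eq_zero _).1 hg'.symm)
  have key := S1860.result (Y.residueField η) (f.fiber η) (f.fiberToSpecResidueField η) hdim g' hg0
  rw [← key]
  refine finsum_congr fun c => finsum_congr fun _ => ?_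
  rw [residueDegree_fiber]
  congr 1
  rw [← DivNat.ordAt_residueFieldMap (f.fiberι η) c _ (specializes_fiber f hc c), ← hg',
    PushFinite.ordAt_eq_ordFrac_stalk rfl]
  let := (Cyc.specMap c (genericPoint (f.fiber η)) (specializes_fiber f hc c)).toAlgebra
  exact OrdFrac.ordFrac_congr (R := (f.fiber η).presheaf.stalk c)
    (K := (f.fiber η).functionField) (RingEquiv.refl ((f.fiber η).presheaf.stalk c))
    (RingEquiv.ofBijective _ hbij) (fun a => rfl) g'

end Fiber

/-- **Pushforward of principal divisors, dimension-dropping case.** -/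
theorem finsum_divFun_of_lt {X Y : Scheme.{u}} {δX : X → ℤ} {δY : Y → ℤ} [IsLocallyNoetherian Y]
    (hX : Cyc.IsDimFun X δX) (hY : Cyc.IsDimFun Y δY) (p : X ⟶ Y) [IsProper p]
    (hδ : Cyc.DeltaCompat p δX δY) (ξ : X) (g : X.residueField ξ) (hg : g ≠ 0)
    (hlt : δY (p ξ) < δX ξ) (y : Y) :
    ∑ᶠ x ∈ {x : X | p x = y},
      Cyc.divFun δX ξ g x * (AlgebraicCycle.mapCoeff p δX δY x : ℤ) = 0 := by
  -- a nonzero term forces `y = p ξ` and `δ(ξ) = δ(p ξ) + 1`
  by_cases hyy : p ξ = y ∧ δX ξ = δY y + 1
  swap
  · refine finsum_mem_of_eqOn_zero ?_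
    rintro x rfl
    by_contra hne
    apply hyy
    have h1 := left_ne_zero_of_mul hne
    have h2 := right_ne_zero_of_mul hne
    have h3 := DivFun.divFun_ne_zero h1
    have h4 : δX x = δY (p x) := by
      by_contra h4
      apply h2
      rw [AlgebraicCycle.mapCoeff, if_neg h4]
      rfl
    have h5 := LocQuot.le_of_specializes hY (h3.1.map p.continuous)
    have h6 := h3.2
    refine ⟨LocQuot.eq_of_specializes_of_eq hY (h3.1.map p.continuous) (by omega), by omega⟩
  · obtain ⟨hy, hd⟩ := hyy
    obtain ⟨Z, i, hZ, hi, ζ, hζ, rfl⟩ := PushLocal.exists_integral_closedImmersion ξ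
    obtain ⟨c₀, hc₀⟩ : ∃ c₀ : (i ≫ p).fiber y, (i ≫ p).fiberι y c₀ = ζ := by
      have : ζ ∈ Set.range ((i ≫ p).fiberι y) := by
        rw [Scheme.Hom.range_fiberι]; exact hy
      exact this
    subst hc₀
    have hδη : ∀ c : (i ≫ p).fiber y, p (i ((i ≫ p).fiberι y c)) = y :=
      fun c => FiberStalk.fiberι_mem (i ≫ p) y c
    have hsp := specializes_fiber (i ≫ p) hζ
    -- relative transcendence degree one
    have hrtd : RelDim.rtd (i ≫ p) ((i ≫ p).fiberι y c₀) = 1 := by
      rw [RelDim.rtd_comp, RelDim.rtd_eq_zero_of_isPreimmersion i, add_zero]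
      obtain ⟨n, hn, hn'⟩ := (RelDim.deltaCompat_iff.mp hδ) (i ((i ≫ p).fiberι y c₀))
      rw [hn]
      rw [hδη c₀] at hn'
      have : n = 1 := by omega
      rw [this]; simp
    have hg' : (i.residueFieldMap ((i ≫ p).fiberι y c₀)).hom g ≠ 0 := by
      rw [Ne, map_eq_zero]; exact hg
    have key := finsum_ordAt_fiber (i ≫ p) hζ hrtd
      ((i.residueFieldMap ((i ≫ p).fiberι y c₀)).hom g) hg'
    rw [← key]
    -- reindex
    have hlb : ∀ c : (i ≫ p).fiber y, δY y ≤ δX (i ((i ≫ p).fiberι y c)) := by
      intro c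
      obtain ⟨n, -, hn⟩ := hδ (i ((i ≫ p).fiberι y c))
      rw [hδη c] at hn
      omega
    have hclosed : ∀ c : (i ≫ p).fiber y, IsClosed ({c} : Set ((i ≫ p).fiber y)) ↔
        δX (i ((i ≫ p).fiberι y c)) = δY y := by
      intro c
      constructor
      · intro hcl
        obtain ⟨m, hm, hm'⟩ := RelDim.exists_dim_closure_fiber (i ≫ p) y c
        rw [hcl.closure_eq] at hm'
        have h0 := topologicalKrullDim_zero_of_discreteTopology
          ({c} : Set ((i ≫ p).fiber y))
        rw [hm'] at h0
        have hm0 : m = 0 := by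
          have : (m : ℕ∞) ≤ 0 := by exact_mod_cast h0
          simpa using this
        subst hm0
        obtain ⟨n, hn, hn'⟩ := (RelDim.deltaCompat_iff.mp hδ) (i ((i ≫ p).fiberι y c))
        rw [RelDim.rtd_comp, RelDim.rtd_eq_zero_of_isPreimmersion i, add_zero, hn] at hm
        have hn0 : n = 0 := by exact_mod_cast hm
        rw [hn', hδη c, hn0]; simp
      · intro hc
        rw [← closure_subset_iff_isClosed]
        intro c' hc'
        by_contra hne
        have h1 : c ⤳ c' := specializes_iff_mem_closure.2 hc'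
        have h2 := LocQuot.lt_of_specializes hX
          ((h1.map ((i ≫ p).fiberι y).continuous).map i.continuous)
          (fun e => hne (((i ≫ p).fiberι y).isEmbedding.injective (i.isEmbedding.injective e)).symm)
        have h3 := hlb c'
        omega
    have hinj : Function.Injective fun c : (i ≫ p).fiber y => i ((i ≫ p).fiberι y c) :=
      i.isEmbedding.injective.comp ((i ≫ p).fiberι y).isEmbedding.injective
    have hbij : Set.BijOn (fun c : (i ≫ p).fiber y => i ((i ≫ p).fiberι y c))
        {c | IsClosed ({c} : Set ((i ≫ p).fiber y))}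
        {x : X | p x = y ∧ i ((i ≫ p).fiberι y c₀) ⤳ x ∧ δX x = δY y} := by
      refine ⟨fun c hc => ⟨hδη c, ?_, (hclosed c).1 hc⟩, hinj.injOn, ?_⟩
      · exact ((hsp c).map ((i ≫ p).fiberι y).continuous).map i.continuous
      · rintro x ⟨hx, hξx, hδx⟩
        obtain ⟨z, rfl⟩ := hξx.mem_closed i.isClosedEmbedding.isClosed_range ⟨_, rfl⟩
        obtain ⟨c, rfl⟩ : z ∈ Set.range ((i ≫ p).fiberι y) := by
          rw [Scheme.Hom.range_fiberι]; exact hx
        exact ⟨c, (hclosed c).2 hδx, rfl⟩
    have hre := finsum_mem_eq_of_bijOn (f := fun c : (i ≫ p).fiber y =>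
        ((i ≫ p).residueDegree ((i ≫ p).fiberι y c) : ℤ) * Cyc.ordAt ((i ≫ p).fiberι y c)
          ((i ≫ p).fiberι y c₀) ((hsp c).map ((i ≫ p).fiberι y).continuous)
          ((i.residueFieldMap ((i ≫ p).fiberι y c₀)).hom g))
      (g := fun x => Cyc.divFun δX (i ((i ≫ p).fiberι y c₀)) g x *
        (AlgebraicCycle.mapCoeff p δX δY x : ℤ)) _ hbij (by
        intro c hc
        have h1 : δX (i ((i ≫ p).fiberι y c)) = δY y := (hclosed c).1 hc
        have h2 : i ((i ≫ p).fiberι y c₀) ⤳ i ((i ≫ p).fiberι y c) :=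
          ((hsp c).map ((i ≫ p).fiberι y).continuous).map i.continuous
        have h3 : AlgebraicCycle.mapCoeff p δX δY (i ((i ≫ p).fiberι y c)) =
            (i ≫ p).residueDegree ((i ≫ p).fiberι y c) := by
          rw [AlgebraicCycle.mapCoeff, if_pos (h1.trans (congrArg δY (hδη c)).symm),
            Push.residueDegree_comp, DivNat.residueDegree_eq_one i, mul_one]
        have h4 : Cyc.divFun δX (i ((i ≫ p).fiberι y c₀)) g (i ((i ≫ p).fiberι y c)) =
            Cyc.ordAt ((i ≫ p).fiberι y c)
              ((i ≫ p).fiberι y c₀) ((hsp c).map ((i ≫ p).fiberι y).continuous)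
              ((i.residueFieldMap ((i ≫ p).fiberι y c₀)).hom g) := by
          rw [Cyc.divFun, dif_pos ⟨h2, by omega⟩]
          exact (DivNat.ordAt_residueFieldMap i _ _ _ g).symm
        change _ = Cyc.divFun δX (i ((i ≫ p).fiberι y c₀)) g (i ((i ≫ p).fiberι y c)) *
          (AlgebraicCycle.mapCoeff p δX δY (i ((i ≫ p).fiberι y c)) : ℤ)
        rw [h3, h4, mul_comm])
    refine Eq.trans ?_ hre.symm
    apply finsum_mem_inter_support_eq'
    intro x hx
    refine ⟨fun hxy => ?_, fun h => h.1⟩
    have h1 := left_ne_zero_of_mul hx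
    have h2 := right_ne_zero_of_mul hx
    have h3 := DivFun.divFun_ne_zero h1
    have h4 : δX x = δY (p x) := by
      by_contra h4
      apply h2
      rw [AlgebraicCycle.mapCoeff, if_neg h4]
      rfl
    exact ⟨hxy, h3.1, h4.trans (congrArg δY hxy)⟩

end Groth.Agent.CycB.PushDrop
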