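import Groth.Agent.CycB.PushLocal
import Groth.Agent.CycB.PushLen
import Groth.Agent.CycB.RatTransport

/-!
# Proper pushforward and rational equivalence
-/

set_option autoImplicit false
universe u v

open AlgebraicGeometry CategoryTheory TopologicalSpace

namespace Groth.Agent.CycB.PushRat

open DivFun

/-- Pushforward of a locally finite sum of principal divisors. -/
theorem map_finsum_divFun {X Y : Scheme.{u}} [IsLocallyNoetherian X] {δX : X → ℤ} (δY : Y → ℤ)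
    (hX : Cyc.IsDimFun X δX) (p : X ⟶ Y) [QuasiCompact p] {ι : Type v} {ξ : ι → X}
    (hξ : LocFin ξ) (f : (i : ι) → X.residueField (ξ i)) (γ : AlgebraicCycle X ℤ)
    (hγ : ∀ x, γ x = ∑ᶠ i, Cyc.divFun δX (ξ i) (f i) x) (y : Y) :
    AlgebraicCycle.map p δX δY γ y = ∑ᶠ i, ∑ᶠ x ∈ {x : X | p x = y},
      Cyc.divFun δX (ξ i) (f i) x * (AlgebraicCycle.mapCoeff p δX δY x : ℤ) := by
  obtain ⟨U, hU⟩ := (PrespectralSpace.isTopologicalBasis (X := Y)).exists_subset_of_mem_open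
      (Set.mem_univ y) isOpen_univ
  have hK : IsCompact (p ⁻¹' U) := p.isSpectralMap.2 hU.1.1 hU.1.2
  have hKy : ∀ x, p x = y → x ∈ p ⁻¹' U := fun x hx => by
    rw [Set.mem_preimage, hx]; exact hU.2.1
  have hKo : IsOpen (p ⁻¹' U) := hU.1.1.preimage p.continuous
  have hT : {i | ξ i ∈ p ⁻¹' U}.Finite := hξ.finite_of_isCompact hK
  have hiT : ∀ i x, p x = y → Cyc.divFun δX (ξ i) (f i) x ≠ 0 → i ∈ {i | ξ i ∈ p ⁻¹' U} :=
    fun i x hx h => (divFun_ne_zero h).1.mem_open hKo (hKy x hx)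
  have hS : ∀ i, {x | p x = y ∧ Cyc.divFun δX (ξ i) (f i) x ≠ 0}.Finite := by
    intro i
    obtain ⟨c, hc⟩ := exists_cycle_divFun hX (ξ i) (f i)
    have := Push.finite_support_fiber p c y
    rw [hc] at this
    exact this
  have hS' : {x | p x = y ∧ ∃ i, Cyc.divFun δX (ξ i) (f i) x ≠ 0}.Finite := by
    refine (hT.biUnion (fun i _ => hS i)).subset ?_
    rintro x ⟨hx, i, hi⟩
    exact Set.mem_biUnion (hiT i x hx hi) ⟨hx, hi⟩
  have h1 : ∑ᶠ x ∈ {x : X | p x = y}, γ x * (AlgebraicCycle.mapCoeff p δX δY x : ℤ) =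
      ∑ᶠ x ∈ {x | p x = y ∧ ∃ i, Cyc.divFun δX (ξ i) (f i) x ≠ 0},
        ∑ᶠ i ∈ {i | ξ i ∈ p ⁻¹' U},
          Cyc.divFun δX (ξ i) (f i) x * (AlgebraicCycle.mapCoeff p δX δY x : ℤ) := by
    have h2 : ∀ x ∈ {x | p x = y}, γ x * (AlgebraicCycle.mapCoeff p δX δY x : ℤ) =
        ∑ᶠ i ∈ {i | ξ i ∈ p ⁻¹' U},
          Cyc.divFun δX (ξ i) (f i) x * (AlgebraicCycle.mapCoeff p δX δY x : ℤ) := by
      intro x hx
      rw [hγ, finsum_mul, ← finsum_mem_univ]
      apply finsum_mem_inter_support_eq'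
      intro i hi
      exact ⟨fun _ => hiT i x hx (left_ne_zero_of_mul hi), fun _ => trivial⟩
    rw [finsum_mem_congr rfl h2]
    apply finsum_mem_inter_support_eq'
    intro x hx
    refine ⟨fun h => ⟨h, ?_⟩, fun h => h.1⟩
    obtain ⟨i, -, hi⟩ := exists_ne_zero_of_finsum_mem_ne_zero hx
    exact ⟨i, left_ne_zero_of_mul hi⟩
  rw [Push.map_apply, h1, finsum_mem_comm _ hS' hT]
  rw [← finsum_mem_univ (fun i => ∑ᶠ x ∈ {x : X | p x = y},
      Cyc.divFun δX (ξ i) (f i) x * (AlgebraicCycle.mapCoeff p δX δY x : ℤ))]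
  have h3 : ∀ i, ∑ᶠ x ∈ {x | p x = y ∧ ∃ i, Cyc.divFun δX (ξ i) (f i) x ≠ 0},
          Cyc.divFun δX (ξ i) (f i) x * (AlgebraicCycle.mapCoeff p δX δY x : ℤ) =
      ∑ᶠ x ∈ {x : X | p x = y},
        Cyc.divFun δX (ξ i) (f i) x * (AlgebraicCycle.mapCoeff p δX δY x : ℤ) := by
    intro i
    apply finsum_mem_inter_support_eq'
    intro x hx
    exact ⟨fun h => h.1, fun h => ⟨h, i, left_ne_zero_of_mul hx⟩⟩
  simp only [h3]
  apply finsum_mem_inter_support_eq'
  intro i hi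
  refine ⟨fun _ => trivial, fun _ => ?_⟩
  obtain ⟨x, hx, hi⟩ := exists_ne_zero_of_finsum_mem_ne_zero hi
  exact hiT i x hx (left_ne_zero_of_mul hi)

theorem locFin_push {X Y : Scheme.{u}} (p : X ⟶ Y) [QuasiCompact p] {ι : Type v} {ξ : ι → X}
    (hξ : LocFin ξ) : LocFin (fun i => p (ξ i)) := by
  intro y
  obtain ⟨U, hU⟩ := (PrespectralSpace.isTopologicalBasis (X := Y)).exists_subset_of_mem_open
      (Set.mem_univ y) isOpen_univ
  exact ⟨U, hU.1.1, hU.2.1, hξ.finite_of_isCompact (p.isSpectralMap.2 hU.1.1 hU.1.2)⟩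

/-- The norm of a nonzero element for a finite residue field extension is nonzero. -/
theorem normGen_ne_zero {X Y : Scheme.{u}} (p : X ⟶ Y) (x : X)
    (hfin : (p.residueFieldMap x).hom.Finite) {g : X.residueField x} (hg : g ≠ 0) :
    Cyc.normGen p x g ≠ 0 := by
  let := (p.residueFieldMap x).hom.toAlgebra
  have : Module.Finite (Y.residueField (p x)) (X.residueField x) := hfin
  exact Algebra.norm_ne_zero_iff.2 hg

/-- Pushforward preserves rational equivalence to zero, assuming that pushforwards of principal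
divisors are zero in the dimension-dropping case. -/
theorem ratEquivZero_map {X Y : Scheme.{u}} [IsLocallyNoetherian X] [IsLocallyNoetherian Y]
    {δX : X → ℤ} {δY : Y → ℤ} (hX : Cyc.IsDimFun X δX) (hY : Cyc.IsDimFun Y δY) (p : X ⟶ Y)
    [IsProper p] (hδ : Cyc.DeltaCompat p δX δY)
    (hdrop : ∀ (ξ : X) (g : X.residueField ξ), g ≠ 0 → δY (p ξ) < δX ξ → ∀ y : Y,
      ∑ᶠ x ∈ {x : X | p x = y},
        Cyc.divFun δX ξ g x * (AlgebraicCycle.mapCoeff p δX δY x : ℤ) = 0)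
    {k : ℤ} {γ : AlgebraicCycle X ℤ} (h : Cyc.RatEquivZero δX k γ) :
    Cyc.RatEquivZero δY k (AlgebraicCycle.map p δX δY γ) := by
  rw [ratEquivZero_iff] at h
  obtain ⟨ι, ξ, f, h1, h2, h3, h4⟩ := h
  refine ratEquivZero_of (ι := {i : ι // δX (ξ i) = δY (p (ξ i))}) (fun i => p (ξ i.1))
    (fun i => Cyc.normGen p (ξ i.1) (f i.1)) (fun i => i.2.symm.trans (h1 i.1))
    (fun i => normGen_ne_zero p (ξ i.1) (PushLen.residueFieldMap_finite p δX δY hδ _ i.2) (h2 i.1))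
    ((locFin_push p h3).comp Subtype.val_injective) _ ?_
  intro y
  rw [map_finsum_divFun δY hX p h3 f γ h4 y]
  have h5 : ∀ i, ¬ (δX (ξ i) = δY (p (ξ i))) → ∑ᶠ x ∈ {x : X | p x = y},
      Cyc.divFun δX (ξ i) (f i) x * (AlgebraicCycle.mapCoeff p δX δY x : ℤ) = 0 := by
    intro i hi
    refine hdrop (ξ i) (f i) (h2 i) ?_ y
    obtain ⟨n, -, hn⟩ := hδ (ξ i)
    omega
  rw [← RatTransport.finsum_subtype_eq (fun i => δX (ξ i) = δY (p (ξ i))) _ h5]
  refine finsum_congr fun i => ?_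
  exact PushLocal.finsum_divFun_of_eq hX hY p hδ (ξ i.1) (f i.1) (h2 i.1) i.2 y

theorem map_add {X Y : Scheme.{u}} (δX : X → ℤ) (δY : Y → ℤ) (p : X ⟶ Y) [QuasiCompact p]
    (α β : AlgebraicCycle X ℤ) :
    AlgebraicCycle.map p δX δY (α + β) =
      AlgebraicCycle.map p δX δY α + AlgebraicCycle.map p δX δY β := by
  ext y
  change _ = AlgebraicCycle.map p δX δY α y + AlgebraicCycle.map p δX δY β y
  rw [Push.map_apply, Push.map_apply, Push.map_apply, ← finsum_mem_add_distrib']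
  · refine finsum_mem_congr rfl fun x _ => ?_
    change (α x + β x) * _ = _
    ring
  · refine (Push.finite_support_fiber p α y).subset ?_
    rintro x ⟨hx, hx'⟩
    exact ⟨hx, left_ne_zero_of_mul hx'⟩
  · refine (Push.finite_support_fiber p β y).subset ?_
    rintro x ⟨hx, hx'⟩
    exact ⟨hx, left_ne_zero_of_mul hx'⟩

theorem map_sub {X Y : Scheme.{u}} (δX : X → ℤ) (δY : Y → ℤ) (p : X ⟶ Y) [QuasiCompact p]
    (α β : AlgebraicCycle X ℤ) :
    AlgebraicCycle.map p δX δY (α - β) =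
      AlgebraicCycle.map p δX δY α - AlgebraicCycle.map p δX δY β := by
  have h := map_add δX δY p (α - β) β
  rw [sub_add_cancel] at h
  rw [h, add_sub_cancel_right]

end Groth.Agent.CycB.PushRat
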