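import Groth.Agent.CycB.DivNat
import Mathlib.Algebra.Module.LocalizedModule.Basic
import Mathlib.RingTheory.Localization.AtPrime.Basic
import Mathlib.RingTheory.Localization.Module
import Mathlib.RingTheory.Length
import Mathlib.LinearAlgebra.TensorProduct.Quotient
import Mathlib.RingTheory.IsTensorProduct

/-!
# Comparison of lengths: localizations and surjective base change
-/

set_option autoImplicit false
universe u

open TensorProduct Pointwise

namespace Groth.Agent.CycB.SpAlg2

/-- The length of a localized module does not depend on the model. -/
theorem length_localized {A : Type u} [CommRing A] (p : Ideal A) [p.IsPrime]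
    (M : Type u) [AddCommGroup M] [Module A M]
    (A' : Type u) [CommRing A'] [Algebra A A'] [IsLocalization.AtPrime A' p]
    (M' : Type u) [AddCommGroup M'] [Module A M'] [Module A' M'] [IsScalarTower A A' M']
    (f : M →ₗ[A] M') [IsLocalizedModule p.primeCompl f] :
    Module.length (Localization.AtPrime p) (LocalizedModule p.primeCompl M) =
      Module.length A' M' := by
  let e0 : Localization.AtPrime p ≃ₐ[A] A' :=
    IsLocalization.algEquiv p.primeCompl (Localization.AtPrime p) A'
  let i1 : Module (Localization.AtPrime p) M' := Module.compHom M' (e0 : Localization.AtPrime p →+* A')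
  have i2 : IsScalarTower A (Localization.AtPrime p) M' := by
    refine ⟨fun r a m => ?_⟩
    change e0 (r • a) • m = r • (e0 a • m)
    rw [map_smul, smul_assoc]
  let e : LocalizedModule p.primeCompl M ≃ₗ[A] M' := IsLocalizedModule.iso p.primeCompl f
  let e' : LocalizedModule p.primeCompl M ≃ₗ[Localization.AtPrime p] M' :=
    e.extendScalarsOfIsLocalization p.primeCompl (Localization.AtPrime p)
  rw [e'.length_eq]
  exact DivNat.length_eq_of_semilinear (e0 : Localization.AtPrime p →+* A') e0.surjective
    { toFun := id, map_add' := fun _ _ => rfl, map_smul' := fun r m => rfl }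
    Function.bijective_id

/-- Length of a base change along a surjective ring map. -/
theorem length_baseChange_of_surjective {A B : Type u} [CommRing A] [CommRing B] [Algebra A B]
    (hs : Function.Surjective (algebraMap A B)) (M : Type u) [AddCommGroup M] [Module A M]
    (I : Ideal A) (hI : RingHom.ker (algebraMap A B) = I) :
    Module.length B (B ⊗[A] M) = Module.length A (M ⧸ (I • (⊤ : Submodule A M))) := by
  subst hI
  have e1 : (A ⧸ RingHom.ker (algebraMap A B)) ≃ₗ[A] B :=
    (Ideal.quotientKerAlgEquivOfSurjective (f := Algebra.ofId A B) hs).toLinearEquiv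
  have e2 : ((A ⧸ RingHom.ker (algebraMap A B)) ⊗[A] M) ≃ₗ[A]
      (M ⧸ (RingHom.ker (algebraMap A B) • (⊤ : Submodule A M))) :=
    TensorProduct.quotTensorEquivQuotSMul M (RingHom.ker (algebraMap A B))
  rw [← e2.length_eq, (TensorProduct.congr e1 (LinearEquiv.refl A M)).length_eq]
  exact (Module.length_eq_of_surjective hs).symm

end Groth.Agent.CycB.SpAlg2
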