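import Groth.Agent.CycB.SpCore
import Groth.Agent.CycB.SpAlg2
import Groth.Agent.CycB.FiberStalk
import Groth.Agent.CycB.StalkLoc
import Groth.Agent.Fdesc.PullbackStalk

/-!
# Specialization over a DVR: stalks of the restrictions of a module to the fibres
-/

set_option autoImplicit false
universe u

open AlgebraicGeometry CategoryTheory TopologicalSpace CategoryTheory.Limits Pointwise TensorProduct
open Groth.Agent.CycB.DimIneq Groth.Agent.CycB.SpDVR

namespace Groth.Agent.CycB.SpMod

section Pull

variable {X Y : Scheme.{u}}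

/-- Stalks of pullbacks along morphisms surjective on the stalk. -/
theorem length_pullback (f : X ⟶ Y) (F : Y.Modules) (x : X)
    (hs : Function.Surjective (f.stalkMap x).hom) (I : Ideal (Y.presheaf.stalk (f x)))
    (hI : RingHom.ker (f.stalkMap x).hom = I) :
    Module.length (X.presheaf.stalk x) (((Scheme.Modules.pullback f).obj F).presheaf.stalk x) =
      Module.length (Y.presheaf.stalk (f x)) (F.presheaf.stalk (f x) ⧸
        (I • (⊤ : Submodule (Y.presheaf.stalk (f x)) (F.presheaf.stalk (f x))))) := by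
  let := Fdesc.PullbackStalk.stalkAlg f x
  rw [← (Fdesc.PullbackStalk.stalkPullbackEquiv f F x).length_eq]
  exact SpAlg2.length_baseChange_of_surjective hs (F.presheaf.stalk (f x)) I hI

end Pull

section Base

variable (R : Type u) [CommRing R] [IsDomain R] [IsDiscreteValuationRing R]

omit [IsDiscreteValuationRing R] in
theorem maximalIdeal_stalk_genericPoint (y : ↥(Spec (CommRingCat.of R)))
    (hy : y = genericPoint ↥(Spec (CommRingCat.of R))) :
    IsLocalRing.maximalIdeal ((Spec (CommRingCat.of R)).presheaf.stalk y) = ⊥ := by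
  subst hy
  rw [← IsLocalRing.isField_iff_maximalIdeal_eq]
  exact Field.toIsField (Spec (CommRingCat.of R)).functionField

theorem maximalIdeal_stalk_closedPoint_ne (y : ↥(Spec (CommRingCat.of R)))
    (hy : y = IsLocalRing.closedPoint R) :
    IsLocalRing.maximalIdeal ((Spec (CommRingCat.of R)).presheaf.stalk y) ≠ ⊥ := by
  intro h
  have h1 : genericPoint ↥(Spec (CommRingCat.of R)) ⤳ y := genericPoint_specializes y
  have h2 := (IsLocalRing.maximalIdeal.isMaximal ((Spec (CommRingCat.of R)).presheaf.stalk y)).eq_of_le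
    (RingHom.ker_ne_top (Cyc.specMap y _ h1)) (h.le.trans bot_le)
  have h3 := (LocQuot.ker_inj h1 (specializes_refl _)).1
    (h2.symm.trans (LocQuot.ker_refl _).symm)
  exact genericPoint_ne_closedPoint R (h3.trans hy)

theorem pi_ne_zero {y : ↥(Spec (CommRingCat.of R))} (hy : y = IsLocalRing.closedPoint R)
    {π : (Spec (CommRingCat.of R)).presheaf.stalk y}
    (hπ : IsLocalRing.maximalIdeal ((Spec (CommRingCat.of R)).presheaf.stalk y) =
      Ideal.span {π}) : π ≠ 0 := by
  rintro rfl
  apply maximalIdeal_stalk_closedPoint_ne R y hy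
  rw [hπ]; simp

theorem pi_mem_nonZeroDivisors {y : ↥(Spec (CommRingCat.of R))}
    (hy : y = IsLocalRing.closedPoint R)
    {π : (Spec (CommRingCat.of R)).presheaf.stalk y}
    (hπ : IsLocalRing.maximalIdeal ((Spec (CommRingCat.of R)).presheaf.stalk y) =
      Ideal.span {π}) : π ∈ nonZeroDivisors ((Spec (CommRingCat.of R)).presheaf.stalk y) :=
  mem_nonZeroDivisors_of_ne_zero (pi_ne_zero R hy hπ)

end Base

section Fib

variable {R : Type u} [CommRing R] [IsDomain R] [IsDiscreteValuationRing R]
  {X : Scheme.{u}} (a : X ⟶ Spec (CommRingCat.of R)) (F : X.Modules)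

omit [IsDiscreteValuationRing R] in
theorem length_stalk_generic (ζ : ↥(a.fiber (genericPoint ↥(Spec (CommRingCat.of R))))) :
    Module.length ((a.fiber _).presheaf.stalk ζ)
      (((Scheme.Modules.pullback (a.fiberι _)).obj F).presheaf.stalk ζ) =
    Module.length (X.presheaf.stalk (a.fiberι _ ζ)) (F.presheaf.stalk (a.fiberι _ ζ)) := by
  have h1 : FiberStalk.fibIdeal a (a.fiberι _ ζ) = ⊥ := by
    unfold FiberStalk.fibIdeal
    rw [maximalIdeal_stalk_genericPoint R _ (apply_fiberι a _ ζ), Ideal.map_bot]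
  rw [length_pullback (a.fiberι _) F ζ (FiberStalk.stalkMap_fiberι_surjective a _ ζ) ⊥
    ((FiberStalk.ker_stalkMap_fiberι a _ ζ).trans h1)]
  exact (Submodule.quotEquivOfEqBot _ (Submodule.bot_smul _)).length_eq

theorem length_stalk_closed (x : ↥(a.fiber (IsLocalRing.closedPoint R)))
    {π : (Spec (CommRingCat.of R)).presheaf.stalk (a (a.fiberι _ x))}
    (hπ : IsLocalRing.maximalIdeal ((Spec (CommRingCat.of R)).presheaf.stalk
      (a (a.fiberι _ x))) = Ideal.span {π}) :
    Module.length ((a.fiber _).presheaf.stalk x)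
      (((Scheme.Modules.pullback (a.fiberι _)).obj F).presheaf.stalk x) =
    Module.length (X.presheaf.stalk (a.fiberι _ x)) (F.presheaf.stalk (a.fiberι _ x) ⧸
      ((a.stalkMap (a.fiberι _ x)).hom π •
        (⊤ : Submodule (X.presheaf.stalk (a.fiberι _ x)) (F.presheaf.stalk (a.fiberι _ x))))) := by
  rw [length_pullback (a.fiberι _) F x (FiberStalk.stalkMap_fiberι_surjective a _ x) _
    (FiberStalk.ker_stalkMap_fiberι a _ x)]
  have h1 : FiberStalk.fibIdeal a (a.fiberι _ x) =
      Ideal.span {(a.stalkMap (a.fiberι _ x)).hom π} := by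
    unfold FiberStalk.fibIdeal
    rw [hπ, Ideal.map_span, Set.image_singleton]
  rw [h1]
  exact (Submodule.quotEquivOfEq _ _ (Submodule.ideal_span_singleton_smul _ _)).length_eq

theorem regular_of_flat (hflat : FlatMod.IsFlatOver a F)
    (x : ↥(a.fiber (IsLocalRing.closedPoint R)))
    {π : (Spec (CommRingCat.of R)).presheaf.stalk (a (a.fiberι _ x))}
    (hπ : IsLocalRing.maximalIdeal ((Spec (CommRingCat.of R)).presheaf.stalk
      (a (a.fiberι _ x))) = Ideal.span {π}) :
    IsSMulRegular (F.presheaf.stalk (a.fiberι _ x)) ((a.stalkMap (a.fiberι _ x)).hom π) := by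
  let := FlatMod.moduleStalkOver a F (a.fiberι _ x)
  have h1 : Module.Flat ((Spec (CommRingCat.of R)).presheaf.stalk (a (a.fiberι _ x)))
    (F.presheaf.stalk (a.fiberι _ x)) := hflat (a.fiberι _ x)
  have h2 : IsSMulRegular (F.presheaf.stalk (a.fiberι _ x)) π :=
    Module.Flat.isSMulRegular_of_nonZeroDivisors
      (pi_mem_nonZeroDivisors R (apply_fiberι a _ x) hπ)
  exact h2

end Fib

end Groth.Agent.CycB.SpMod
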