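import Groth.Agent.CycB.SetupDVR
import Groth.Agent.CycB.SpCore
import Groth.Agent.CycB.SpMod
import Groth.Agent.CycB.OrdFrac
import Groth.Agent.CycB.DivFun
import Groth.Agent.CycB.Push

/-!
# The specialization map over a DVR as the divisor of a uniformizer
-/

set_option autoImplicit false
universe u

open AlgebraicGeometry CategoryTheory TopologicalSpace CategoryTheory.Limits
open Groth.Agent.CycB.DimIneq Groth.Agent.CycB.SpDVR

namespace Groth.Agent.CycB.SpDiv

variable {R : Type u} [CommRing R] [IsDomain R] [IsDiscreteValuationRing R]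

/-- the element `ϖ` in the stalk at `y` -/
noncomputable def piS (ϖ : R) (y : ↥(Spec (CommRingCat.of R))) :
    (Spec (CommRingCat.of R)).presheaf.stalk y :=
  (Spec (CommRingCat.of R)).presheaf.germ ⊤ y trivial ((Scheme.ΓSpecIso (CommRingCat.of R)).inv ϖ)

/-- the element `ϖ` in the residue field at `y` -/
noncomputable def unifS (ϖ : R) (y : ↥(Spec (CommRingCat.of R))) :
    (Spec (CommRingCat.of R)).residueField y :=
  (Spec (CommRingCat.of R)).residue y (piS ϖ y)

theorem maximalIdeal_eq {ϖ : R} (hϖ : Irreducible ϖ) (y : ↥(Spec (CommRingCat.of R)))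
    (hy : y = IsLocalRing.closedPoint R) :
    IsLocalRing.maximalIdeal ((Spec (CommRingCat.of R)).presheaf.stalk y) =
      Ideal.span {piS ϖ y} := by
  let k : Algebra R ((Spec (CommRingCat.of R)).presheaf.stalk y) :=
    StructureSheaf.stalkAlgebra R y
  have : IsLocalization.AtPrime ((Spec (CommRingCat.of R)).presheaf.stalk y) y.asIdeal :=
    StructureSheaf.IsLocalization.to_stalk R y
  have h1 : y.asIdeal = Ideal.span {ϖ} := by
    rw [hy]; exact hϖ.maximalIdeal_eq
  rw [← IsLocalization.AtPrime.map_eq_maximalIdeal y.asIdeal, h1]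
  refine (Ideal.map_span _ _).trans ?_
  rw [Set.image_singleton]
  rfl

omit [IsDomain R] [IsDiscreteValuationRing R] in
theorem specMap_piS (ϖ : R) {y z : ↥(Spec (CommRingCat.of R))} (h : z ⤳ y) :
    Cyc.specMap y z h (piS ϖ y) = unifS ϖ z := by
  unfold Cyc.specMap unifS piS
  rw [CommRingCat.hom_comp, RingHom.comp_apply]
  congr 1
  exact TopCat.Presheaf.germ_stalkSpecializes_apply (Spec (CommRingCat.of R)).presheaf
    (U := ⊤) (y := y) trivial h _

theorem unifS_ne_zero {ϖ : R} (hϖ : Irreducible ϖ) (z : ↥(Spec (CommRingCat.of R)))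
    (hz : z ≠ IsLocalRing.closedPoint R) : unifS ϖ z ≠ 0 := by
  have h1 : z ⤳ IsLocalRing.closedPoint R := by
    rw [eq_genericPoint_of_ne R z hz]
    exact genericPoint_specializes _
  rw [← specMap_piS ϖ h1]
  intro h0
  have h2 : IsLocalRing.maximalIdeal ((Spec (CommRingCat.of R)).presheaf.stalk
      (IsLocalRing.closedPoint R)) ≤ RingHom.ker (Cyc.specMap _ z h1) := by
    rw [maximalIdeal_eq hϖ _ rfl, Ideal.span_singleton_le_iff_mem]
    exact h0
  have h3 := (IsLocalRing.maximalIdeal.isMaximal _).eq_of_le (RingHom.ker_ne_top _) h2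
  exact hz ((LocQuot.ker_inj h1 (specializes_refl _)).1
    (h3.symm.trans (LocQuot.ker_refl _).symm))

variable {X Y : Scheme.{u}} (a : X ⟶ Spec (CommRingCat.of R))

/-- the uniformizer in the residue field at a point of `X` -/
noncomputable def unif (ϖ : R) (z : X) : X.residueField z :=
  (a.residueFieldMap z).hom (unifS ϖ (a z))

omit [IsDomain R] [IsDiscreteValuationRing R] in
theorem unif_comp (b : Y ⟶ Spec (CommRingCat.of R)) (f : X ⟶ Y) (ϖ : R) (z : X) :
    unif (f ≫ b) ϖ z = (f.residueFieldMap z).hom (unif b ϖ (f z)) := by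
  unfold unif
  rw [Scheme.residueFieldMap_comp]
  rfl

theorem specMap_stalkMap_piS (ϖ : R) {x z : X} (h : z ⤳ x) :
    Cyc.specMap x z h ((a.stalkMap x).hom (piS ϖ (a x))) = unif a ϖ z := by
  rw [← DivNat.residueFieldMap_specMap, specMap_piS]
  rfl

theorem unif_ne_zero {ϖ : R} (hϖ : Irreducible ϖ) (z : X)
    (hz : a z ≠ IsLocalRing.closedPoint R) : unif a ϖ z ≠ 0 := by
  unfold unif
  rw [map_ne_zero_iff _ (a.residueFieldMap z).hom.injective]
  exact unifS_ne_zero hϖ _ hz

section Delta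

variable [LocallyOfFiniteType a]
  {δη : ↥(a.fiber (genericPoint ↥(Spec (CommRingCat.of R)))) → ℤ}
  {δs : ↥(a.fiber (IsLocalRing.closedPoint R)) → ℤ} {δX : X → ℤ}
  (hδη : Cyc.DeltaCompat
    (a.fiberToSpecResidueField (genericPoint ↥(Spec (CommRingCat.of R)))) δη (fun _ => 0))
  (hδs : Cyc.DeltaCompat
    (a.fiberToSpecResidueField (IsLocalRing.closedPoint R)) δs (fun _ => 0))
  (hδX : Cyc.DeltaCompat a δX (SetupDVR.dR R))

include hδη hδX in
omit [LocallyOfFiniteType a] in
theorem delta_generic (ζ : ↥(a.fiber (genericPoint ↥(Spec (CommRingCat.of R))))) :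
    δX (a.fiberι _ ζ) = δη ζ + 1 := by
  obtain ⟨n, hn, hn'⟩ := td_of_deltaCompat a _ δη hδη ζ
  obtain ⟨m, hm, hm'⟩ := hδX (a.fiberι _ ζ)
  have h1 : (n : Cardinal.{u}) = m := hn.symm.trans hm
  have h2 : n = m := by exact_mod_cast h1
  rw [hm', apply_fiberι, SetupDVR.dR_genericPoint, hn', h2]
  ring

include hδs hδX in
omit [LocallyOfFiniteType a] in
theorem delta_closed (x : ↥(a.fiber (IsLocalRing.closedPoint R))) :
    δX (a.fiberι _ x) = δs x := by
  obtain ⟨n, hn, hn'⟩ := td_of_deltaCompat a _ δs hδs x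
  obtain ⟨m, hm, hm'⟩ := hδX (a.fiberι _ x)
  have h1 : (n : Cardinal.{u}) = m := hn.symm.trans hm
  have h2 : n = m := by exact_mod_cast h1
  rw [hm', apply_fiberι, SetupDVR.dR_closedPoint, hn', h2]
  ring

include hδη hδs hδX in
/-- specialization = divisor of the uniformizer -/
theorem spFun_eq_finsum {ϖ : R} (hϖ : Irreducible ϖ) (r : ℤ)
    (α : ↥(a.fiber (genericPoint ↥(Spec (CommRingCat.of R)))) → ℤ)
    (hα : ∀ ζ, δη ζ ≠ r → α ζ = 0) (x : ↥(a.fiber (IsLocalRing.closedPoint R))) :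
    Cyc.spFun a (genericPoint ↥(Spec (CommRingCat.of R))) (IsLocalRing.closedPoint R) δη δs r α x =
      ∑ᶠ ζ : ↥(a.fiber (genericPoint ↥(Spec (CommRingCat.of R)))),
        α ζ * Cyc.divFun δX (a.fiberι _ ζ) (unif a ϖ (a.fiberι _ ζ)) (a.fiberι _ x) := by
  classical
  have hS := SetupDVR.isSetup_spec_dvr R
  have hX := SetupLft.isSetup_of_deltaCompat a hS hδX
  have hnoeth := hX.1
  unfold Cyc.spFun
  split_ifs with hx
  · let P : ↥(a.fiber (genericPoint ↥(Spec (CommRingCat.of R)))) → Prop := fun ζ =>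
      δη ζ = r ∧ (a.fiberι _ ζ) ⤳ (a.fiberι _ x)
    have h1 : ∀ i : {ζ // P ζ},
        (α i.1 * ((Module.length (X.presheaf.stalk (a.fiberι _ x))
        (Cyc.LocQuot (a.fiberι _ x) (a.fiberι _ i.1) i.2.2 ⧸
          (IsLocalRing.maximalIdeal ((Spec (CommRingCat.of R)).presheaf.stalk
            (a (a.fiberι _ x)))).map
            ((Ideal.Quotient.mk (RingHom.ker (Cyc.specMap (a.fiberι _ x) (a.fiberι _ i.1)
              i.2.2))).comp (a.stalkMap (a.fiberι _ x)).hom))).toNat : ℤ)) =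
        α i.1 * Cyc.divFun δX (a.fiberι _ i.1) (unif a ϖ (a.fiberι _ i.1)) (a.fiberι _ x) := by
      rintro ⟨ζ, hζ, h⟩
      have hd : δX (a.fiberι _ x) + 1 = δX (a.fiberι _ ζ) := by
        rw [delta_generic a hδη hδX, delta_closed a hδs hδX, hx, hζ]
      have h2 : Cyc.specMap (a.fiberι _ x) (a.fiberι _ ζ) h
          ((a.stalkMap (a.fiberι _ x)).hom (piS ϖ (a (a.fiberι _ x)))) ≠ 0 := by
        rw [specMap_stalkMap_piS]
        apply unif_ne_zero a hϖ
        rw [apply_fiberι]
        exact genericPoint_ne_closedPoint R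
      dsimp only
      rw [OrdFrac.divFun_apply δX h hd, ← specMap_stalkMap_piS a ϖ h,
        OrdFrac.ordAt_specMap hX.2.2 h hd h2,
        SpCore.length_quot_eq_ord _ _ (piS ϖ (a (a.fiberι _ x)))
          (maximalIdeal_eq hϖ _ (apply_fiberι a _ x))]
    rw [finsum_congr h1]
    refine (finsum_subtype_eq_finsum_cond (f := fun ζ => α ζ *
      Cyc.divFun δX (a.fiberι _ ζ) (unif a ϖ (a.fiberι _ ζ)) (a.fiberι _ x)) P).trans ?_
    refine finsum_congr fun ζ => ?_
    by_cases hP : P ζ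
    · exact finsum_eq_if.trans (if_pos hP)
    · refine (finsum_eq_if.trans (if_neg hP)).trans ?_
      symm
      by_cases hζ : δη ζ = r
      · rw [OrdFrac.divFun_eq_zero, mul_zero]
        rintro ⟨h2, -⟩
        exact hP ⟨hζ, h2⟩
      · rw [hα ζ hζ, zero_mul]
  · symm
    apply finsum_eq_zero_of_forall_eq_zero
    intro ζ
    by_cases hζ : δη ζ = r
    · rw [OrdFrac.divFun_eq_zero, mul_zero]
      rintro ⟨-, h2⟩
      rw [delta_generic a hδη hδX, delta_closed a hδs hδX, hζ] at h2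
      omega
    · rw [hα ζ hζ, zero_mul]

end Delta

end Groth.Agent.CycB.SpDiv
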