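import Groth.Agent.CycB.FiberMap

/-!
# Specialization of cycles and flat pullback
-/

set_option autoImplicit false
set_option linter.style.haveILetI false
universe u
open CategoryTheory AlgebraicGeometry CategoryTheory.Limits

namespace Groth.Agent.CycB.SpPull

open FlatDiv FiberMap RelDim SpDVR

section General

theorem finsum_sigma_finite {ι : Type*} {κ : ι → Type*} [Finite ι] [∀ i, Finite (κ i)]
    {M : Type*} [AddCommMonoid M] (F : (Σ i, κ i) → M) :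
    ∑ᶠ p, F p = ∑ᶠ i, ∑ᶠ j, F ⟨i, j⟩ := by
  have := Fintype.ofFinite ι
  have := fun i => Fintype.ofFinite (κ i)
  simp only [finsum_eq_sum_of_fintype, Fintype.sum_sigma]

variable {X S : Scheme.{u}}

/-- The length appearing in the specialization map. -/
noncomputable def spLen (b : X ⟶ S) (x ξ : X) (h : ξ ⤳ x) : ℕ∞ :=
  Module.length (X.presheaf.stalk x)
    (Cyc.LocQuot x ξ h ⧸ (IsLocalRing.maximalIdeal (S.presheaf.stalk (b x))).map
      ((Ideal.Quotient.mk (RingHom.ker (Cyc.specMap x ξ h))).comp (b.stalkMap x).hom))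

theorem spLen_congr (b : X ⟶ S) {x y ξ ζ : X} (hxy : x = y) (hz : ξ = ζ) (h : ξ ⤳ x)
    (h' : ζ ⤳ y) : spLen b x ξ h = spLen b y ζ h' := by
  subst hxy hz; rfl

theorem spFun_apply (b : X ⟶ S) (η s : S) (δη : ↥(b.fiber η) → ℤ) (δs : ↥(b.fiber s) → ℤ) (r : ℤ)
    (α : ↥(b.fiber η) → ℤ) (x : ↥(b.fiber s)) :
    Cyc.spFun b η s δη δs r α x = if δs x = r then
      ∑ᶠ ζ : {ζ : ↥(b.fiber η) // δη ζ = r ∧ (b.fiberι η ζ) ⤳ (b.fiberι s x)},
        α ζ.1 * ((spLen b (b.fiberι s x) (b.fiberι η ζ.1) ζ.2.2).toNat : ℤ) else 0 := rfl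

theorem pullFun_apply {Y Z : Scheme.{u}} (f : Y ⟶ Z) (δY : Y → ℤ) (δZ : Z → ℤ) (r : ℤ)
    (α : Z → ℤ) (x : Y) :
    Cyc.pullFun f δY δZ r α x = if δY x = δZ (f x) + r then α (f x) * ((mult f x).toNat : ℤ)
      else 0 := rfl

theorem spLen_eq_ordP (b : X ⟶ S) {x ξ : X} (h : ξ ⤳ x) (π : S.presheaf.stalk (b x))
    (hπ : IsLocalRing.maximalIdeal (S.presheaf.stalk (b x)) = Ideal.span {π}) :
    spLen b x ξ h = ordP h ((b.stalkMap x).hom π) :=
  SpCore.length_quot_eq_ord _ _ π hπ _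

variable {X' : Scheme.{u}} (f : X' ⟶ X) [Flat f] [IsLocallyNoetherian X] [IsLocallyNoetherian X']

theorem spLen_mul_mult (b : X ⟶ S) {x' : X'} {ξ : X} (h : ξ ⤳ f x')
    [Ring.KrullDimLE 1 (Cyc.LocQuot (f x') ξ h)] (hx' : FibGen f x')
    (hb : b ξ ≠ b (f x')) (π : S.presheaf.stalk (b (f x')))
    (hπ : IsLocalRing.maximalIdeal (S.presheaf.stalk (b (f x'))) = Ideal.span {π}) :
    ((spLen b (f x') ξ h).toNat : ℤ) * ((mult f x').toNat : ℤ) =
      ∑ᶠ ξ' : GenPts f ξ x', ((mult f ξ'.1).toNat : ℤ) *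
        ((spLen (f ≫ b) x' ξ'.1 ξ'.2.2.2).toNat : ℤ) := by
  have hfin := finite_genPts f h
  have ha : Cyc.specMap (f x') ξ h ((b.stalkMap (f x')).hom π) ≠ 0 :=
    fun h0 => hb ((mem_ker_iff b h π hπ).1 h0)
  have key := core f h hx' _ ha
  have h1 : ∀ ξ' : GenPts f ξ x', spLen (f ≫ b) x' ξ'.1 ξ'.2.2.2 =
      ordP ξ'.2.2.2 ((f.stalkMap x').hom ((b.stalkMap (f x')).hom π)) := by
    intro ξ'
    rw [spLen_eq_ordP (f ≫ b) ξ'.2.2.2 π hπ]
    exact congrArg (ordP ξ'.2.2.2)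
      (congrArg (fun φ => φ π) (congrArg CommRingCat.Hom.hom (Scheme.Hom.stalkMap_comp f b x')))
  have h3 := congrArg (fun n : ℕ∞ => ((n.toNat : ℕ) : ℤ)) key
  simp only at h3
  rw [toNat_finsum] at h3
  · simp only [ENat.toNat_mul, Nat.cast_mul] at h3
    rw [spLen_eq_ordP b h π hπ, h3]
    exact finsum_congr fun ξ' => by rw [h1]
  · intro ξ'
    have := krullDimLE_one_genPt f h hx' ξ'
    have h2 : Cyc.specMap x' ξ'.1 ξ'.2.2.2 ((f.stalkMap x').hom ((b.stalkMap (f x')).hom π)) ≠ 0 := by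
      rw [← pullRes_specMap f ξ'.2.2.2 ξ'.2.1 h]
      exact (map_ne_zero _).2 ha
    have h4 : (Ideal.Quotient.mk (RingHom.ker (Cyc.specMap x' ξ'.1 ξ'.2.2.2))
        ((f.stalkMap x').hom ((b.stalkMap (f x')).hom π))) ≠ 0 :=
      fun h0 => h2 (Ideal.Quotient.eq_zero_iff_mem.1 h0)
    exact WithTop.mul_ne_top (mult_ne_top f ξ'.2.2.1)
      (Ring.ord_ne_top (mem_nonZeroDivisors_of_ne_zero h4))

end General

section Delta

variable {X' X S : Scheme.{u}} (f : X' ⟶ X) (b : X ⟶ S) (y : S) [LocallyOfFiniteType f]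

theorem deltaCompat_fmap {δ' : ↥((f ≫ b).fiber y) → ℤ} {δ : ↥(b.fiber y) → ℤ}
    (h' : Cyc.DeltaCompat ((f ≫ b).fiberToSpecResidueField y) δ' (fun _ => 0))
    (h : Cyc.DeltaCompat (b.fiberToSpecResidueField y) δ (fun _ => 0))
    (z : ↥((f ≫ b).fiber y)) :
    ∃ n : ℕ, rtd f ((f ≫ b).fiberι y z) = n ∧ δ' z = δ (fmap f b y z) + n := by
  obtain ⟨n, hn, hn'⟩ := (deltaCompat_iff.1 h') z
  obtain ⟨m, hm, hm'⟩ := (deltaCompat_iff.1 h) (fmap f b y z)
  obtain ⟨k, hk⟩ := Cardinal.lt_aleph0.1 (rtd_lt_aleph0 f ((f ≫ b).fiberι y z))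
  refine ⟨k, hk, ?_⟩
  have h1 := rtd_comp (fmap f b y) (b.fiberToSpecResidueField y) z
  rw [hm, rtd_fmap, hk, fmap_comp_toSpec, hn] at h1
  have h2 : n = m + k := by exact_mod_cast h1
  rw [hn', hm', h2]
  push_cast
  ring

variable {e : ℕ} (he : Cyc.HasRelDim f e)

include he in
theorem delta_fmap_le {δ' : ↥((f ≫ b).fiber y) → ℤ} {δ : ↥(b.fiber y) → ℤ}
    (h' : Cyc.DeltaCompat ((f ≫ b).fiberToSpecResidueField y) δ' (fun _ => 0))
    (h : Cyc.DeltaCompat (b.fiberToSpecResidueField y) δ (fun _ => 0))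
    (z : ↥((f ≫ b).fiber y)) : δ' z ≤ δ (fmap f b y z) + e := by
  obtain ⟨n, hn, hn'⟩ := deltaCompat_fmap f b y h' h z
  have h1 := rtd_le he ((f ≫ b).fiberι y z)
  rw [hn] at h1
  have h2 : n ≤ e := by exact_mod_cast h1
  omega

include he in
theorem fibGen_iff_delta {δ' : ↥((f ≫ b).fiber y) → ℤ} {δ : ↥(b.fiber y) → ℤ}
    (h' : Cyc.DeltaCompat ((f ≫ b).fiberToSpecResidueField y) δ' (fun _ => 0))
    (h : Cyc.DeltaCompat (b.fiberToSpecResidueField y) δ (fun _ => 0))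
    (z : ↥((f ≫ b).fiber y)) :
    FibGen f ((f ≫ b).fiberι y z) ↔ δ' z = δ (fmap f b y z) + e := by
  obtain ⟨n, hn, hn'⟩ := deltaCompat_fmap f b y h' h z
  refine (fibGeneric_iff he _).trans ?_
  rw [hn, hn']
  constructor
  · intro h1
    have h2 : n = e := by exact_mod_cast h1
    rw [h2]
  · intro h1
    have h2 : n = e := by omega
    rw [h2]

end Delta

section Main

theorem krullDimLE_congr {X : Scheme.{u}} {x y ξ : X} (hxy : x = y) (h : ξ ⤳ x) (h' : ξ ⤳ y)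
    (hk : Ring.KrullDimLE 1 (Cyc.LocQuot x ξ h)) : Ring.KrullDimLE 1 (Cyc.LocQuot y ξ h') := by
  subst hxy; exact hk

variable {R : Type u} [CommRing R] [IsDomain R] [IsDiscreteValuationRing R]
  {X' X : Scheme.{u}} (b : X ⟶ Spec (CommRingCat.of R)) [LocallyOfFiniteType b]
  (f : X' ⟶ X) [Flat f] [LocallyOfFiniteType f] {e : ℕ} (he : Cyc.HasRelDim f e)
  {δX'η : ↥((f ≫ b).fiber (genericPoint ↥(Spec (CommRingCat.of R)))) → ℤ}
  {δX's : ↥((f ≫ b).fiber (IsLocalRing.closedPoint R)) → ℤ}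
  {δXη : ↥(b.fiber (genericPoint ↥(Spec (CommRingCat.of R)))) → ℤ}
  {δXs : ↥(b.fiber (IsLocalRing.closedPoint R)) → ℤ}
  (h1 : Cyc.DeltaCompat
    ((f ≫ b).fiberToSpecResidueField (genericPoint ↥(Spec (CommRingCat.of R)))) δX'η (fun _ => 0))
  (h2 : Cyc.DeltaCompat
    ((f ≫ b).fiberToSpecResidueField (IsLocalRing.closedPoint R)) δX's (fun _ => 0))
  (h3 : Cyc.DeltaCompat
    (b.fiberToSpecResidueField (genericPoint ↥(Spec (CommRingCat.of R)))) δXη (fun _ => 0))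
  (h4 : Cyc.DeltaCompat
    (b.fiberToSpecResidueField (IsLocalRing.closedPoint R)) δXs (fun _ => 0))
  (r : ℤ)

include h3 h4 in
theorem spLen_mul_mult_fiber (P' : ↥((f ≫ b).fiber (IsLocalRing.closedPoint R)))
    (hP' : FibGen f ((f ≫ b).fiberι _ P'))
    (ζ : ↥(b.fiber (genericPoint ↥(Spec (CommRingCat.of R)))))
    (hζ : δXη ζ = r) (hP : δXs (fmap f b _ P') = r)
    (h : b.fiberι _ ζ ⤳ b.fiberι _ (fmap f b _ P')) :
    ((spLen b (b.fiberι _ (fmap f b _ P')) (b.fiberι _ ζ) h).toNat : ℤ) *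
      ((mult f ((f ≫ b).fiberι _ P')).toNat : ℤ) =
      ∑ᶠ ξ' : GenPts f (b.fiberι _ ζ) ((f ≫ b).fiberι _ P'), ((mult f ξ'.1).toNat : ℤ) *
        ((spLen (f ≫ b) _ ξ'.1 ξ'.2.2.2).toNat : ℤ) := by
  have i1 : IsLocallyNoetherian X := LocallyOfFiniteType.isLocallyNoetherian b
  have i2 : IsLocallyNoetherian X' := LocallyOfFiniteType.isLocallyNoetherian (f ≫ b)
  obtain ⟨d, hd, hle⟩ := dim_fiber b δXη δXs h3 h4 ζ (fmap f b _ P') h
  have hd1 : d ≤ 1 := by omega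
  have hk : Ring.KrullDimLE 1
      (Cyc.LocQuot (b.fiberι _ (fmap f b _ P')) (b.fiberι _ ζ) h) := by
    rw [Ring.krullDimLE_iff, hd]
    exact_mod_cast hd1
  have hfp := fiberι_fmap f b _ P'
  have h' : b.fiberι _ ζ ⤳ f ((f ≫ b).fiberι _ P') := hfp ▸ h
  have hk' := krullDimLE_congr hfp h h' hk
  rw [spLen_congr b hfp rfl h h']
  obtain ⟨π, hπ⟩ := exists_maximalIdeal_stalk_eq_span R (b (f ((f ≫ b).fiberι _ P')))
  refine spLen_mul_mult f b h' hP' ?_ π hπ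
  intro h0
  exact genericPoint_ne_closedPoint R ((apply_fiberι b _ ζ).symm.trans
    (h0.trans ((congrArg b hfp).symm.trans (apply_fiberι b _ _))))

include he h1 h2 h3 h4 in
/-- The main case. -/
theorem main_case (α : AlgebraicCycle (b.fiber (genericPoint ↥(Spec (CommRingCat.of R)))) ℤ)
    (P' : ↥((f ≫ b).fiber (IsLocalRing.closedPoint R)))
    (hP : δXs (fmap f b _ P') = r) (hPP' : δX's P' = r + e) :
    ∑ᶠ ζ' : {ζ' : ↥((f ≫ b).fiber (genericPoint ↥(Spec (CommRingCat.of R)))) //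
        δX'η ζ' = r + e ∧ ((f ≫ b).fiberι _ ζ') ⤳ ((f ≫ b).fiberι _ P')},
      (if δX'η ζ'.1 = δXη (fmap f b _ ζ'.1) + e then
        α (fmap f b _ ζ'.1) * ((mult (fmap f b _) ζ'.1).toNat : ℤ) else 0) *
        ((spLen (f ≫ b) ((f ≫ b).fiberι _ P') ((f ≫ b).fiberι _ ζ'.1) ζ'.2.2).toNat : ℤ) =
    (∑ᶠ ζ : {ζ : ↥(b.fiber (genericPoint ↥(Spec (CommRingCat.of R)))) //
        δXη ζ = r ∧ (b.fiberι _ ζ) ⤳ (b.fiberι _ (fmap f b _ P'))},
      α ζ.1 * ((spLen b (b.fiberι _ (fmap f b _ P')) (b.fiberι _ ζ.1) ζ.2.2).toNat : ℤ)) *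
      ((mult f ((f ≫ b).fiberι _ P')).toNat : ℤ) := by
  have i1 : IsLocallyNoetherian X := LocallyOfFiniteType.isLocallyNoetherian b
  have i2 : IsLocallyNoetherian X' := LocallyOfFiniteType.isLocallyNoetherian (f ≫ b)
  have hP' : FibGen f ((f ≫ b).fiberι _ P') :=
    (fibGen_iff_delta f b _ he h2 h4 P').2 (by rw [hP, hPP'])
  have hfp := fiberι_fmap f b _ P'
  -- the finite set of points with nonzero coefficient
  let T : Set ↥(b.fiber (genericPoint ↥(Spec (CommRingCat.of R)))) :=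
    {ζ | α ζ ≠ 0 ∧ δXη ζ = r ∧ (b.fiberι _ ζ) ⤳ (b.fiberι _ (fmap f b _ P'))}
  have hT : T.Finite := by
    obtain ⟨U, hU, hxU, -⟩ := exists_isAffineOpen_mem_and_subset (X := X)
      (x := b.fiberι _ (fmap f b _ P')) (U := ⊤) trivial
    have hqc : QuasiCompact (b.fiberι (genericPoint ↥(Spec (CommRingCat.of R)))) :=
      inferInstanceAs (QuasiCompact (pullback.fst b ((Spec (CommRingCat.of R)).fromSpecResidueField
        (genericPoint ↥(Spec (CommRingCat.of R))))))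
    refine (Push.finite_support_preimage (b.fiberι _) α U hU.isCompact).subset ?_
    rintro ζ ⟨h0, -, h5⟩
    exact ⟨h5.mem_open U.2 hxU, h0⟩
  have : Finite T := hT
  -- lift
  have hlift : ∀ (ζ : T) (ξ' : GenPts f (b.fiberι _ ζ.1) ((f ≫ b).fiberι _ P')),
      ∃ ζ' : ↥((f ≫ b).fiber (genericPoint ↥(Spec (CommRingCat.of R)))),
        (f ≫ b).fiberι _ ζ' = ξ'.1 := by
    intro ζ ξ'
    refine FiberKer.exists_fiberι_eq (f ≫ b) _ _ ?_
    rw [Scheme.Hom.comp_apply, ξ'.2.1]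
    exact apply_fiberι b _ ζ.1
  choose g hg using hlift
  have hfg : ∀ ζ ξ', fmap f b _ (g ζ ξ') = ζ.1 := by
    intro ζ ξ'
    apply FiberKer.fiberι_injective b _
    rw [fiberι_fmap, hg, ξ'.2.1]
  have hgen : ∀ ζ ξ', FibGen f ((f ≫ b).fiberι _ (g ζ ξ')) := by
    intro ζ ξ'
    rw [hg]
    exact ξ'.2.2.1
  have hdg : ∀ ζ ξ', δX'η (g ζ ξ') = δXη (fmap f b _ (g ζ ξ')) + e := by
    intro ζ ξ'
    exact (fibGen_iff_delta f b _ he h1 h3 _).1 (hgen ζ ξ')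
  have hfinG : ∀ ζ : T, Finite (GenPts f (b.fiberι _ ζ.1) ((f ≫ b).fiberι _ P')) :=
    fun ζ => finite_genPts f (hfp ▸ ζ.2.2.2)
  let G : (Σ ζ : T, GenPts f (b.fiberι _ ζ.1) ((f ≫ b).fiberι _ P')) →
    {ζ' : ↥((f ≫ b).fiber (genericPoint ↥(Spec (CommRingCat.of R)))) //
        δX'η ζ' = r + e ∧ ((f ≫ b).fiberι _ ζ') ⤳ ((f ≫ b).fiberι _ P')} := fun p =>
    ⟨g p.1 p.2, by rw [hdg, hfg, p.1.2.2.1], by rw [hg]; exact p.2.2.2.2⟩
  have hGinj : Function.Injective G := by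
    rintro ⟨ζ, ξ⟩ ⟨ζ', ξ'⟩ h
    have h5 : g ζ ξ = g ζ' ξ' := congrArg Subtype.val h
    have h6 : ζ = ζ' := by
      apply Subtype.ext
      rw [← hfg ζ ξ, h5, hfg]
    subst h6
    have h7 : ξ = ξ' := by
      apply Subtype.ext
      rw [← hg ζ ξ, h5, hg]
    rw [h7]
  rw [← finsum_comp_injective G hGinj _ ?_]
  · rw [finsum_sigma_finite]
    rw [← finsum_comp_injective (fun ζ : T => (⟨ζ.1, ζ.2.2⟩ :
      {ζ : ↥(b.fiber (genericPoint ↥(Spec (CommRingCat.of R)))) //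
        δXη ζ = r ∧ (b.fiberι _ ζ) ⤳ (b.fiberι _ (fmap f b _ P'))}))
        (fun a c hac => Subtype.ext (by have h9 := congrArg Subtype.val hac; exact h9)) _ ?_]
    · rw [finsum_mul]
      refine finsum_congr fun ζ => ?_
      rw [mul_assoc, spLen_mul_mult_fiber b f h3 h4 r P' hP' ζ.1 ζ.2.2.1 hP ζ.2.2.2,
        mul_finsum]
      refine finsum_congr fun ξ' => ?_
      have h5 := hdg ζ ξ'
      have h6 := hfg ζ ξ'
      simp only [G]
      rw [if_pos h5, h6, mult_fmap, mul_assoc]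
      congr 2
      · rw [hg]
      · rw [spLen_congr (f ≫ b) rfl (hg ζ ξ')]
    · intro ζ hζ
      by_cases h5 : α ζ.1 = 0
      · rw [h5, zero_mul]
      · exact (hζ ⟨⟨ζ.1, h5, ζ.2⟩, rfl⟩).elim
  · intro ζ' hζ'
    by_cases h5 : δX'η ζ'.1 = δXη (fmap f b _ ζ'.1) + e
    · rw [if_pos h5]
      by_cases h6 : α (fmap f b _ ζ'.1) = 0
      · rw [h6, zero_mul, zero_mul]
      · exfalso
        apply hζ'
        have h7 : δXη (fmap f b _ ζ'.1) = r := by
          have := ζ'.2.1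
          omega
        have h8 : b.fiberι _ (fmap f b _ ζ'.1) ⤳ b.fiberι _ (fmap f b _ P') := by
          rw [fiberι_fmap, hfp]
          exact ζ'.2.2.map f.continuous
        refine ⟨⟨⟨fmap f b _ ζ'.1, h6, h7, h8⟩, ⟨(f ≫ b).fiberι _ ζ'.1,
          (fiberι_fmap f b _ ζ'.1).symm, (fibGen_iff_delta f b _ he h1 h3 _).2 h5, ζ'.2.2⟩⟩, ?_⟩
        apply Subtype.ext
        apply FiberKer.fiberι_injective (f ≫ b) _
        simp only [G]
        rw [hg]
    · rw [if_neg h5, zero_mul]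

set_option backward.isDefEq.respectTransparency false in
include he h1 h2 h3 h4 in
/-- Specialization commutes with flat pullback. -/
theorem spFun_pullFun
    (α : AlgebraicCycle (b.fiber (genericPoint ↥(Spec (CommRingCat.of R)))) ℤ) :
    Cyc.spFun (f ≫ b) (genericPoint ↥(Spec (CommRingCat.of R))) (IsLocalRing.closedPoint R)
      δX'η δX's (r + e) (Cyc.pullFun (fmap f b _) δX'η δXη e ⇑α) =
    Cyc.pullFun (fmap f b _) δX's δXs e
      (Cyc.spFun b (genericPoint ↥(Spec (CommRingCat.of R))) (IsLocalRing.closedPoint R)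
        δXη δXs r ⇑α) := by
  funext P'
  rw [spFun_apply, pullFun_apply, spFun_apply, mult_fmap]
  simp only [pullFun_apply]
  by_cases hd : δX's P' = r + e
  · rw [if_pos hd]
    by_cases hP : δXs (fmap f b _ P') = r
    · rw [if_pos hP, if_pos (hd.trans (by rw [hP]))]
      exact main_case b f he h1 h2 h3 h4 r α P' hP hd
    · rw [if_neg hP, zero_mul, ite_self]
      refine finsum_eq_zero_of_forall_eq_zero fun ζ' => ?_
      rw [if_neg, zero_mul]
      intro h5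
      have h7 : δXη (fmap f b _ ζ'.1) = r := by
        have := ζ'.2.1
        omega
      have h8 : b.fiberι _ (fmap f b _ ζ'.1) ⤳ b.fiberι _ (fmap f b _ P') := by
        rw [fiberι_fmap, fiberι_fmap]
        exact ζ'.2.2.map f.continuous
      have h9 := SpCore.delta_le b h3 h4 _ h8
      have h10 := delta_fmap_le f b _ he h2 h4 P'
      omega
  · rw [if_neg hd]
    by_cases hP : δXs (fmap f b _ P') = r
    · rw [if_neg (fun h => hd (h.trans (by rw [hP])))]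
    · rw [if_neg hP, zero_mul, ite_self]

end Main

end Groth.Agent.CycB.SpPull
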