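import Groth.Agent.CycB.SpDiv
import Groth.Agent.CycB.PushLocal
import Groth.Agent.CycB.FiberStalk
import Groth.Agent.CycB.RelDim3

/-!
# Specialization over a DVR commutes with proper pushforward (Stacks 0H4M)
-/

set_option autoImplicit false
universe u

open AlgebraicGeometry CategoryTheory TopologicalSpace CategoryTheory.Limits
open Groth.Agent.CycB.DimIneq Groth.Agent.CycB.SpDVR

namespace Groth.Agent.CycB.SpPush

theorem finsum_fiberwise {A B : Type*} (g : A → B) (u : A → ℤ) (F : B → ℤ) (T : Finset A)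
    (hT : ∀ a, u a ≠ 0 → F (g a) ≠ 0 → a ∈ T) :
    ∑ᶠ ω, (∑ᶠ a ∈ {a | g a = ω}, u a) * F ω = ∑ a ∈ T, u a * F (g a) := by
  classical
  have h1 : ∀ ω, (∑ᶠ a ∈ {a | g a = ω}, u a) * F ω = ∑ a ∈ T with g a = ω, u a * F (g a) := by
    intro ω
    by_cases hF : F ω = 0
    · rw [hF, mul_zero]
      symm
      refine Finset.sum_eq_zero fun a ha => ?_
      rw [(Finset.mem_filter.1 ha).2, hF, mul_zero]
    · rw [finsum_mem_eq_sum_of_inter_support_eq u (t := T.filter (fun a => g a = ω)) ?_,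
        Finset.sum_mul]
      · refine Finset.sum_congr rfl fun a ha => ?_
        rw [(Finset.mem_filter.1 ha).2]
      · ext a
        simp only [Set.mem_inter_iff, Set.mem_ofPred_eq, Function.mem_support, Finset.coe_filter]
        constructor
        · rintro ⟨h1, h2⟩
          exact ⟨⟨hT a h2 (h1 ▸ hF), h1⟩, h2⟩
        · rintro ⟨⟨-, h1⟩, h2⟩
          exact ⟨h1, h2⟩
  rw [finsum_congr h1, finsum_eq_sum_of_support_subset (s := T.image g)]
  · exact Finset.sum_fiberwise_of_maps_to (fun a ha => Finset.mem_image_of_mem _ ha) _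
  intro ω hω
  obtain ⟨a, ha, -⟩ := Finset.exists_ne_zero_of_sum_ne_zero (Function.mem_support.1 hω)
  exact Finset.mem_coe.2 (Finset.mem_image.2
    ⟨a, (Finset.mem_filter.1 ha).1, (Finset.mem_filter.1 ha).2⟩)

theorem finsum_swap {A B : Type*} (P : Set B) (α : A → ℤ) (d : A → B → ℤ) (m : B → ℤ)
    (T : Finset A) (hT : ∀ a, ∀ x ∈ P, α a ≠ 0 → d a x ≠ 0 → a ∈ T)
    (hfin : ∀ a ∈ T, {x | x ∈ P ∧ d a x ≠ 0}.Finite) :
    ∑ᶠ x ∈ P, (∑ᶠ a, α a * d a x) * m x = ∑ a ∈ T, α a * ∑ᶠ x ∈ P, d a x * m x := by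
  classical
  have hS : (⋃ a ∈ T, {x | x ∈ P ∧ d a x ≠ 0}).Finite := T.finite_toSet.biUnion hfin
  have hS' : ∀ x, x ∈ hS.toFinset ↔ ∃ a ∈ T, x ∈ P ∧ d a x ≠ 0 := by
    intro x; simp; tauto
  have h1 : ∀ x ∈ P, (∑ᶠ a, α a * d a x) = ∑ a ∈ T, α a * d a x := by
    intro x hx
    refine finsum_eq_sum_of_support_subset _ ?_
    intro a ha
    exact hT a x hx (left_ne_zero_of_mul ha) (right_ne_zero_of_mul ha)
  have h2 : ∑ᶠ x ∈ P, (∑ᶠ a, α a * d a x) * m x =
      ∑ x ∈ hS.toFinset, (∑ a ∈ T, α a * d a x) * m x := by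
    rw [finsum_mem_congr rfl (fun x hx => by rw [h1 x hx])]
    refine finsum_mem_eq_sum_of_inter_support_eq _ ?_
    ext x
    simp only [Set.mem_inter_iff, Function.mem_support, Finset.mem_coe, hS']
    constructor
    · rintro ⟨h3, h4⟩
      obtain ⟨a, ha, h5⟩ := Finset.exists_ne_zero_of_sum_ne_zero (left_ne_zero_of_mul h4)
      exact ⟨⟨a, ha, h3, right_ne_zero_of_mul h5⟩, h4⟩
    · rintro ⟨⟨a, ha, h3, h5⟩, h4⟩
      exact ⟨h3, h4⟩
  have h3 : ∀ a ∈ T, ∑ᶠ x ∈ P, d a x * m x = ∑ x ∈ hS.toFinset, d a x * m x := by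
    intro a ha
    refine finsum_mem_eq_sum_of_inter_support_eq _ ?_
    ext x
    simp only [Set.mem_inter_iff, Function.mem_support, Finset.mem_coe, hS']
    constructor
    · rintro ⟨h3, h4⟩
      exact ⟨⟨a, ha, h3, left_ne_zero_of_mul h4⟩, h4⟩
    · rintro ⟨⟨a, ha, h3, h5⟩, h4⟩
      exact ⟨h3, h4⟩
  rw [h2]
  have h4 : ∑ a ∈ T, α a * ∑ᶠ x ∈ P, d a x * m x =
      ∑ a ∈ T, α a * ∑ x ∈ hS.toFinset, d a x * m x :=
    Finset.sum_congr rfl (fun a ha => by rw [h3 a ha])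
  rw [h4]
  simp only [Finset.sum_mul, Finset.mul_sum]
  rw [Finset.sum_comm]
  refine Finset.sum_congr rfl fun a _ => Finset.sum_congr rfl fun x _ => ?_
  ring

theorem apply_square {X Y X' Y' : Scheme.{u}} {f : X ⟶ Y} {f' : X' ⟶ Y'} {i : X' ⟶ X} {j : Y' ⟶ Y}
    (h : f' ≫ j = i ≫ f) (x : X') : f (i x) = j (f' x) := by
  rw [← Scheme.Hom.comp_apply, ← Scheme.Hom.comp_apply, h]

theorem mapCoeff_square {X Y X' Y' : Scheme.{u}} {f : X ⟶ Y} {f' : X' ⟶ Y'} {i : X' ⟶ X}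
    {j : Y' ⟶ Y} [SurjectiveOnStalks i] [SurjectiveOnStalks j]
    (h : f' ≫ j = i ≫ f) {δX : X → ℤ} {δY : Y → ℤ} {δX' : X' → ℤ} {δY' : Y' → ℤ} (c : ℤ)
    (hX : ∀ x, δX (i x) = δX' x + c) (hY : ∀ y, δY (j y) = δY' y + c) (x : X') :
    AlgebraicCycle.mapCoeff f' δX' δY' x = AlgebraicCycle.mapCoeff f δX δY (i x) := by
  have h1 := apply_square h x
  have h2 : f'.residueDegree x = f.residueDegree (i x) := by
    have e1 := Push.residueDegree_comp f' j x
    have e2 := Push.residueDegree_comp i f x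
    rw [FiberStalk.residueDegree_of_surjectiveOnStalks j, one_mul] at e1
    rw [FiberStalk.residueDegree_of_surjectiveOnStalks i, mul_one] at e2
    rw [← e1, ← e2, h]
  have h3 : δX (i x) = δY (f (i x)) ↔ δX' x = δY' (f' x) := by
    rw [h1, hX, hY]; omega
  unfold AlgebraicCycle.mapCoeff
  rw [h2]
  simp only [h3]

variable {R : Type u} [CommRing R] [IsDomain R] [IsDiscreteValuationRing R]
  {X Y : Scheme.{u}} (b : Y ⟶ Spec (CommRingCat.of R)) (f : X ⟶ Y)

omit [IsDomain R] [IsDiscreteValuationRing R] in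
theorem normGen_unif (ϖ : R) (ξ : X) :
    Cyc.normGen f ξ (SpDiv.unif (f ≫ b) ϖ ξ) = SpDiv.unif b ϖ (f ξ) ^ f.residueDegree ξ := by
  rw [SpDiv.unif_comp]
  let i1 : Algebra (Y.residueField (f ξ)) (X.residueField ξ) := (f.residueFieldMap ξ).hom.toAlgebra
  exact Algebra.norm_algebraMap _

theorem divFun_unif_push [LocallyOfFiniteType b] [IsProper f] {δX : X → ℤ} {δY : Y → ℤ}
    (hX : Cyc.IsSetup X δX) (hY : Cyc.IsSetup Y δY) (hδ : Cyc.DeltaCompat f δX δY) {ϖ : R}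
    (hϖ : Irreducible ϖ) (ξ : X) (hξ : b (f ξ) ≠ IsLocalRing.closedPoint R) (y : Y)
    (hy : b y = IsLocalRing.closedPoint R) :
    ∑ᶠ x ∈ {x : X | f x = y}, Cyc.divFun δX ξ (SpDiv.unif (f ≫ b) ϖ ξ) x *
      (AlgebraicCycle.mapCoeff f δX δY x : ℤ) =
    (AlgebraicCycle.mapCoeff f δX δY ξ : ℤ) * Cyc.divFun δY (f ξ) (SpDiv.unif b ϖ (f ξ)) y := by
  have hnoeth := hY.1
  by_cases heq : δX ξ = δY (f ξ)
  · rw [PushLocal.finsum_divFun_of_eq hX.2.2 hY.2.2 f hδ ξ _
      (SpDiv.unif_ne_zero (f ≫ b) hϖ ξ hξ) heq y, normGen_unif, OrdFrac.divFun_pow,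
      AlgebraicCycle.mapCoeff, if_pos heq]
    simp
  · rw [AlgebraicCycle.mapCoeff, if_neg heq, Nat.cast_zero, zero_mul]
    refine finsum_mem_of_eqOn_zero ?_
    rintro x rfl
    by_contra hne
    have h1 := left_ne_zero_of_mul hne
    have h2 := right_ne_zero_of_mul hne
    have h3 : ξ ⤳ x ∧ δX x + 1 = δX ξ := by
      by_contra h3
      exact h1 (dif_neg h3)
    have h4 : δX x = δY (f x) := by
      by_contra h4
      apply h2
      rw [AlgebraicCycle.mapCoeff, if_neg h4]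
      rfl
    obtain ⟨n, -, hn⟩ := hδ ξ
    have h5 : f ξ ≠ f x := fun e => hξ (e ▸ hy)
    have h6 := LocQuot.lt_of_specializes hY.2.2 (h3.1.map f.continuous) h5
    omega

/-- the divisor function of a uniformizer, at all points simultaneously -/
noncomputable def D (ϖ : R) (δY : Y → ℤ) (z : Y) : Y → ℤ :=
  Cyc.divFun δY z (SpDiv.unif b ϖ z)

/-- **Stacks 0H4M**, abstract form. -/
theorem main [LocallyOfFiniteType b] [IsProper f] {δXη δXs δYη δYs}
    (hXη : Cyc.DeltaCompat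
      ((f ≫ b).fiberToSpecResidueField (genericPoint ↥(Spec (CommRingCat.of R)))) δXη (fun _ => 0))
    (hXs : Cyc.DeltaCompat
      ((f ≫ b).fiberToSpecResidueField (IsLocalRing.closedPoint R)) δXs (fun _ => 0))
    (hYη : Cyc.DeltaCompat
      (b.fiberToSpecResidueField (genericPoint ↥(Spec (CommRingCat.of R)))) δYη (fun _ => 0))
    (hYs : Cyc.DeltaCompat
      (b.fiberToSpecResidueField (IsLocalRing.closedPoint R)) δYs (fun _ => 0))
    (fη : (f ≫ b).fiber (genericPoint ↥(Spec (CommRingCat.of R))) ⟶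
      b.fiber (genericPoint ↥(Spec (CommRingCat.of R))))
    (fs : (f ≫ b).fiber (IsLocalRing.closedPoint R) ⟶ b.fiber (IsLocalRing.closedPoint R))
    (hη : fη ≫ b.fiberι _ = (f ≫ b).fiberι _ ≫ f)
    (hs : fs ≫ b.fiberι _ = (f ≫ b).fiberι _ ≫ f)
    (_ : QuasiCompact fη) (_ : QuasiCompact fs) (r : ℤ)
    (α : AlgebraicCycle ((f ≫ b).fiber (genericPoint ↥(Spec (CommRingCat.of R)))) ℤ)
    (hα : ∀ ζ, δXη ζ ≠ r → α ζ = 0)
    (β : AlgebraicCycle ((f ≫ b).fiber (IsLocalRing.closedPoint R)) ℤ)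
    (hβ : ⇑β = Cyc.spFun (f ≫ b) (genericPoint ↥(Spec (CommRingCat.of R)))
      (IsLocalRing.closedPoint R) δXη δXs r ⇑α) :
    Cyc.spFun b (genericPoint ↥(Spec (CommRingCat.of R))) (IsLocalRing.closedPoint R) δYη δYs r
      ⇑(AlgebraicCycle.map fη δXη δYη α) = ⇑(AlgebraicCycle.map fs δXs δYs β) := by
  classical
  obtain ⟨ϖ, hϖ⟩ := IsDiscreteValuationRing.exists_irreducible R
  obtain ⟨δY, hδY⟩ := SetupLft.exists_deltaCompat b (SetupDVR.dR R)
  obtain ⟨δX, hδ⟩ := SetupLft.exists_deltaCompat f δY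
  have hδX : Cyc.DeltaCompat (f ≫ b) δX (SetupDVR.dR R) := RelDim.deltaCompat_comp hδ hδY
  have hY : Cyc.IsSetup Y δY := SetupLft.isSetup_of_deltaCompat b (SetupDVR.isSetup_spec_dvr R) hδY
  have hX : Cyc.IsSetup X δX := SetupLft.isSetup_of_deltaCompat f hY hδ
  have hnX := hX.1
  have hnY := hY.1
  -- comparison of the coefficients
  have hmη : ∀ ζ, AlgebraicCycle.mapCoeff fη δXη δYη ζ =
      AlgebraicCycle.mapCoeff f δX δY ((f ≫ b).fiberι _ ζ) :=
    mapCoeff_square hη 1 (SpDiv.delta_generic (f ≫ b) hXη hδX) (SpDiv.delta_generic b hYη hδY)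
  have hms : ∀ x, AlgebraicCycle.mapCoeff fs δXs δYs x =
      AlgebraicCycle.mapCoeff f δX δY ((f ≫ b).fiberι _ x) :=
    mapCoeff_square hs 0 (by simpa using SpDiv.delta_closed (f ≫ b) hXs hδX)
      (by simpa using SpDiv.delta_closed b hYs hδY)
  funext y
  -- the finite set of relevant points
  let T : Set ↥((f ≫ b).fiber (genericPoint ↥(Spec (CommRingCat.of R)))) :=
    {ζ | α ζ ≠ 0 ∧ b.fiberι _ (fη ζ) ⤳ b.fiberι _ y}
  have hT : T.Finite := by
    obtain ⟨V, hV, hyV, -⟩ := exists_isAffineOpen_mem_and_subset (X := Y) (x := b.fiberι _ y)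
      (U := ⊤) trivial
    have hqc : QuasiCompact ((f ≫ b).fiberι (genericPoint ↥(Spec (CommRingCat.of R)))) :=
      MorphismProperty.pullback_fst _ _ inferInstance
    refine (Push.finite_support_preimage ((f ≫ b).fiberι _ ≫ f) α V hV.isCompact).subset ?_
    rintro ζ ⟨h1, h2⟩
    refine ⟨?_, h1⟩
    rw [← apply_square hη] at h2
    exact h2.mem_open V.2 hyV
  have hTmem : ∀ ζ, ζ ∈ hT.toFinset ↔
      (α ζ ≠ 0 ∧ b.fiberι _ (fη ζ) ⤳ b.fiberι _ y) := fun ζ => Set.Finite.mem_toFinset hT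
  -- the left hand side
  have hL : Cyc.spFun b (genericPoint ↥(Spec (CommRingCat.of R))) (IsLocalRing.closedPoint R)
      δYη δYs r ⇑(AlgebraicCycle.map fη δXη δYη α) y =
      ∑ ζ ∈ hT.toFinset, α ζ * (AlgebraicCycle.mapCoeff fη δXη δYη ζ : ℤ) *
        D b ϖ δY (b.fiberι _ (fη ζ)) (b.fiberι _ y) := by
    rw [SpDiv.spFun_eq_finsum b hYη hYs hδY hϖ]
    · exact finsum_fiberwise fη (fun ζ => α ζ * (AlgebraicCycle.mapCoeff fη δXη δYη ζ : ℤ))
        (fun ω => D b ϖ δY (b.fiberι _ ω) (b.fiberι _ y)) hT.toFinset (by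
          intro ζ h1 h2
          rw [hTmem]
          refine ⟨left_ne_zero_of_mul h1, ?_⟩
          by_contra h3
          exact h2 (dif_neg (fun h4 => h3 h4.1)))
    · intro ω hω
      rw [Push.map_apply]
      refine finsum_mem_of_eqOn_zero ?_
      rintro ζ (rfl : fη ζ = ω)
      change α ζ * (AlgebraicCycle.mapCoeff fη δXη δYη ζ : ℤ) = 0
      by_cases h1 : δXη ζ = δYη (fη ζ)
      · rw [hα ζ (h1.trans_ne hω), zero_mul]
      · rw [AlgebraicCycle.mapCoeff, if_neg h1, Nat.cast_zero, mul_zero]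
  -- the right hand side
  have hR : AlgebraicCycle.map fs δXs δYs β y =
      ∑ ζ ∈ hT.toFinset, α ζ * ∑ᶠ x ∈ {x | fs x = y},
        D (f ≫ b) ϖ δX ((f ≫ b).fiberι _ ζ) ((f ≫ b).fiberι _ x) *
          (AlgebraicCycle.mapCoeff fs δXs δYs x : ℤ) := by
    rw [Push.map_apply, hβ]
    simp only [SpDiv.spFun_eq_finsum (f ≫ b) hXη hXs hδX hϖ r α hα]
    refine finsum_swap {x | fs x = y} α
      (fun ζ x => D (f ≫ b) ϖ δX ((f ≫ b).fiberι _ ζ) ((f ≫ b).fiberι _ x))
      (fun x => (AlgebraicCycle.mapCoeff fs δXs δYs x : ℤ)) hT.toFinset ?_ ?_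
    · intro ζ x hx h1 h2
      rw [hTmem]
      refine ⟨h1, ?_⟩
      by_contra h3
      refine h2 (dif_neg (fun h4 => h3 ?_))
      have h5 := h4.1.map f.continuous
      rw [apply_square hη, apply_square hs] at h5
      rwa [show fs x = y from hx] at h5
    · intro ζ _
      obtain ⟨z, hz⟩ : ∃ z : AlgebraicCycle X ℤ, ⇑z = D (f ≫ b) ϖ δX ((f ≫ b).fiberι _ ζ) :=
        DivFun.exists_cycle_divFun hX.2.2 _ _
      have h7 := Push.finite_support_fiber f z (b.fiberι _ y)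
      refine ((h7.preimage
        (((f ≫ b).fiberι (IsLocalRing.closedPoint R)).isEmbedding.injective.injOn))).subset ?_
      rintro x ⟨hx, hx'⟩
      refine ⟨?_, by rwa [hz]⟩
      rw [apply_square hs, show fs x = y from hx]
  rw [hL, hR]
  refine Finset.sum_congr rfl fun ζ hζ => ?_
  rw [mul_assoc]
  congr 1
  have hζ1 : b (f ((f ≫ b).fiberι _ ζ)) ≠ IsLocalRing.closedPoint R := by
    rw [← Scheme.Hom.comp_apply f b, apply_fiberι]
    exact genericPoint_ne_closedPoint R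
  have key := divFun_unif_push b f hX hY hδ hϖ ((f ≫ b).fiberι _ ζ) hζ1 (b.fiberι _ y)
    (apply_fiberι b _ y)
  have e1 : D b ϖ δY (b.fiberι _ (fη ζ)) (b.fiberι _ y) =
      D b ϖ δY (f ((f ≫ b).fiberι _ ζ)) (b.fiberι _ y) := by
    rw [apply_square hη]
  rw [e1, hmη]
  refine key.symm.trans ?_
  simp only [hms]
  have hinj := ((f ≫ b).fiberι (IsLocalRing.closedPoint R)).isEmbedding.injective
  have e2 : {x : X | f x = b.fiberι _ y} =
      ((f ≫ b).fiberι (IsLocalRing.closedPoint R)) '' {x | fs x = y} := by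
    ext x
    constructor
    · rintro (hx : f x = _)
      have h1 : (f ≫ b) x = IsLocalRing.closedPoint R := by
        rw [Scheme.Hom.comp_apply, hx, apply_fiberι]
      have h2 : x ∈ Set.range ((f ≫ b).fiberι (IsLocalRing.closedPoint R)) := by
        rw [Scheme.Hom.range_fiberι]
        exact h1
      obtain ⟨x, rfl⟩ := h2
      refine ⟨x, ?_, rfl⟩
      rw [apply_square hs] at hx
      exact (b.fiberι (IsLocalRing.closedPoint R)).isEmbedding.injective hx
    · rintro ⟨x, hx, rfl⟩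
      rw [Set.mem_ofPred_eq, apply_square hs, show fs x = y from hx]
  rw [e2, finsum_mem_image hinj.injOn]
  rfl

end Groth.Agent.CycB.SpPush
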