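import Groth.Agent.CycB.SpMod
import Mathlib.AlgebraicGeometry.Morphisms.ClosedImmersion
import Mathlib.AlgebraicGeometry.Morphisms.Flat

/-!
# Specialization over a DVR: closed subschemes and their fibres
-/

set_option autoImplicit false
universe u

open AlgebraicGeometry CategoryTheory TopologicalSpace CategoryTheory.Limits Pointwise TensorProduct
open Groth.Agent.CycB.DimIneq Groth.Agent.CycB.SpDVR

namespace Groth.Agent.CycB.SpSub

section Alg

/-- Localization of `A/I = B` at a prime, as an `A`-module. -/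
theorem length_localized_quot {A B A' B' : Type u} [CommRing A] [CommRing B] [CommRing A']
    [CommRing B'] [Algebra A B] [Algebra B B'] [Algebra A B'] [IsScalarTower A B B']
    [Algebra A A'] [Algebra A' B'] [IsScalarTower A A' B']
    (hs : Function.Surjective (algebraMap A B)) (hs' : Function.Surjective (algebraMap A' B'))
    (I : Ideal A) (hI : RingHom.ker (algebraMap A B) = I) (q : Ideal B) [q.IsPrime]
    (p : Ideal A) [p.IsPrime] (hpq : q.comap (algebraMap A B) = p)
    [IsLocalization.AtPrime A' p] [IsLocalization.AtPrime B' q] :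
    Module.length (Localization.AtPrime p) (LocalizedModule p.primeCompl (A ⧸ I)) =
      Module.length B' B' := by
  subst hI hpq
  let f : (A ⧸ RingHom.ker (algebraMap A B)) →ₗ[A] B' :=
    Submodule.liftQ _ (Algebra.linearMap A B') (by
      intro a ha
      rw [LinearMap.mem_ker, Algebra.linearMap_apply, IsScalarTower.algebraMap_apply A B B',
        (RingHom.mem_ker).1 ha, map_zero])
  have hf : ∀ a : A, f (Ideal.Quotient.mk _ a) = algebraMap A B' a := fun a => rfl
  have hfl : IsLocalizedModule (q.comap (algebraMap A B)).primeCompl f := by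
    refine ⟨?_, ?_, ?_⟩
    · rintro ⟨s, hsq⟩
      have h1 : IsUnit (algebraMap A B' s) := by
        rw [IsScalarTower.algebraMap_apply A B B']
        exact IsLocalization.map_units B' (⟨algebraMap A B s, hsq⟩ : q.primeCompl)
      rw [Module.End.isUnit_iff]
      obtain ⟨u, hu⟩ := h1
      refine ⟨fun x y hxy => ?_, fun y => ⟨↑u⁻¹ * y, ?_⟩⟩
      · have h2 : s • x = s • y := hxy
        rw [Algebra.smul_def, Algebra.smul_def, ← hu] at h2
        exact (Units.mul_right_inj u).1 h2
      · change s • (↑u⁻¹ * y) = y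
        rw [Algebra.smul_def, ← hu, Units.mul_inv_cancel_left]
    · intro y
      obtain ⟨⟨b, s⟩, hbs⟩ := IsLocalization.surj q.primeCompl y
      obtain ⟨a, ha⟩ := hs b
      obtain ⟨c, hc⟩ := hs s.1
      refine ⟨⟨Ideal.Quotient.mk _ a, ⟨c, ?_⟩⟩, ?_⟩
      · change algebraMap A B c ∉ q
        rw [hc]; exact s.2
      · change c • y = algebraMap A B' a
        rw [Algebra.smul_def, IsScalarTower.algebraMap_apply A B B' c, hc,
          IsScalarTower.algebraMap_apply A B B' a, ha, mul_comm]
        exact hbs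
    · intro x y hxy
      obtain ⟨x, rfl⟩ := Ideal.Quotient.mk_surjective x
      obtain ⟨y, rfl⟩ := Ideal.Quotient.mk_surjective y
      rw [hf, hf, IsScalarTower.algebraMap_apply A B B', IsScalarTower.algebraMap_apply A B B'] at hxy
      obtain ⟨s, hs2⟩ := IsLocalization.exists_of_eq (M := q.primeCompl) hxy
      obtain ⟨c, hc⟩ := hs s.1
      refine ⟨⟨c, ?_⟩, ?_⟩
      · change algebraMap A B c ∉ q
        rw [hc]; exact s.2
      · change Ideal.Quotient.mk _ (c * x) = Ideal.Quotient.mk _ (c * y)
        rw [Ideal.Quotient.mk_eq_mk_iff_sub_mem, RingHom.mem_ker, map_sub, map_mul, map_mul, hc,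
          hs2, sub_self]
  rw [SpAlg2.length_localized (q.comap (algebraMap A B)) (A ⧸ RingHom.ker (algebraMap A B)) A' B' f]
  exact Module.length_eq_of_surjective hs'

/-- Length of `(A/I)/t(A/I)` when `A/I = B`. -/
theorem length_quot_smul {A B : Type u} [CommRing A] [CommRing B] (φ : A →+* B)
    (hs : Function.Surjective φ) (I : Ideal A) (hI : RingHom.ker φ = I) (t : A) :
    Module.length A ((A ⧸ I) ⧸ (t • (⊤ : Submodule A (A ⧸ I)))) =
      Module.length B (B ⧸ Ideal.span {φ t}) := by
  subst hI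
  let : Algebra A B := φ.toAlgebra
  let g : (A ⧸ RingHom.ker φ) →ₗ[A] (B ⧸ Ideal.span {φ t}) :=
    Submodule.liftQ _ ((Ideal.Quotient.mkₐ A (Ideal.span {φ t})).toLinearMap ∘ₗ
      Algebra.linearMap A B) (by
        intro a ha
        rw [LinearMap.mem_ker, LinearMap.comp_apply, Algebra.linearMap_apply]
        have : algebraMap A B a = 0 := ha
        rw [this, map_zero])
  have hg : ∀ a : A, g (Ideal.Quotient.mk _ a) = Ideal.Quotient.mk _ (φ a) := fun a => rfl
  have hgs : Function.Surjective g := by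
    intro y
    obtain ⟨y, rfl⟩ := Ideal.Quotient.mk_surjective y
    obtain ⟨a, rfl⟩ := hs y
    exact ⟨Ideal.Quotient.mk _ a, rfl⟩
  have hk : LinearMap.ker g = t • (⊤ : Submodule A (A ⧸ RingHom.ker φ)) := by
    ext x
    obtain ⟨x, rfl⟩ := Ideal.Quotient.mk_surjective x
    rw [LinearMap.mem_ker, hg, Ideal.Quotient.eq_zero_iff_mem, Ideal.mem_span_singleton']
    rw [Submodule.mem_smul_pointwise_iff_exists]
    constructor
    · rintro ⟨b, hb⟩
      obtain ⟨c, rfl⟩ := hs b
      refine ⟨Ideal.Quotient.mk _ c, trivial, ?_⟩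
      change Ideal.Quotient.mk _ (t * c) = _
      rw [Ideal.Quotient.mk_eq_mk_iff_sub_mem, RingHom.mem_ker, map_sub, map_mul, ← hb, mul_comm,
        sub_self]
    · rintro ⟨m, -, hm⟩
      obtain ⟨c, rfl⟩ := Ideal.Quotient.mk_surjective m
      refine ⟨φ c, ?_⟩
      have h1 : Ideal.Quotient.mk (RingHom.ker φ) (t * c) = Ideal.Quotient.mk _ x := hm
      rw [Ideal.Quotient.mk_eq_mk_iff_sub_mem, RingHom.mem_ker, map_sub, map_mul, sub_eq_zero] at h1
      rw [← h1, mul_comm]
  rw [← (Submodule.quotEquivOfEq _ _ hk).length_eq, (g.quotKerEquivOfSurjective hgs).length_eq]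
  exact Module.length_eq_of_surjective (R := B) hs

end Alg

section Fibre

variable {W X Y : Scheme.{u}} (i : W ⟶ X) (f : X ⟶ Y) (y : Y)

/-- the fibre of `W` inside the fibre of `X` -/
noncomputable def fibIso : pullback i (f.fiberι y) ≅ (i ≫ f).fiber y :=
  pullbackRightPullbackFstIso f (Y.fromSpecResidueField y) i

theorem fibIso_hom_fiberι : (fibIso i f y).hom ≫ (i ≫ f).fiberι y = pullback.fst _ _ :=
  pullbackRightPullbackFstIso_hom_fst _ _ _

theorem length_stalk_pullback_fiber (z : ↥(pullback i (f.fiberι y))) (w : W)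
    (hw : pullback.fst i (f.fiberι y) z = w) :
    Module.length ((pullback i (f.fiberι y)).presheaf.stalk z)
      ((pullback i (f.fiberι y)).presheaf.stalk z) =
    Module.length (W.presheaf.stalk w) (W.presheaf.stalk w ⧸ FiberStalk.fibIdeal (i ≫ f) w) := by
  have h1 : (i ≫ f).fiberι y ((fibIso i f y).hom z) = w := by
    rw [← hw, ← fibIso_hom_fiberι, Scheme.Hom.comp_apply]
  rw [FiberStalk.length_stalk_fiber' (i ≫ f) y ((fibIso i f y).hom z) w h1]
  let e := (asIso ((fibIso i f y).hom.stalkMap z)).commRingCatIsoToRingEquiv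
  exact (DivNat.length_eq_of_semilinear (e : _ →+* _) e.surjective
    { toFun := e, map_add' := map_add e, map_smul' := fun r m => map_mul e r m } e.bijective).symm

theorem exists_pullback_point (w : W) (ζ : f.fiber y) (h : i w = f.fiberι y ζ) :
    ∃ z : ↥(pullback i (f.fiberι y)), pullback.fst i (f.fiberι y) z = w ∧
      pullback.snd i (f.fiberι y) z = ζ := by
  exact Scheme.Pullback.exists_preimage_pullback w ζ h

theorem subschemeFun_of_notMem (δ : f.fiber y → ℤ) (r : ℤ) (ζ : f.fiber y)
    (h : f.fiberι y ζ ∉ Set.range i) :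
    Cyc.subschemeFun δ r (pullback.snd i (f.fiberι y)) ζ = 0 := by
  unfold Cyc.subschemeFun
  split_ifs
  · have : {z : ↥(pullback i (f.fiberι y)) | pullback.snd i (f.fiberι y) z = ζ} = ∅ := by
      ext z
      simp only [Set.mem_ofPred_eq, Set.mem_empty_iff_false, iff_false]
      rintro rfl
      apply h
      refine ⟨pullback.fst i (f.fiberι y) z, ?_⟩
      rw [← Scheme.Hom.comp_apply, pullback.condition, Scheme.Hom.comp_apply]
    rw [this]; simp
  · rfl

theorem subschemeFun_of_eq [IsClosedImmersion i] (δ : f.fiber y → ℤ) (r : ℤ) (ζ : f.fiber y) (hζ : δ ζ = r)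
    (w : W) (h : i w = f.fiberι y ζ) :
    Cyc.subschemeFun δ r (pullback.snd i (f.fiberι y)) ζ =
      ((Module.length (W.presheaf.stalk w)
        (W.presheaf.stalk w ⧸ FiberStalk.fibIdeal (i ≫ f) w)).toNat : ℤ) := by
  unfold Cyc.subschemeFun
  rw [if_pos hζ]
  obtain ⟨z, hz1, hz2⟩ := exists_pullback_point i f y w ζ h
  have : {z : ↥(pullback i (f.fiberι y)) | pullback.snd i (f.fiberι y) z = ζ} = {z} := by
    ext z'
    simp only [Set.mem_ofPred_eq, Set.mem_singleton_iff]
    constructor
    · intro h'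
      apply (pullback.snd i (f.fiberι y)).isClosedEmbedding.injective
      rw [h', hz2]
    · rintro rfl; exact hz2
  rw [this, finsum_mem_singleton, length_stalk_pullback_fiber i f y z w hz1]

end Fibre

section Ideal

variable {W X S : Scheme.{u}} (i : W ⟶ X) [IsClosedImmersion i] (a : X ⟶ S)

theorem exists_point_of_ker_le (w : W) {z' : X} (h : z' ⤳ i w)
    (hle : RingHom.ker (i.stalkMap w).hom ≤ RingHom.ker (Cyc.specMap (i w) z' h)) :
    ∃ (w' : W) (_ : w' ⤳ w), i w' = z' := by
  have hs := i.stalkMap_surjective w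
  have hpr : (Ideal.map (i.stalkMap w).hom (RingHom.ker (Cyc.specMap (i w) z' h))).IsPrime :=
    Ideal.map_isPrime_of_surjective hs hle
  obtain ⟨w', hw', he⟩ := LocQuot.exists_eq_ker
    (Ideal.map (i.stalkMap w).hom (RingHom.ker (Cyc.specMap (i w) z' h)))
  refine ⟨w', hw', ?_⟩
  have h1 := DivNat.comap_ker_specMap i w w' hw'
  rw [← he, Ideal.comap_map_of_surjective' _ hs, sup_eq_left.2 hle] at h1
  exact ((LocQuot.ker_inj h (hw'.map i.continuous)).1 h1).symm

omit [IsClosedImmersion i] in
theorem span_eq_fibIdeal (w : W) {π : S.presheaf.stalk (a (i w))}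
    (hπ : IsLocalRing.maximalIdeal (S.presheaf.stalk (a (i w))) = Ideal.span {π}) :
    Ideal.span {(i.stalkMap w).hom ((a.stalkMap (i w)).hom π)} =
      FiberStalk.fibIdeal (i ≫ a) w := by
  unfold FiberStalk.fibIdeal
  rw [Scheme.Hom.stalkMap_comp]
  change _ = Ideal.map ((i.stalkMap w).hom.comp (a.stalkMap (i w)).hom)
    (IsLocalRing.maximalIdeal (S.presheaf.stalk (a (i w))))
  rw [hπ, Ideal.map_span, Set.image_singleton]
  rfl

theorem length_localized_ker (w w' : W) (h' : w' ⤳ w) (p : Ideal (X.presheaf.stalk (i w)))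
    [p.IsPrime] (hp : p = RingHom.ker (Cyc.specMap (i w) (i w') (h'.map i.continuous))) :
    Module.length (Localization.AtPrime p) (LocalizedModule p.primeCompl
        (X.presheaf.stalk (i w) ⧸ RingHom.ker (i.stalkMap w).hom)) =
      Module.length (W.presheaf.stalk w') (W.presheaf.stalk w') := by
  subst hp
  let i1 : Algebra (X.presheaf.stalk (i w)) (W.presheaf.stalk w) := (i.stalkMap w).hom.toAlgebra
  let i2 : Algebra (W.presheaf.stalk w) (W.presheaf.stalk w') :=
    (W.presheaf.stalkSpecializes h').hom.toAlgebra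
  let i3 : Algebra (X.presheaf.stalk (i w)) (X.presheaf.stalk (i w')) :=
    (X.presheaf.stalkSpecializes (h'.map i.continuous)).hom.toAlgebra
  let i4 : Algebra (X.presheaf.stalk (i w')) (W.presheaf.stalk w') :=
    (i.stalkMap w').hom.toAlgebra
  let i5 : Algebra (X.presheaf.stalk (i w)) (W.presheaf.stalk w') :=
    ((i.stalkMap w').hom.comp (X.presheaf.stalkSpecializes (h'.map i.continuous)).hom).toAlgebra
  have t1 : IsScalarTower (X.presheaf.stalk (i w)) (X.presheaf.stalk (i w'))
      (W.presheaf.stalk w') := IsScalarTower.of_algebraMap_eq' rfl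
  have t2 : IsScalarTower (X.presheaf.stalk (i w)) (W.presheaf.stalk w)
      (W.presheaf.stalk w') := by
    refine IsScalarTower.of_algebraMap_eq' ?_
    have := Scheme.Hom.stalkSpecializes_stalkMap i w' w h'
    exact congrArg CommRingCat.Hom.hom this
  have l1 := LocQuot.isLocalization_stalkSpecializes (h'.map i.continuous)
  have l2 := LocQuot.isLocalization_stalkSpecializes h'
  exact length_localized_quot (A := X.presheaf.stalk (i w)) (B := W.presheaf.stalk w)
    (A' := X.presheaf.stalk (i w')) (B' := W.presheaf.stalk w')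
    (i.stalkMap_surjective w) (i.stalkMap_surjective w') _ rfl
    (RingHom.ker (Cyc.specMap w w' h')) _ (DivNat.comap_ker_specMap i w w' h')

omit [IsClosedImmersion i] in
theorem regular_ker [Flat (i ≫ a)] (w : W) {π : S.presheaf.stalk (a (i w))}
    (hπ : π ∈ nonZeroDivisors (S.presheaf.stalk (a (i w)))) :
    IsSMulRegular (X.presheaf.stalk (i w) ⧸ RingHom.ker (i.stalkMap w).hom)
      ((a.stalkMap (i w)).hom π) := by
  have hfl : ((i ≫ a).stalkMap w).hom.Flat := Flat.stalkMap (i ≫ a) w
  let : Algebra (S.presheaf.stalk (a (i w))) (W.presheaf.stalk w) :=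
    ((i.stalkMap w).hom.comp (a.stalkMap (i w)).hom).toAlgebra
  have hfl' : Module.Flat (S.presheaf.stalk (a (i w))) (W.presheaf.stalk w) := by
    rw [Scheme.Hom.stalkMap_comp] at hfl
    exact hfl
  have h2 : IsSMulRegular (W.presheaf.stalk w) π :=
    Module.Flat.isSMulRegular_of_nonZeroDivisors hπ
  rw [isSMulRegular_iff_right_eq_zero_of_smul]
  intro m hm
  obtain ⟨m, rfl⟩ := Ideal.Quotient.mk_surjective m
  have h3 : Ideal.Quotient.mk (RingHom.ker (i.stalkMap w).hom) ((a.stalkMap (i w)).hom π * m) = 0 :=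
    hm
  rw [Ideal.Quotient.eq_zero_iff_mem, RingHom.mem_ker, map_mul] at h3
  rw [Ideal.Quotient.eq_zero_iff_mem, RingHom.mem_ker]
  exact isSMulRegular_iff_right_eq_zero_of_smul.1 h2 _ h3

end Ideal

end Groth.Agent.CycB.SpSub
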