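import Groth.Agent.CycB.TameTransport

/-!
# The tame symbol on the fraction field of a one-dimensional Noetherian local domain
-/

set_option autoImplicit false

universe u v

namespace Groth.Agent.CycB.TameFrac

open CycAlg IsLocalRing Groth.Agent.CycB.TameTransport

/-- integer valued order on the fraction field: basic properties of `CycAlg.ordFrac` -/
theorem ordFrac_def' (R : Type u) [CommRing R] (K : Type v) [Field K] [Algebra R K]
    [IsNoetherianRing R] [Ring.KrullDimLE 1 R] [Nontrivial R] [IsFractionRing R K] (f : K) :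
    ordFrac R K f =
      WithZero.recZeroCoe (motive := fun _ => ℤ) 0 (fun z => Multiplicative.toAdd z)
        (Ring.ordFrac R f) := by
  unfold ordFrac
  rw [dif_pos ⟨inferInstance, inferInstance, inferInstance, inferInstance⟩]

theorem ordFrac_mul (R : Type u) [CommRing R] (K : Type v) [Field K] [Algebra R K] {f g : K}
    (hf : f ≠ 0) (hg : g ≠ 0) : ordFrac R K (f * g) = ordFrac R K f + ordFrac R K g := by
  by_cases h : IsNoetherianRing R ∧ Ring.KrullDimLE 1 R ∧ Nontrivial R ∧ IsFractionRing R K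
  · obtain ⟨h1, h2, h3, h4⟩ := h
    rw [ordFrac_def', ordFrac_def', ordFrac_def', map_mul]
    have hf' : Ring.ordFrac R f ≠ 0 := by simpa using hf
    have hg' : Ring.ordFrac R g ≠ 0 := by simpa using hg
    obtain ⟨a, ha⟩ := WithZero.ne_zero_iff_exists.1 hf'
    obtain ⟨b, hb⟩ := WithZero.ne_zero_iff_exists.1 hg'
    rw [← ha, ← hb, ← WithZero.coe_mul]
    rfl
  · unfold ordFrac
    rw [dif_neg h, dif_neg h, dif_neg h, add_zero]

theorem ordFrac_one (R : Type u) [CommRing R] (K : Type v) [Field K] [Algebra R K] :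
    ordFrac R K (1 : K) = 0 := by
  have := ordFrac_mul R K (f := 1) (g := 1) one_ne_zero one_ne_zero
  rw [mul_one] at this
  lia

theorem ordFrac_inv (R : Type u) [CommRing R] (K : Type v) [Field K] [Algebra R K] {f : K}
    (hf : f ≠ 0) : ordFrac R K f⁻¹ = - ordFrac R K f := by
  have := ordFrac_mul R K (f := f) (g := f⁻¹) hf (inv_ne_zero hf)
  rw [mul_inv_cancel₀ hf, ordFrac_one] at this
  lia

theorem ordFrac_div (R : Type u) [CommRing R] (K : Type v) [Field K] [Algebra R K] {f g : K}
    (hf : f ≠ 0) (hg : g ≠ 0) : ordFrac R K (f / g) = ordFrac R K f - ordFrac R K g := by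
  rw [div_eq_mul_inv, ordFrac_mul R K hf (inv_ne_zero hg), ordFrac_inv R K hg]
  rfl

theorem ordFrac_pow (R : Type u) [CommRing R] (K : Type v) [Field K] [Algebra R K] {f : K}
    (hf : f ≠ 0) (n : ℕ) : ordFrac R K (f ^ n) = n * ordFrac R K f := by
  induction n with
  | zero => simp [ordFrac_one]
  | succ n ih =>
    rw [pow_succ, ordFrac_mul R K (pow_ne_zero _ hf) hf, ih]
    push_cast
    ring

theorem ordFrac_zpow (R : Type u) [CommRing R] (K : Type v) [Field K] [Algebra R K] {f : K}
    (hf : f ≠ 0) (n : ℤ) : ordFrac R K (f ^ n) = n * ordFrac R K f := by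
  obtain ⟨n, rfl | rfl⟩ := n.eq_nat_or_neg
  · rw [zpow_natCast, ordFrac_pow R K hf]
  · rw [zpow_neg, zpow_natCast, ordFrac_inv R K (pow_ne_zero _ hf), ordFrac_pow R K hf]
    ring

theorem ordFrac_algebraMap (R : Type u) [CommRing R] (K : Type v) [Field K] [Algebra R K]
    [IsNoetherianRing R] [Ring.KrullDimLE 1 R] [Nontrivial R] [IsFractionRing R K] {a : R}
    (ha : a ∈ nonZeroDivisors R) :
    ordFrac R K (algebraMap R K a) = (Ring.ord R a).toNat := by
  have ha0 : a ≠ 0 := nonZeroDivisors.ne_zero ha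
  rw [ordFrac_def', Ring.ordFrac_eq_ord R ha0]
  obtain ⟨n, hn⟩ := ENat.ne_top_iff_exists.mp (Ring.ord_ne_top ha)
  rw [Ring.ordMonoidWithZeroHom_eq_coe R ha hn.symm, ← hn]
  rfl

section tameFrac

variable (A : Type u) [CommRing A] [IsLocalRing A] {K : Type v} [Field K] [Algebra A K]
  [IsFractionRing A K]

/-- The tame symbol on the fraction field: for x = a/b, y = c/d it is
∂(a,c) ∂(b,d) / (∂(a,d) ∂(b,c)). -/
noncomputable def tameFrac (x y : K) : ResidueField A :=
  tameSymbol A (IsLocalization.sec (nonZeroDivisors A) x).1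
      (IsLocalization.sec (nonZeroDivisors A) y).1 *
    tameSymbol A (IsLocalization.sec (nonZeroDivisors A) x).2
      (IsLocalization.sec (nonZeroDivisors A) y).2 /
    (tameSymbol A (IsLocalization.sec (nonZeroDivisors A) x).1
      (IsLocalization.sec (nonZeroDivisors A) y).2 *
    tameSymbol A (IsLocalization.sec (nonZeroDivisors A) x).2
      (IsLocalization.sec (nonZeroDivisors A) y).1)

variable {A} [IsNoetherianRing A] [IsDomain A] (hA : ringKrullDim A = 1)

omit [IsLocalRing A] [IsNoetherianRing A] in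
theorem sec_spec_nz {x : K} (hx : x ≠ 0) :
    (IsLocalization.sec (nonZeroDivisors A) x).1 ∈ nonZeroDivisors A := by
  rw [mem_nonZeroDivisors_iff_ne_zero]
  intro h
  have := IsLocalization.sec_spec (nonZeroDivisors A) x
  rw [h, map_zero, mul_eq_zero] at this
  rcases this with h1 | h1
  · exact hx h1
  · exact IsFractionRing.to_map_ne_zero_of_mem_nonZeroDivisors
      (IsLocalization.sec (nonZeroDivisors A) x).2.2 h1

include hA in
omit [IsDomain A] in
theorem ratio_left {a b a' b' y : A} (ha : a ∈ nonZeroDivisors A) (hb : b ∈ nonZeroDivisors A)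
    (ha' : a' ∈ nonZeroDivisors A) (hb' : b' ∈ nonZeroDivisors A) (hy : y ∈ nonZeroDivisors A)
    (h : a' * b = a * b') :
    tameSymbol A a' y / tameSymbol A b' y = tameSymbol A a y / tameSymbol A b y := by
  rw [div_eq_div_iff (symbol_ne_zero A hA hb' hy) (symbol_ne_zero A hA hb hy),
    ← symbol_mul_left A hA ha' hb hy, ← symbol_mul_left A hA ha hb' hy, h]

include hA in
omit [IsDomain A] in
theorem ratio_right {a b a' b' y : A} (ha : a ∈ nonZeroDivisors A) (hb : b ∈ nonZeroDivisors A)
    (ha' : a' ∈ nonZeroDivisors A) (hb' : b' ∈ nonZeroDivisors A) (hy : y ∈ nonZeroDivisors A)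
    (h : a' * b = a * b') :
    tameSymbol A y a' / tameSymbol A y b' = tameSymbol A y a / tameSymbol A y b := by
  rw [div_eq_div_iff (symbol_ne_zero A hA hy hb') (symbol_ne_zero A hA hy hb),
    ← symbol_mul_right A hA ha' hb hy, ← symbol_mul_right A hA ha hb' hy, h]

include hA in
/-- computation of the symbol on fractions -/
theorem tameFrac_eq {x y : K} {a b c d : A} (ha : a ∈ nonZeroDivisors A)
    (hb : b ∈ nonZeroDivisors A) (hc : c ∈ nonZeroDivisors A) (hd : d ∈ nonZeroDivisors A)
    (hx : x * algebraMap A K b = algebraMap A K a) (hy : y * algebraMap A K d = algebraMap A K c) :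
    tameFrac A x y = tameSymbol A a c * tameSymbol A b d / (tameSymbol A a d * tameSymbol A b c) := by
  have hinj : Function.Injective (algebraMap A K) := IsFractionRing.injective A K
  have hx0 : x ≠ 0 := by
    rintro rfl
    rw [zero_mul] at hx
    exact IsFractionRing.to_map_ne_zero_of_mem_nonZeroDivisors ha hx.symm
  have hy0 : y ≠ 0 := by
    rintro rfl
    rw [zero_mul] at hy
    exact IsFractionRing.to_map_ne_zero_of_mem_nonZeroDivisors hc hy.symm
  unfold tameFrac
  have ha' := sec_spec_nz (A := A) hx0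
  have hc' := sec_spec_nz (A := A) hy0
  have hb' := (IsLocalization.sec (nonZeroDivisors A) x).2.2
  have hd' := (IsLocalization.sec (nonZeroDivisors A) y).2.2
  have h1 := IsLocalization.sec_spec (nonZeroDivisors A) x
  have h2 := IsLocalization.sec_spec (nonZeroDivisors A) y
  set a' := (IsLocalization.sec (nonZeroDivisors A) x).1
  set b' : A := ((IsLocalization.sec (nonZeroDivisors A) x).2 : A)
  set c' := (IsLocalization.sec (nonZeroDivisors A) y).1
  set d' : A := ((IsLocalization.sec (nonZeroDivisors A) y).2 : A)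
  have e1 : a' * b = a * b' := by
    apply hinj
    rw [map_mul, map_mul, ← h1, ← hx]
    ring
  have e2 : c' * d = c * d' := by
    apply hinj
    rw [map_mul, map_mul, ← h2, ← hy]
    ring
  have r1 := ratio_left hA ha hb ha' hb' hc' e1
  have r2 := ratio_left hA ha hb ha' hb' hd' e1
  have r3 := ratio_right hA hc hd hc' hd' ha e2
  have r4 := ratio_right hA hc hd hc' hd' hb e2
  have n1 := symbol_ne_zero A hA ha' hc'
  have n2 := symbol_ne_zero A hA ha' hd'
  have n3 := symbol_ne_zero A hA hb' hc'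
  have n4 := symbol_ne_zero A hA hb' hd'
  have n5 := symbol_ne_zero A hA ha hc
  have n6 := symbol_ne_zero A hA ha hd
  have n7 := symbol_ne_zero A hA hb hc
  have n8 := symbol_ne_zero A hA hb hd
  have n9 := symbol_ne_zero A hA ha hc'
  have n10 := symbol_ne_zero A hA ha hd'
  have n11 := symbol_ne_zero A hA hb hc'
  have n12 := symbol_ne_zero A hA hb hd'
  calc tameSymbol A a' c' * tameSymbol A b' d' / (tameSymbol A a' d' * tameSymbol A b' c')
      = (tameSymbol A a' c' / tameSymbol A b' c') / (tameSymbol A a' d' / tameSymbol A b' d') := by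
        field_simp
    _ = (tameSymbol A a c' / tameSymbol A b c') / (tameSymbol A a d' / tameSymbol A b d') := by
        rw [r1, r2]
    _ = (tameSymbol A a c' / tameSymbol A a d') / (tameSymbol A b c' / tameSymbol A b d') := by
        field_simp
    _ = (tameSymbol A a c / tameSymbol A a d) / (tameSymbol A b c / tameSymbol A b d) := by
        rw [r3, r4]
    _ = _ := by field_simp

omit [IsLocalRing A] [IsNoetherianRing A] in
theorem exists_frac {x : K} (hx : x ≠ 0) : ∃ a b : A, a ∈ nonZeroDivisors A ∧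
    b ∈ nonZeroDivisors A ∧ x * algebraMap A K b = algebraMap A K a :=
  ⟨_, _, sec_spec_nz (A := A) hx, (IsLocalization.sec (nonZeroDivisors A) x).2.2,
    IsLocalization.sec_spec (nonZeroDivisors A) x⟩

include hA in
theorem tameFrac_ne_zero {x y : K} (hx : x ≠ 0) (hy : y ≠ 0) : tameFrac A x y ≠ 0 := by
  obtain ⟨a, b, ha, hb, h1⟩ := exists_frac (A := A) hx
  obtain ⟨c, d, hc, hd, h2⟩ := exists_frac (A := A) hy
  rw [tameFrac_eq hA ha hb hc hd h1 h2]
  exact div_ne_zero (mul_ne_zero (symbol_ne_zero A hA ha hc) (symbol_ne_zero A hA hb hd))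
    (mul_ne_zero (symbol_ne_zero A hA ha hd) (symbol_ne_zero A hA hb hc))

include hA in
theorem tameFrac_algebraMap {a c : A} (ha : a ∈ nonZeroDivisors A) (hc : c ∈ nonZeroDivisors A) :
    tameFrac A (algebraMap A K a) (algebraMap A K c) = tameSymbol A a c := by
  have h1 : (1 : A) ∈ nonZeroDivisors A := one_mem _
  rw [tameFrac_eq hA ha h1 hc h1 (by simp) (by simp)]
  have e1 : ∀ a : A, a ∈ nonZeroDivisors A → tameSymbol A 1 a = 1 := by
    intro a ha
    have := symbol_unit_left A hA 1 ha
    simpa using this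
  have e2 : ∀ a : A, a ∈ nonZeroDivisors A → tameSymbol A a 1 = 1 := by
    intro a ha
    have := symbol_antisymm A hA ha h1
    rwa [e1 a ha, mul_one] at this
  rw [e1 1 h1, e1 c hc, e2 a ha]
  simp

include hA in
theorem tameFrac_mul_left {x x' y : K} (hx : x ≠ 0) (hx' : x' ≠ 0) (hy : y ≠ 0) :
    tameFrac A (x * x') y = tameFrac A x y * tameFrac A x' y := by
  obtain ⟨a, b, ha, hb, h1⟩ := exists_frac (A := A) hx
  obtain ⟨a', b', ha', hb', h1'⟩ := exists_frac (A := A) hx'
  obtain ⟨c, d, hc, hd, h2⟩ := exists_frac (A := A) hy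
  have h3 : (x * x') * algebraMap A K (b * b') = algebraMap A K (a * a') := by
    rw [map_mul, map_mul, ← h1, ← h1']
    ring
  rw [tameFrac_eq hA ha hb hc hd h1 h2, tameFrac_eq hA ha' hb' hc hd h1' h2,
    tameFrac_eq hA (mul_mem ha ha') (mul_mem hb hb') hc hd h3 h2,
    symbol_mul_left A hA ha ha' hc, symbol_mul_left A hA hb hb' hd,
    symbol_mul_left A hA ha ha' hd, symbol_mul_left A hA hb hb' hc]
  field_simp

include hA in
theorem tameFrac_antisymm {x y : K} (hx : x ≠ 0) (hy : y ≠ 0) :
    tameFrac A x y * tameFrac A y x = 1 := by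
  obtain ⟨a, b, ha, hb, h1⟩ := exists_frac (A := A) hx
  obtain ⟨c, d, hc, hd, h2⟩ := exists_frac (A := A) hy
  rw [tameFrac_eq hA ha hb hc hd h1 h2, tameFrac_eq hA hc hd ha hb h2 h1]
  have n5 := symbol_antisymm A hA ha hc
  have n6 := symbol_antisymm A hA ha hd
  have n7 := symbol_antisymm A hA hb hc
  have n8 := symbol_antisymm A hA hb hd
  rw [div_mul_div_comm, div_eq_one_iff_eq]
  · calc _ = (tameSymbol A a c * tameSymbol A c a) * (tameSymbol A b d * tameSymbol A d b) := by ring
      _ = (tameSymbol A a d * tameSymbol A d a) * (tameSymbol A b c * tameSymbol A c b) := by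
        rw [n5, n6, n7, n8]
      _ = _ := by ring
  · exact mul_ne_zero (mul_ne_zero (symbol_ne_zero A hA ha hd) (symbol_ne_zero A hA hb hc))
      (mul_ne_zero (symbol_ne_zero A hA hc hb) (symbol_ne_zero A hA hd ha))

include hA in
theorem tameFrac_symm {x y : K} (hx : x ≠ 0) (hy : y ≠ 0) :
    tameFrac A y x = (tameFrac A x y)⁻¹ :=
  eq_inv_of_mul_eq_one_right (tameFrac_antisymm hA hx hy)

include hA in
theorem tameFrac_mul_right {x y y' : K} (hx : x ≠ 0) (hy : y ≠ 0) (hy' : y' ≠ 0) :
    tameFrac A x (y * y') = tameFrac A x y * tameFrac A x y' := by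
  rw [tameFrac_symm hA (mul_ne_zero hy hy') hx, tameFrac_mul_left hA hy hy' hx,
    tameFrac_symm hA hy hx, tameFrac_symm hA hy' hx, mul_inv]

include hA in
theorem tameFrac_unit_left (c : Aˣ) {y : K} (hy : y ≠ 0) :
    tameFrac A (algebraMap A K c) y = residue A (c : A) ^ (ordFrac A K y) := by
  have := krullDimLE_one A hA
  obtain ⟨a, b, ha, hb, h1⟩ := exists_frac (A := A) hy
  have hc : (c : A) ∈ nonZeroDivisors A := c.isUnit.mem_nonZeroDivisors
  have h1' : (1 : A) ∈ nonZeroDivisors A := one_mem _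
  have hr : residue A (c : A) ≠ 0 := (residue_ne_zero_iff_isUnit _).2 c.isUnit
  have hb0 : algebraMap A K b ≠ 0 := IsFractionRing.to_map_ne_zero_of_mem_nonZeroDivisors hb
  have ha0 : algebraMap A K a ≠ 0 := IsFractionRing.to_map_ne_zero_of_mem_nonZeroDivisors ha
  have hy' : y = algebraMap A K a / algebraMap A K b := by
    rw [← h1, mul_div_cancel_right₀ _ hb0]
  have e1 : ∀ a : A, a ∈ nonZeroDivisors A → tameSymbol A 1 a = 1 := by
    intro a ha
    have := symbol_unit_left A hA 1 ha
    simpa using this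
  rw [tameFrac_eq hA hc h1' ha hb (by simp) h1, e1 a ha, e1 b hb, symbol_unit_left A hA c ha,
    symbol_unit_left A hA c hb, hy', ordFrac_div A K ha0 hb0, ordFrac_algebraMap A K ha,
    ordFrac_algebraMap A K hb, zpow_sub₀ hr, zpow_natCast, zpow_natCast, mul_one, mul_one]

include hA in
theorem tameFrac_unit_right (c : Aˣ) {y : K} (hy : y ≠ 0) :
    tameFrac A y (algebraMap A K c) = residue A (c : A) ^ (- ordFrac A K y) := by
  have hc : (c : A) ∈ nonZeroDivisors A := c.isUnit.mem_nonZeroDivisors
  have hc0 : algebraMap A K c ≠ 0 := IsFractionRing.to_map_ne_zero_of_mem_nonZeroDivisors hc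
  rw [tameFrac_symm hA hc0 hy, tameFrac_unit_left hA c hy, zpow_neg]

end tameFrac

end Groth.Agent.CycB.TameFrac
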