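import Groth.Agent.CycB.TameFrac
import Groth.Agent.S1851
import Mathlib.RingTheory.Localization.Submodule

/-!
# The key formula on the fraction field of a two-dimensional Noetherian local domain
-/

set_option autoImplicit false

universe u v

namespace Groth.Agent.CycB.TameKey

open CycAlg IsLocalRing Groth.Agent.CycB.TameTransport Groth.Agent.CycB.TameFrac

theorem tameFrac_equiv {A A' : Type u} [CommRing A] [IsLocalRing A] [IsNoetherianRing A]
    [IsDomain A] [CommRing A'] [IsLocalRing A'] [IsNoetherianRing A'] [IsDomain A']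
    {K : Type v} [Field K] [Algebra A K] [IsFractionRing A K] [Algebra A' K] [IsFractionRing A' K]
    (hA : ringKrullDim A = 1) (e : A ≃+* A')
    (he : ∀ a, algebraMap A' K (e a) = algebraMap A K a) {x y : K} (hx : x ≠ 0) (hy : y ≠ 0) :
    tameFrac A' x y = ResidueField.mapEquiv e (tameFrac A x y) := by
  have hA' : ringKrullDim A' = 1 := by rw [← ringKrullDim_eq_of_ringEquiv e, hA]
  obtain ⟨a, b, ha, hb, h1⟩ := exists_frac (A := A) hx
  obtain ⟨c, d, hc, hd, h2⟩ := exists_frac (A := A) hy
  rw [tameFrac_eq hA ha hb hc hd h1 h2,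
    tameFrac_eq hA' (mem_nonZeroDivisors_equiv e ha) (mem_nonZeroDivisors_equiv e hb)
      (mem_nonZeroDivisors_equiv e hc) (mem_nonZeroDivisors_equiv e hd)
      (by rw [he, he, h1]) (by rw [he, he, h2]),
    tameSymbol_equiv hA e ha hc, tameSymbol_equiv hA e ha hd, tameSymbol_equiv hA e hb hc,
    tameSymbol_equiv hA e hb hd, map_div₀, map_mul, map_mul]

theorem ord_equiv {R R' : Type*} [CommRing R] [CommRing R'] (e : R ≃+* R') (a : R) :
    Ring.ord R' (e a) = Ring.ord R a := by
  unfold Ring.ord
  rw [Module.length_quotient, Module.length_quotient]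
  have h : e.symm.idealComapOrderIso (Ideal.span {a}) = Ideal.span {e a} := by
    change Ideal.comap (e.symm : R' →+* R) (Ideal.span {a}) = _
    have := Ideal.map_comap_of_equiv (I := Ideal.span {a}) e
    change Ideal.map (e : R →+* R') _ = Ideal.comap (e.symm : R' →+* R) _ at this
    rw [← this, Ideal.map_span, Set.image_singleton]
    rfl
  rw [← h]
  exact Order.coheight_orderIso _ _

/-- invariance of `ordFrac` under isomorphisms -/
theorem ordFrac_equiv {R R' : Type u} [CommRing R] [CommRing R']
    {K K' : Type v} [Field K] [Algebra R K] [Field K'] [Algebra R' K']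
    (e : R ≃+* R') (g : K ≃+* K') (h : ∀ a, g (algebraMap R K a) = algebraMap R' K' (e a)) (f : K) :
    ordFrac R' K' (g f) = ordFrac R K f := by
  have key : ∀ {R R' : Type u} [CommRing R] [CommRing R']
    {K K' : Type v} [Field K] [Algebra R K] [Field K'] [Algebra R' K']
    (e : R ≃+* R') (g : K ≃+* K') (h : ∀ a, g (algebraMap R K a) = algebraMap R' K' (e a)),
    (IsNoetherianRing R ∧ Ring.KrullDimLE 1 R ∧ Nontrivial R ∧ IsFractionRing R K) →
    (IsNoetherianRing R' ∧ Ring.KrullDimLE 1 R' ∧ Nontrivial R' ∧ IsFractionRing R' K') := by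
    intro R R' _ _ K K' _ _ _ _ e g h ⟨h1, h2, h3, h4⟩
    refine ⟨isNoetherianRing_of_ringEquiv R e, ?_, e.symm.toEquiv.nontrivial, ?_⟩
    · rw [Ring.KrullDimLE, Order.krullDimLE_iff] at h2 ⊢
      have := ringKrullDim_eq_of_ringEquiv e
      rw [ringKrullDim, ringKrullDim] at this
      rw [← this]
      exact h2
    · let _ : Algebra R K' := (g.toRingHom.comp (algebraMap R K)).toAlgebra
      have : IsFractionRing R K' := IsFractionRing.of_algEquiv (K := K)
        { g with commutes' := fun _ => rfl }
      refine IsFractionRing.of_ringEquiv_left e.symm fun x => ?_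
      change _ = g (algebraMap R K (e.symm x))
      rw [h, e.apply_symm_apply]
  by_cases hh : IsNoetherianRing R ∧ Ring.KrullDimLE 1 R ∧ Nontrivial R ∧ IsFractionRing R K
  · obtain ⟨h1', h2', h3', h4'⟩ := key e g h hh
    obtain ⟨h1, h2, h3, h4⟩ := hh
    by_cases hf : f = 0
    · rw [hf, map_zero, ordFrac_def', ordFrac_def', map_zero, map_zero]
    · obtain ⟨a, b, hb, rfl⟩ := IsFractionRing.div_surjective (A := R) f
      have hb0 : algebraMap R K b ≠ 0 := IsFractionRing.to_map_ne_zero_of_mem_nonZeroDivisors hb
      have ha0 : algebraMap R K a ≠ 0 := by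
        rintro h0
        rw [h0, zero_div] at hf
        exact hf rfl
      have ha : a ∈ nonZeroDivisors R := by
        have hd : IsDomain R := (IsFractionRing.injective R K).isDomain
        rw [mem_nonZeroDivisors_iff_ne_zero]
        rintro rfl
        exact ha0 (map_zero _)
      have ga0 := (map_ne_zero g).2 ha0
      have gb0 := (map_ne_zero g).2 hb0
      rw [map_div₀, ordFrac_div R K ha0 hb0, ordFrac_div R' K' ga0 gb0, h, h,
        ordFrac_algebraMap R K ha, ordFrac_algebraMap R K hb,
        ordFrac_algebraMap R' K' (mem_nonZeroDivisors_equiv e ha),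
        ordFrac_algebraMap R' K' (mem_nonZeroDivisors_equiv e hb), ord_equiv, ord_equiv]
  · have hh' : ¬ (IsNoetherianRing R' ∧ Ring.KrullDimLE 1 R' ∧ Nontrivial R' ∧
        IsFractionRing R' K') := by
      intro h'
      refine hh (key e.symm g.symm (fun a => ?_) h')
      rw [RingEquiv.symm_apply_eq, h, e.apply_symm_apply]
    unfold ordFrac
    rw [dif_neg hh, dif_neg hh']

section twoDim

variable {A : Type u} [CommRing A] [IsDomain A] [IsNoetherianRing A]

/-- the term of the key formula at a prime q -/
noncomputable def term (q : PrimeSpectrum A) (a c : A) : ℤ :=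
  CycAlg.ordFrac (A ⧸ q.asIdeal) q.asIdeal.ResidueField
    (CycAlg.tameSymbol (Localization.AtPrime q.asIdeal)
      (algebraMap A (Localization.AtPrime q.asIdeal) a)
      (algebraMap A (Localization.AtPrime q.asIdeal) c))

omit [IsDomain A] [IsNoetherianRing A] in
theorem krullDim_atPrime {q : PrimeSpectrum A} (hq : q.asIdeal.height = 1) (B : Type*) [CommRing B]
    [Algebra A B] [IsLocalization.AtPrime B q.asIdeal] : ringKrullDim B = 1 := by
  rw [IsLocalization.AtPrime.ringKrullDim_eq_height q.asIdeal, hq]
  rfl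

omit [IsNoetherianRing A] in
theorem nzd_atPrime (q : PrimeSpectrum A) {a : A} (ha : a ≠ 0) :
    algebraMap A (Localization.AtPrime q.asIdeal) a ∈
      nonZeroDivisors (Localization.AtPrime q.asIdeal) := by
  have hinj := IsLocalization.injective (Localization.AtPrime q.asIdeal)
    q.asIdeal.primeCompl_le_nonZeroDivisors
  have : IsDomain (Localization.AtPrime q.asIdeal) :=
    IsLocalization.isDomain_localization q.asIdeal.primeCompl_le_nonZeroDivisors
  rw [mem_nonZeroDivisors_iff_ne_zero]
  exact (map_ne_zero_iff _ hinj).2 ha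

omit [IsDomain A] in
theorem term_eq_zero {q : PrimeSpectrum A} (hq : q.asIdeal.height = 1) {a c : A}
    (ha : a ∉ q.asIdeal) (hc : c ∉ q.asIdeal) : term q a c = 0 := by
  have hd := krullDim_atPrime hq (Localization.AtPrime q.asIdeal)
  have ha' : IsUnit (algebraMap A (Localization.AtPrime q.asIdeal) a) :=
    IsLocalization.map_units (Localization.AtPrime q.asIdeal) (⟨a, ha⟩ : q.asIdeal.primeCompl)
  have hc' : IsUnit (algebraMap A (Localization.AtPrime q.asIdeal) c) :=
    IsLocalization.map_units (Localization.AtPrime q.asIdeal) (⟨c, hc⟩ : q.asIdeal.primeCompl)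
  obtain ⟨u, hu⟩ := ha'
  have hN : IsNoetherianRing (Localization.AtPrime q.asIdeal) :=
    IsLocalization.isNoetherianRing q.asIdeal.primeCompl _ inferInstance
  unfold term
  rw [← hu, symbol_unit_left _ hd u hc'.mem_nonZeroDivisors, Ring.ord_of_isUnit hc']
  simp [ordFrac_one]

theorem finite_term {a c : A} (ha : a ≠ 0) (hc : c ≠ 0) :
    {q : PrimeSpectrum A | q.asIdeal.height = 1 ∧ term q a c ≠ 0}.Finite := by
  have hfin := (Ideal.span {a * c}).finite_minimalPrimes_of_isNoetherianRing A
  have : Set.MapsTo (fun q : PrimeSpectrum A => q.asIdeal)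
      {q : PrimeSpectrum A | q.asIdeal.height = 1 ∧ term q a c ≠ 0}
      (Ideal.span {a * c}).minimalPrimes := by
    rintro q ⟨h1, h2⟩
    have hac : a * c ∈ q.asIdeal := by
      by_contra h3
      apply h2
      apply term_eq_zero h1
      · exact fun h => h3 (Ideal.mul_mem_right _ _ h)
      · exact fun h => h3 (Ideal.mul_mem_left _ _ h)
    have hle : Ideal.span {a * c} ≤ q.asIdeal := by
      rw [Ideal.span_singleton_le_iff_mem]
      exact hac
    have : q.asIdeal.FiniteHeight := ⟨Or.inr (by rw [h1]; exact ENat.one_ne_top)⟩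
    apply Ideal.mem_minimalPrimes_of_height_le hle
    rw [h1]
    exact Ideal.one_le_height_span_singleton_of_mem_nonZeroDivisors
      (mem_nonZeroDivisors_of_ne_zero (mul_ne_zero ha hc))
  refine Set.Finite.of_injOn this ?_ hfin
  intro q _ q' _ h
  exact PrimeSpectrum.ext h

/-- Key formula for the fraction field in "abstract terms" form. -/
theorem finsum_eq_zero [IsLocalRing A] (hA : ringKrullDim A = 2) {K : Type v} [Field K]
    [Algebra A K] [IsFractionRing A K] {Z : Type*} (q : Z → PrimeSpectrum A)
    (hinj : Function.Injective q)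
    (hrange : ∀ p : PrimeSpectrum A, p.asIdeal.height = 1 ↔ p ∈ Set.range q) {x y : K}
    (hx : x ≠ 0) (hy : y ≠ 0) (F : Z → ℤ)
    (hF : ∀ (z : Z) (a b c d : A), a ≠ 0 → b ≠ 0 → c ≠ 0 → d ≠ 0 →
      x * algebraMap A K b = algebraMap A K a → y * algebraMap A K d = algebraMap A K c →
      F z = term (q z) a c + term (q z) b d - (term (q z) a d + term (q z) b c)) :
    (F.support).Finite ∧ ∑ᶠ z, F z = 0 := by
  obtain ⟨a, b, ha, hb, h1⟩ := exists_frac (A := A) hx
  obtain ⟨c, d, hc, hd, h2⟩ := exists_frac (A := A) hy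
  have ha := nonZeroDivisors.ne_zero ha
  have hb := nonZeroDivisors.ne_zero hb
  have hc := nonZeroDivisors.ne_zero hc
  have hd := nonZeroDivisors.ne_zero hd
  have hfin : ∀ {a c : A}, a ≠ 0 → c ≠ 0 → (Function.support fun z => term (q z) a c).Finite := by
    intro a c ha hc
    refine Set.Finite.of_injOn (f := q) (t := {q | q.asIdeal.height = 1 ∧ term q a c ≠ 0}) ?_
      hinj.injOn (finite_term ha hc)
    intro z hz
    exact ⟨(hrange _).2 ⟨z, rfl⟩, hz⟩
  have hsum : ∀ {a c : A}, a ≠ 0 → c ≠ 0 → ∑ᶠ z, term (q z) a c = 0 := by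
    intro a c ha hc
    have := S1851.result A hA a c (mem_nonZeroDivisors_of_ne_zero ha)
      (mem_nonZeroDivisors_of_ne_zero hc)
    rw [← this]
    refine (finsum_mem_range (f := fun p : PrimeSpectrum A => term p a c) hinj).symm.trans ?_
    apply finsum_congr
    intro p
    classical
    by_cases hp : p.asIdeal.height = 1
    · rw [finsum_eq_if, finsum_eq_if, if_pos hp, if_pos ((hrange p).1 hp)]
      rfl
    · rw [finsum_eq_if, finsum_eq_if, if_neg hp, if_neg fun h => hp ((hrange p).2 h)]
  have hF' : F = fun z => term (q z) a c + term (q z) b d - (term (q z) a d + term (q z) b c) :=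
    funext fun z => hF z a b c d ha hb hc hd h1 h2
  constructor
  · rw [hF']
    refine (((hfin ha hc).union (hfin hb hd)).union ((hfin ha hd).union (hfin hb hc))).subset ?_
    intro z hz
    by_contra h
    simp only [Set.mem_union, Function.mem_support, not_or, not_not] at h hz
    apply hz
    rw [h.1.1, h.1.2, h.2.1, h.2.2]
    rfl
  · rw [hF', finsum_sub_distrib, finsum_add_distrib, finsum_add_distrib, hsum ha hc, hsum hb hd,
      hsum ha hd, hsum hb hc]
    · rfl
    · exact hfin ha hd
    · exact hfin hb hc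
    · exact hfin ha hc
    · exact hfin hb hd
    · exact ((hfin ha hc).union (hfin hb hd)).subset (Function.support_add _ _)
    · exact ((hfin ha hd).union (hfin hb hc)).subset (Function.support_add _ _)

/-- The local term of the key formula in terms of an arbitrary model (B, C, k) of
(A_q, A/q, κ(q)). -/
theorem model_term {K : Type v} [Field K] [Algebra A K] [IsFractionRing A K]
    (q : PrimeSpectrum A) (hq : q.asIdeal.height = 1)
    (B : Type u) [CommRing B] [IsLocalRing B] [IsDomain B] [IsNoetherianRing B] [Algebra A B]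
    [IsLocalization.AtPrime B q.asIdeal] [Algebra B K] [IsScalarTower A B K] [IsFractionRing B K]
    (C : Type u) [CommRing C] [Algebra A C] (hC : Function.Surjective (algebraMap A C))
    (hker : RingHom.ker (algebraMap A C) = q.asIdeal) (k : Type u) [Field k] [Algebra C k]
    (e : ResidueField B ≃+* k)
    (he : ∀ a, e (residue B (algebraMap A B a)) = algebraMap C k (algebraMap A C a))
    {x y : K} {a b c d : A} (ha : a ≠ 0) (hb : b ≠ 0) (hc : c ≠ 0) (hd : d ≠ 0)
    (h1 : x * algebraMap A K b = algebraMap A K a)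
    (h2 : y * algebraMap A K d = algebraMap A K c) :
    ordFrac C k (e (tameFrac B x y)) =
      term q a c + term q b d - (term q a d + term q b c) := by
  have hB := krullDim_atPrime hq B
  have hinj : Function.Injective (algebraMap A B) :=
    IsLocalization.injective B q.asIdeal.primeCompl_le_nonZeroDivisors
  have nz : ∀ {a : A}, a ≠ 0 → algebraMap A B a ∈ nonZeroDivisors B := fun ha =>
    mem_nonZeroDivisors_of_ne_zero ((map_ne_zero_iff _ hinj).2 ha)
  rw [tameFrac_eq hB (nz ha) (nz hb) (nz hc) (nz hd)
    (by rw [← IsScalarTower.algebraMap_apply, ← IsScalarTower.algebraMap_apply, h1])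
    (by rw [← IsScalarTower.algebraMap_apply, ← IsScalarTower.algebraMap_apply, h2])]
  have hN : IsNoetherianRing (Localization.AtPrime q.asIdeal) :=
    IsLocalization.isNoetherianRing q.asIdeal.primeCompl _ inferInstance
  let ε : Localization.AtPrime q.asIdeal ≃ₐ[A] B :=
    IsLocalization.algEquiv q.asIdeal.primeCompl _ _
  have hsym : ∀ {a c : A}, a ≠ 0 → c ≠ 0 → tameSymbol B (algebraMap A B a) (algebraMap A B c) =
      ResidueField.mapEquiv ε.toRingEquiv (tameSymbol (Localization.AtPrime q.asIdeal)
      (algebraMap A (Localization.AtPrime q.asIdeal) a)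
      (algebraMap A (Localization.AtPrime q.asIdeal) c)) := by
    intro a c ha hc
    rw [← tameSymbol_equiv (krullDim_atPrime hq _) ε.toRingEquiv (nzd_atPrime q ha)
      (nzd_atPrime q hc)]
    congr 1
    · exact (ε.commutes a).symm
    · exact (ε.commutes c).symm
  let θ : A ⧸ q.asIdeal ≃+* C :=
    (Ideal.quotEquivOfEq hker.symm).trans (RingHom.quotientKerEquivOfSurjective hC)
  have hθ : ∀ a : A, θ (Ideal.Quotient.mk _ a) = algebraMap A C a := fun a => rfl
  have hterm : ∀ {a c : A}, a ≠ 0 → c ≠ 0 →
      ordFrac C k (e (tameSymbol B (algebraMap A B a) (algebraMap A B c))) = term q a c := by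
    intro a c ha hc
    rw [hsym ha hc]
    exact ordFrac_equiv θ ((ResidueField.mapEquiv ε.toRingEquiv).trans e) (by
      intro a
      obtain ⟨a, rfl⟩ := Ideal.Quotient.mk_surjective a
      rw [hθ, ← he, Ideal.algebraMap_quotient_residueField_mk]
      simp only [RingEquiv.coe_trans, Function.comp_apply, ResidueField.mapEquiv_apply]
      congr 1
      change ResidueField.map _ (residue _ (algebraMap A (Localization.AtPrime q.asIdeal) a)) = _
      rw [ResidueField.map_residue]
      congr 1
      exact ε.commutes a) _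
  have hne : ∀ {a c : A}, a ≠ 0 → c ≠ 0 →
      e (tameSymbol B (algebraMap A B a) (algebraMap A B c)) ≠ 0 := by
    intro a c ha hc
    exact (map_ne_zero e).2 (symbol_ne_zero B hB (nz ha) (nz hc))
  rw [map_div₀, map_mul, map_mul, ordFrac_div C k (mul_ne_zero (hne ha hc) (hne hb hd))
    (mul_ne_zero (hne ha hd) (hne hb hc)), ordFrac_mul C k (hne ha hc) (hne hb hd),
    ordFrac_mul C k (hne ha hd) (hne hb hc), hterm ha hc, hterm hb hd, hterm ha hd, hterm hb hc]

end twoDim

end Groth.Agent.CycB.TameKey
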