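import Groth.Agent.CycB.TameKey
import Groth.Agent.CycB.OrdFrac

/-!
# The tame symbol along an immediate specialization ξ ⤳ ζ

For ξ ⤳ ζ with δ ζ + 1 = δ ξ the ring `LocQuot ζ ξ` is a one-dimensional Noetherian local domain
with fraction field κ(ξ) and residue field κ(ζ); `tamePt` is its tame symbol κ(ξ)^* × κ(ξ)^* → κ(ζ)^*.
-/

set_option autoImplicit false

universe u

open AlgebraicGeometry CategoryTheory IsLocalRing

namespace Groth.Agent.CycB.TamePt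

open Groth.Agent.CycB.TameFrac Groth.Agent.CycB.TameKey Groth.Agent.CycB.TameTransport

variable {X : Scheme.{u}}

instance isLocalHom_mk (ζ ξ : X) (h : ξ ⤳ ζ) :
    IsLocalHom (Ideal.Quotient.mk (RingHom.ker (Cyc.specMap ζ ξ h))) :=
  IsLocalHom.of_surjective _ Ideal.Quotient.mk_surjective

/-- κ(ζ) is the residue field of `O_{X,ζ}/𝔭_ξ` -/
noncomputable def rho (ζ ξ : X) (h : ξ ⤳ ζ) :
    X.residueField ζ ≃+* ResidueField (Cyc.LocQuot ζ ξ h) :=
  RingEquiv.ofBijective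
    (ResidueField.map (Ideal.Quotient.mk (RingHom.ker (Cyc.specMap ζ ξ h))) :
      ResidueField (X.presheaf.stalk ζ) →+* ResidueField (Cyc.LocQuot ζ ξ h)) (by
    refine ⟨RingHom.injective _, fun y => ?_⟩
    obtain ⟨y, rfl⟩ := residue_surjective y
    obtain ⟨y, rfl⟩ := Ideal.Quotient.mk_surjective y
    exact ⟨residue _ y, rfl⟩)

theorem rho_residue (ζ ξ : X) (h : ξ ⤳ ζ) (a : X.presheaf.stalk ζ) :
    rho ζ ξ h (X.residue ζ a) = residue (Cyc.LocQuot ζ ξ h) (Ideal.Quotient.mk _ a) := rfl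

theorem rho_symm_residue (ζ ξ : X) (h : ξ ⤳ ζ) (a : X.presheaf.stalk ζ) :
    (rho ζ ξ h).symm (residue (Cyc.LocQuot ζ ξ h) (Ideal.Quotient.mk _ a)) = X.residue ζ a := by
  rw [← rho_residue, RingEquiv.symm_apply_apply]

/-- The tame symbol along the immediate specialization ξ ⤳ ζ. -/
noncomputable def tamePt (ζ ξ : X) (h : ξ ⤳ ζ) (a b : X.residueField ξ) : X.residueField ζ :=
  (rho ζ ξ h).symm (tameFrac (Cyc.LocQuot ζ ξ h) a b)

variable [IsLocallyNoetherian X] {δ : X → ℤ} (hδ : Cyc.IsDimFun X δ) {ζ ξ : X} (h : ξ ⤳ ζ)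
  (hd : δ ζ + 1 = δ ξ)

include hδ hd in
theorem tamePt_ne_zero {a b : X.residueField ξ} (ha : a ≠ 0) (hb : b ≠ 0) :
    tamePt ζ ξ h a b ≠ 0 :=
  (map_ne_zero _).2 (tameFrac_ne_zero (LocQuot.ringKrullDim_locQuot_of_add_one hδ h hd) ha hb)

include hδ hd in
theorem tamePt_mul_left {a a' b : X.residueField ξ} (ha : a ≠ 0) (ha' : a' ≠ 0) (hb : b ≠ 0) :
    tamePt ζ ξ h (a * a') b = tamePt ζ ξ h a b * tamePt ζ ξ h a' b := by
  unfold tamePt
  rw [tameFrac_mul_left (LocQuot.ringKrullDim_locQuot_of_add_one hδ h hd) ha ha' hb, map_mul]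

include hδ hd in
theorem tamePt_mul_right {a b b' : X.residueField ξ} (ha : a ≠ 0) (hb : b ≠ 0) (hb' : b' ≠ 0) :
    tamePt ζ ξ h a (b * b') = tamePt ζ ξ h a b * tamePt ζ ξ h a b' := by
  unfold tamePt
  rw [tameFrac_mul_right (LocQuot.ringKrullDim_locQuot_of_add_one hδ h hd) ha hb hb', map_mul]

include hδ hd in
theorem tamePt_symm {a b : X.residueField ξ} (ha : a ≠ 0) (hb : b ≠ 0) :
    tamePt ζ ξ h b a = (tamePt ζ ξ h a b)⁻¹ := by
  unfold tamePt
  rw [tameFrac_symm (LocQuot.ringKrullDim_locQuot_of_add_one hδ h hd) ha hb, map_inv₀]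

omit [IsLocallyNoetherian X] in
theorem specMap_unit_ne_zero (u : (X.presheaf.stalk ζ)ˣ) :
    Cyc.specMap ζ ξ h (u : X.presheaf.stalk ζ) ≠ 0 :=
  (u.isUnit.map (Cyc.specMap ζ ξ h)).ne_zero

omit [IsLocallyNoetherian X] in
theorem residue_unit_ne_zero (u : (X.presheaf.stalk ζ)ˣ) :
    X.residue ζ (u : X.presheaf.stalk ζ) ≠ 0 :=
  (u.isUnit.map (X.residue ζ).hom).ne_zero

include hδ hd in
theorem tamePt_unit_left (u : (X.presheaf.stalk ζ)ˣ) {b : X.residueField ξ} (hb : b ≠ 0) :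
    tamePt ζ ξ h (Cyc.specMap ζ ξ h (u : X.presheaf.stalk ζ)) b =
      (X.residue ζ (u : X.presheaf.stalk ζ)) ^ (Cyc.ordAt ζ ξ h b) := by
  unfold tamePt
  let u' : (Cyc.LocQuot ζ ξ h)ˣ :=
    Units.map (Ideal.Quotient.mk (RingHom.ker (Cyc.specMap ζ ξ h))).toMonoidHom u
  have := tameFrac_unit_left (LocQuot.ringKrullDim_locQuot_of_add_one hδ h hd) u' hb
  have e : algebraMap (Cyc.LocQuot ζ ξ h) (X.residueField ξ) (u' : Cyc.LocQuot ζ ξ h) =
      Cyc.specMap ζ ξ h (u : X.presheaf.stalk ζ) := rfl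
  rw [← e, this, map_zpow₀]
  congr 1
  exact rho_symm_residue ζ ξ h _

include hδ hd in
theorem tamePt_unit_right (u : (X.presheaf.stalk ζ)ˣ) {b : X.residueField ξ} (hb : b ≠ 0) :
    tamePt ζ ξ h b (Cyc.specMap ζ ξ h (u : X.presheaf.stalk ζ)) =
      (X.residue ζ (u : X.presheaf.stalk ζ)) ^ (- Cyc.ordAt ζ ξ h b) := by
  rw [tamePt_symm hδ h hd (specMap_unit_ne_zero h u) hb, tamePt_unit_left hδ h hd u hb, zpow_neg]

end Groth.Agent.CycB.TamePt
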