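import Groth.Prelude.Def_Tame
import Groth.Agent.S1847
import Groth.Agent.S1848
import Mathlib.RingTheory.Norm.Basic

/-!
# Invariance of the tame symbol under ring isomorphisms, and its antisymmetry
-/

set_option autoImplicit false

universe u

namespace Groth.Agent.CycB.TameTransport

open CycAlg IsLocalRing

section transport

variable {A A' : Type u} [CommRing A] [IsLocalRing A] [CommRing A'] [IsLocalRing A']

/-- transport of tame data along a ring equivalence -/
noncomputable def transport (e : A ≃+* A') {a b : A} (D : TameData A a b) :
    TameData A' (e a) (e b) :=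
  letI alg : Algebra A' D.B := ((algebraMap A D.B).comp e.symm.toRingHom).toAlgebra
  have halg : ∀ x : A', algebraMap A' D.B x = algebraMap A D.B (e.symm x) := fun _ => rfl
  have halg2 : ∀ (q : MaximalSpectrum D.B) (x : A'),
      algebraMap A' (Localization.AtPrime q.asIdeal) x =
        algebraMap A (Localization.AtPrime q.asIdeal) (e.symm x) := by
    intro q x
    rw [IsScalarTower.algebraMap_apply A' D.B, halg, ← IsScalarTower.algebraMap_apply]
  { B := D.B
    commRing := D.commRing
    algebra := alg
    isFinExt := by
      obtain ⟨h1, h2, n, hn⟩ := D.isFinExt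
      refine ⟨?_, ?_, n, ?_⟩
      · intro x y hxy
        rw [halg, halg] at hxy
        exact e.symm.injective (h1 hxy)
      · have : (algebraMap A' D.B).Finite := by
          have h3 : (algebraMap A D.B).Finite := RingHom.finite_algebraMap.mpr h2
          exact RingHom.Finite.comp h3 (RingHom.Finite.of_surjective _ e.symm.surjective)
        exact RingHom.finite_algebraMap.mp this
      · intro r hr c
        have hr' : e.symm r ∈ maximalIdeal A ^ n := by
          have : (maximalIdeal A' ^ n).map (e.symm : A' →+* A) ≤ maximalIdeal A ^ n := by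
            rw [Ideal.map_pow]
            apply Ideal.pow_right_mono
            rw [Ideal.map_le_iff_le_comap]
            intro z hz
            rw [Ideal.mem_comap]
            simp only [mem_maximalIdeal, mem_nonunits_iff] at hz ⊢
            intro h
            apply hz
            simpa using h.map (e : A →+* A')
          exact this (Ideal.mem_map_of_mem _ hr)
        obtain ⟨z, hz⟩ := hn _ hr' c
        refine ⟨e z, ?_⟩
        rw [halg, e.symm_apply_apply, hz, Algebra.smul_def, Algebra.smul_def, halg]
    isLocalHom := by
      intro q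
      have := D.isLocalHom q
      constructor
      intro x hx
      rw [halg2] at hx
      have := isUnit_of_map_unit (algebraMap A (Localization.AtPrime q.asIdeal)) _ hx
      simpa using this.map (e : A →+* A')
    π := D.π
    π_mem := D.π_mem
    u₁ := D.u₁
    u₂ := D.u₂
    e₁ := D.e₁
    e₂ := D.e₂
    fac₁ := by
      intro q
      rw [halg2, e.symm_apply_apply]
      exact D.fac₁ q
    fac₂ := by
      intro q
      rw [halg2, e.symm_apply_apply]
      exact D.fac₂ q }

theorem transport_value (e : A ≃+* A') {a b : A} (D : TameData A a b) :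
    (transport e D).value = ResidueField.mapEquiv e D.value := by
  have h1 : ∀ q : MaximalSpectrum D.B,
      (transport e D).localFactor q = ResidueField.mapEquiv e (D.localFactor q) := by
    intro q
    unfold TameData.localFactor
    have h1 := D.isLocalHom q
    let alg : Algebra A' D.B := ((algebraMap A D.B).comp e.symm.toRingHom).toAlgebra
    have h2 : IsLocalHom (algebraMap A' (Localization.AtPrime q.asIdeal)) :=
      (transport e D).isLocalHom q
    rw [map_pow]
    congr 1
    have := Algebra.norm_eq_of_equiv_equiv (ResidueField.mapEquiv e)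
      (RingEquiv.refl (ResidueField (Localization.AtPrime q.asIdeal))) (by
        refine RingHom.ext fun x => ?_
        obtain ⟨x, rfl⟩ := residue_surjective x
        simp only [RingHom.comp_apply, RingHom.coe_coe, RingEquiv.coe_ringHom_refl, RingHom.id_apply,
          ResidueField.mapEquiv_apply, ResidueField.map_residue, ResidueField.algebraMap_residue]
        congr 1
        change algebraMap A (Localization.AtPrime q.asIdeal) (e.symm (e x)) = _
        rw [e.symm_apply_apply]) ((-1 : ResidueField (Localization.AtPrime q.asIdeal)) ^ (D.e₁ q * D.e₂ q) *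
        residue (Localization.AtPrime q.asIdeal) (D.u₁ q : Localization.AtPrime q.asIdeal) ^ D.e₂ q *
        (residue (Localization.AtPrime q.asIdeal) (D.u₂ q : Localization.AtPrime q.asIdeal) ^ D.e₁ q)⁻¹)
    rw [this, RingEquiv.apply_symm_apply]
    rfl
  unfold TameData.value
  rw [MulEquivClass.map_finprod]
  exact finprod_congr h1

theorem mem_nonZeroDivisors_equiv {R S : Type*} [CommRing R] [CommRing S] (e : R ≃+* S) {a : R}
    (ha : a ∈ nonZeroDivisors R) : e a ∈ nonZeroDivisors S := by
  rw [mem_nonZeroDivisors_iff_right] at ha ⊢
  intro x hx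
  have := ha (e.symm x) (by
    have := congrArg e.symm hx
    simpa using this)
  simpa using this

theorem nonempty_iff (e : A ≃+* A') {a b : A} :
    Nonempty (TameData A' (e a) (e b)) ↔ Nonempty (TameData A a b) := by
  constructor
  · rintro ⟨D⟩
    have := transport e.symm D
    rw [e.symm_apply_apply, e.symm_apply_apply] at this
    exact ⟨this⟩
  · rintro ⟨D⟩
    exact ⟨transport e D⟩

/-- The tame symbol is invariant under ring isomorphisms. -/
theorem tameSymbol_equiv [IsNoetherianRing A] (hA : ringKrullDim A = 1) (e : A ≃+* A') {a b : A}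
    (ha : a ∈ nonZeroDivisors A) (hb : b ∈ nonZeroDivisors A) :
    tameSymbol A' (e a) (e b) = ResidueField.mapEquiv e (tameSymbol A a b) := by
  have hN : IsNoetherianRing A' := isNoetherianRing_of_ringEquiv A e
  have hA' : ringKrullDim A' = 1 := by rw [← ringKrullDim_eq_of_ringEquiv e, hA]
  by_cases h : Nonempty (TameData A a b)
  · have h' : Nonempty (TameData A' (e a) (e b)) := (nonempty_iff e).2 h
    unfold tameSymbol
    rw [dif_pos h, dif_pos h', ← transport_value]
    exact S1847.result A' hA' _ _ (mem_nonZeroDivisors_equiv e ha) (mem_nonZeroDivisors_equiv e hb)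
      _ _
  · have h' : ¬ Nonempty (TameData A' (e a) (e b)) := fun h' => h ((nonempty_iff e).1 h')
    unfold tameSymbol
    rw [dif_neg h, dif_neg h', map_one]

end transport

section antisymm

variable (A : Type u) [CommRing A] [IsNoetherianRing A] [IsLocalRing A] (hA : ringKrullDim A = 1)

include hA in
theorem symbol_ne_zero {a b : A} (ha : a ∈ nonZeroDivisors A) (hb : b ∈ nonZeroDivisors A) :
    tameSymbol A a b ≠ 0 := (S1848.result A hA).1 a b ha hb

include hA in
theorem symbol_mul_left {a a' b : A} (ha : a ∈ nonZeroDivisors A) (ha' : a' ∈ nonZeroDivisors A)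
    (hb : b ∈ nonZeroDivisors A) :
    tameSymbol A (a * a') b = tameSymbol A a b * tameSymbol A a' b :=
  ((S1848.result A hA).2.1 a a' b ha ha' hb).1

include hA in
theorem symbol_mul_right {a a' b : A} (ha : a ∈ nonZeroDivisors A) (ha' : a' ∈ nonZeroDivisors A)
    (hb : b ∈ nonZeroDivisors A) :
    tameSymbol A b (a * a') = tameSymbol A b a * tameSymbol A b a' :=
  ((S1848.result A hA).2.1 a a' b ha ha' hb).2

include hA in
theorem symbol_self {b : A} (hb : b ∈ nonZeroDivisors A) :
    tameSymbol A b b = (-1) ^ (Ring.ord A b).toNat :=
  (S1848.result A hA).2.2.1 b hb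

include hA in
theorem symbol_unit_left (c : Aˣ) {b : A} (hb : b ∈ nonZeroDivisors A) :
    tameSymbol A (c : A) b = residue A (c : A) ^ (Ring.ord A b).toNat :=
  (S1848.result A hA).2.2.2.1 c b hb

theorem krullDimLE_one (A : Type*) [CommRing A] (hA : ringKrullDim A = 1) : Ring.KrullDimLE 1 A := by
  rw [Ring.KrullDimLE, Order.krullDimLE_iff]
  exact hA.le

include hA in
theorem symbol_antisymm {a b : A} (ha : a ∈ nonZeroDivisors A) (hb : b ∈ nonZeroDivisors A) :
    tameSymbol A a b * tameSymbol A b a = 1 := by
  have := krullDimLE_one A hA
  have hab := mul_mem ha hb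
  have h1 := symbol_self A hA hab
  rw [symbol_mul_left A hA ha hb hab, symbol_mul_right A hA ha hb ha,
    symbol_mul_right A hA ha hb hb, symbol_self A hA ha, symbol_self A hA hb,
    Ring.ord_mul A hb, ENat.toNat_add (Ring.ord_ne_top ha) (Ring.ord_ne_top hb), pow_add] at h1
  have h2 : ((-1 : ResidueField A) ^ (Ring.ord A a).toNat) * (-1) ^ (Ring.ord A b).toNat ≠ 0 := by
    apply mul_ne_zero <;> exact pow_ne_zero _ (neg_ne_zero.2 one_ne_zero)
  apply mul_left_cancel₀ h2
  linear_combination h1

end antisymm

end Groth.Agent.CycB.TameTransport
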